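import Cfsg.Agent.Intrinsic.TypeGTwo_m3
import Cfsg.Agent.McLLyComp.PumpT
import Cfsg.Agent.UGT.End_m3
import Cfsg.Agent.Lib.PSL2Inv
import Cfsg.Agent.ClassificationK.PCompTransport
import Cfsg.Agent.OddHalf.NI.FrameDef
import Cfsg.Agent.Cit.ParabSL2
import Cfsg.Agent.SignalizersComponents.SLQuasisimple
import Cfsg.Agent.SignalizersComponents.CoreOfCentralizer
import Cfsg.Agent.OddHalf.D9.DoubleKill_m3
import Cfsg.Agent.OddHalf.Stmts_m3
import Cfsg.Agent.UGT.End.MEleven
import Cfsg.Agent.OddHalf.NI.FTwo.ChartB_mg_m3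
import Cfsg.Agent.UGT.EndJ1.Main_m3
import Cfsg.Agent.UGT.A7.Mu_m3
import Cfsg.Agent.UAlt.SmallTools_m3
import Cfsg.Agent.UAlt.ModExists
import Mathlib
import Cfsg.Agent.UAlt.FourConj_m3
import Cfsg.Agent.UAlt.Mod
import Cfsg.Agent.GH.L2One.Inst_m3
import Cfsg.Agent.S0112
import Cfsg.Agent.S0113
import Cfsg.Agent.S1232
import Cfsg.Agent.S1235
import Cfsg.Agent.Lib.FastPerm
import Cfsg.Agent.OddHalf.NI.SUBlocks
import Cfsg.Agent.OddHalf.NI.CoverOf
import Cfsg.Agent.UGT.U2.FOne.TwESixEnd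
import Cfsg.Agent.OddHalf.NI.SpClosed
import Cfsg.Agent.OddHalf.NI.ClosedSL
import Cfsg.Agent.OddHalf.NI.FrameSp_m3
import Cfsg.Agent.S0269
import Cfsg.Agent.OddHalf.NI.OmegaPlus
import Cfsg.Agent.OddHalf.NI.OmegaSheet
import Cfsg.Agent.UGT.L34T2.Good_m3
import Cfsg.Agent.Cit.FamFb_m3
import Cfsg.Agent.TwoFusion.StronglyEmbeddedBasic
import Cfsg.Agent.FastGrp
import Cfsg.Agent.Prune
set_option linter.all false

section
prune_inst 0x7ff0fefb8ff83ddfdfff7e7ffedddffe19d4dfffefdffb4bffe8e3efafdf230239c5fba59de048ff1ee2e21630b87853f97eee7fe36bdc7ffffd5ff41ffbee1fb5e6b50951d488340fbc0ff603f07f8e7f3fffffffffdfffffffffffffffffbeffffffffffff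

-- part: UGT/U2/World_mg
section
prune_inst 0x4000080002000000000220001e428200010000080001404100000480cc620000a020b1200001400a880400380068110000c00000000000000400011804a190aa4202b348a10426009f808004000000000000020000000000000000000000000000000
set_option linter.all false
open scoped Cfsg.Agent.FastGrp

-- part: UGT/U2/Pump
section
/-!
# Pump-ups of 2-components, and 2-components of `D ⊓ C(s)` seen in `D / O(D)`

* `pump` : `s ∈ K'`, `K'` and `Z` 2-components of `X ⊓ C(s)`: `Z` lies in an `s`-invariant 2-component `D` of `X`;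
  either `s` fixes `D` and `D = Z O(D)`, or `K' ≤ D`.
* `isComp_qs`, `exists_lift`, `le_of_qs_le` : 2-components of `D ⊓ C(s)` and of `C(s̄)` in `D / O(D)`.
* `isComp_of_inf` : 2-components of `D ⊓ C(s)` are 2-components of `X ⊓ C(s)`.
-/

set_option autoImplicit false

open Cfsg Subgroup
open Cfsg.Agent.SignalizersComponents Cfsg.Agent.Lib
open Cfsg.Agent.SignalizersComponents.IntrinsicBasic
open Cfsg.Agent.SignalizersComponents.IntrinsicIntr
open Cfsg.Agent.Intrinsic.Basic Cfsg.Agent.Intrinsic.Cen Cfsg.Agent.Intrinsic.Quot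
open Cfsg.Agent.McLLyComp
open scoped commutatorElement

namespace Cfsg.Agent.UGT.U2

variable {G : Type*} [Group G] [Finite G]

/-- **(P)** -/
theorem pump {X K' Z : Subgroup G} {s : G} (hsX : s ∈ X) (hs : s * s = 1) (hsK : s ∈ K')
    (hK' : IsComp (X ⊓ centralizer ({s} : Set G)) K')
    (hZ : IsComp (X ⊓ centralizer ({s} : Set G)) Z) :
    ∃ D, IsComp X D ∧ Z ≤ D ∧ ((Fixes s D ∧ Z ⊔ core D = D) ∨ (¬ Fixes s D ∧ K' ≤ D)) := by
  obtain ⟨D, hD, -, h⟩ := PumpT.exists_pump hsX hs hZ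
  have hsD : s ∈ normalizer (D : Set G) :=
    hD.L2_le_normalizer (isComp_le_L2 hsX hs hK' hsK)
  have hZD : Z ≤ D := by
    rcases h with ⟨-, h⟩ | ⟨h, -⟩
    · exact h
    · exact absurd (mem_normalizer_iff_cj.mp hsD) h
  refine ⟨D, hD, hZD, ?_⟩
  by_cases hf : Fixes s D
  · left
    refine ⟨hf, ?_⟩
    obtain ⟨h1, h2⟩ := isComp_cen hD hsX hs hf
    have h3 : Z ≤ cen D s := by
      rw [← hZ.pElem_eq]
      exact PComponents.pElem_mono (le_inf hZD (hZ.le.trans inf_le_right))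
    rw [hZ.eq_of_le h1 h3]
    exact h2
  · right
    refine ⟨hf, ?_⟩
    obtain ⟨D', hD', hKD'⟩ := exists_pumpup hs hsK hK'
    by_cases hne : D = D'
    · rw [hne]; exact hKD'
    · exact absurd (hD.fixes_of_mem hD' hne (hKD' hsK)) hf

/-- A 2-component of `D ⊓ C(s)`, `D` a 2-component of `X`, is a 2-component of `X ⊓ C(s)`. -/
theorem isComp_of_inf {X D Z : Subgroup G} {s : G} (hD : IsComp X D)
    (hZ : IsComp (D ⊓ centralizer ({s} : Set G)) Z) : IsComp (X ⊓ centralizer ({s} : Set G)) Z := by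
  refine hZ.extend (inf_le_inf_right _ hD.le) ?_
  have h1 : (D.subgroupOf X).IsSubnormal := (isComp_iff.mp hD).2.1
  have h2 := h1.comap (Subgroup.inclusion (inf_le_left : X ⊓ centralizer ({s} : Set G) ≤ X))
  convert h2 using 1
  ext ⟨y, hy⟩
  constructor
  · intro h
    exact h.1
  · intro h
    exact ⟨h, hy.2⟩

/-- the image in `D / O(D)` -/
theorem isComp_qs {D Z : Subgroup G} {s : G} (hsD : s ∈ D) (hs : s * s = 1)
    (hZ : IsComp (D ⊓ centralizer ({s} : Set G)) Z) :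
    IsComp (centralizer ({(QuotientGroup.mk ⟨s, hsD⟩ : ↥D ⧸ oddCore ↥D)} : Set _)) (qs D Z) :=
  IsComp.of_tc (Cfsg.Agent.Intrinsic.PumpUp.tc_image hsD hs hZ.tc)

omit [Finite G] in
/-- the kernel of `C_D(s) → C(s̄)` -/
theorem mem_ker_centMap {D : Subgroup G} {s : G} (hsD : s ∈ D)
    (m : ↥(D ⊓ centralizer ({s} : Set G))) : m ∈ (centMap D s hsD).ker ↔ (m : G) ∈ core D := by
  rw [MonoidHom.mem_ker, Subtype.ext_iff, centMap_coe, mem_core_iff m.2.1]
  exact QuotientGroup.eq_one_iff _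

theorem odd_ker_centMap {D : Subgroup G} {s : G} (hsD : s ∈ D) :
    Odd (Nat.card (centMap D s hsD).ker) := by
  have h1 : (centMap D s hsD).ker.map (D ⊓ centralizer ({s} : Set G)).subtype ≤ core D := by
    rintro _ ⟨m, hm, rfl⟩
    exact (mem_ker_centMap hsD m).mp hm
  have h2 := Subgroup.card_dvd_of_le h1
  rw [card_map_of_injective (D ⊓ centralizer ({s} : Set G)).subtype_injective] at h2
  exact Odd.of_dvd_nat (odd_card_core D) h2

/-- 2-components of `C(s̄)` that are quasisimple lift. -/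
theorem exists_lift_comp {D : Subgroup G} {s : G} (hsD : s ∈ D) (hs : s * s = 1)
    {E : Subgroup (↥D ⧸ oddCore ↥D)}
    (hE : IsComp (centralizer ({(QuotientGroup.mk ⟨s, hsD⟩ : ↥D ⧸ oddCore ↥D)} : Set _)) E)
    (hq : IsQuasisimple ↥E) :
    ∃ Z, IsComp (D ⊓ centralizer ({s} : Set G)) Z ∧ qs D Z = E := by
  have hC : IsComponent (E.subgroupOf
      (centralizer ({(QuotientGroup.mk ⟨s, hsD⟩ : ↥D ⧸ oddCore ↥D)} : Set _))) := by
    refine ⟨(isComp_iff.mp hE).2.1, ?_⟩
    exact Components.isQuasisimple_of_mulEquiv (subgroupOfEquivOfLe hE.le).symm hq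
  have h2 : 2 ∣ Nat.card (E.subgroupOf
      (centralizer ({(QuotientGroup.mk ⟨s, hsD⟩ : ↥D ⧸ oddCore ↥D)} : Set _))) := by
    rw [Nat.card_congr (subgroupOfEquivOfLe hE.le).toEquiv]
    exact hE.even
  obtain ⟨h3, h4⟩ := IntrinsicLift.lift_component (centMap D s hsD)
    (centMap_surjective D s hsD hs) (odd_ker_centMap hsD) hC h2
  refine ⟨_, isComp_of_subtype h3, ?_⟩
  ext x
  constructor
  · rintro ⟨m, hm, rfl⟩
    obtain ⟨m', hm', hmm⟩ := hm
    have h5 : (centMap D s hsD) m' ∈ (E.subgroupOf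
        (centralizer ({(QuotientGroup.mk ⟨s, hsD⟩ : ↥D ⧸ oddCore ↥D)} : Set _))) := by
      rw [← h4]
      exact ⟨m', hm', rfl⟩
    have h6 : m = ⟨(m' : G), m'.2.1⟩ := Subtype.ext hmm.symm
    rw [h6]
    exact h5
  · intro hx
    have h5 : (⟨x, hE.le hx⟩ : ↥(centralizer
        ({(QuotientGroup.mk ⟨s, hsD⟩ : ↥D ⧸ oddCore ↥D)} : Set _))) ∈ (E.subgroupOf
      (centralizer ({(QuotientGroup.mk ⟨s, hsD⟩ : ↥D ⧸ oddCore ↥D)} : Set _))) := hx
    rw [← h4] at h5
    obtain ⟨m, hm, hmx⟩ := h5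
    exact ⟨⟨(m : G), m.2.1⟩, ⟨m, hm, rfl⟩, congrArg Subtype.val hmx⟩

omit [Finite G] in
theorem mk_mem_qs {D Z : Subgroup G} {z : G} (hzD : z ∈ D) (hz : z ∈ Z) :
    (QuotientGroup.mk ⟨z, hzD⟩ : ↥D ⧸ oddCore ↥D) ∈ qs D Z :=
  (mem_qs hzD).mpr ⟨z, ⟨hz, hzD⟩, by simp⟩

/-- a 2-element `z` of `C_D(s)` with image in the image of `Z` lies in `Z` -/
theorem mem_of_mk_mem {D Z : Subgroup G} {s z : G} (hsD : s ∈ D) (hs : s * s = 1)
    (hZ : IsComp (D ⊓ centralizer ({s} : Set G)) Z) (hzD : z ∈ D)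
    (hzs : z ∈ centralizer ({s} : Set G)) {n : ℕ} (hn : z ^ 2 ^ n = 1)
    (h : (QuotientGroup.mk ⟨z, hzD⟩ : ↥D ⧸ oddCore ↥D) ∈ qs D Z) : z ∈ Z := by
  obtain ⟨j, ⟨hj, hjD⟩, hc⟩ := (mem_qs hzD).mp h
  refine hZ.mem_of_two hj ?_ hn
  have h1 : core D ⊓ centralizer ({s} : Set G) ≤ core (D ⊓ centralizer ({s} : Set G)) := by
    refine le_core (inf_le_inf_right _ (core_le D)) ?_ ?_
    · intro g hg
      have h2 : g ∈ normalizer (core D : Set G) := le_normalizer_core _ hg.1
      have h3 : g ∈ normalizer (centralizer ({s} : Set G) : Set G) := le_normalizer hg.2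
      rw [mem_normalizer_iff]
      intro y
      rw [mem_inf, mem_inf]
      exact and_congr (mem_normalizer_iff.mp h2 y) (mem_normalizer_iff.mp h3 y)
    · exact Odd.of_dvd_nat (odd_card_core D) (card_dvd_of_le inf_le_left)
  exact h1 ⟨hc, (centralizer ({s} : Set G)).mul_mem
    ((centralizer ({s} : Set G)).inv_mem (hZ.le hj).2) hzs⟩

/-- 2-components of `D ⊓ C(s)` with the same image are equal. -/
theorem eq_of_qs_eq {D Z Z' : Subgroup G} {s : G} (hsD : s ∈ D) (hs : s * s = 1)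
    (hZ : IsComp (D ⊓ centralizer ({s} : Set G)) Z)
    (hZ' : IsComp (D ⊓ centralizer ({s} : Set G)) Z') (h : qs D Z = qs D Z') : Z = Z' := by
  refine hZ.eq_of_le hZ' (hZ.le_of_two fun k hk n hn => ?_)
  have hkD := (hZ.le hk).1
  refine mem_of_mk_mem hsD hs hZ' hkD (hZ.le hk).2 hn ?_
  rw [← h]
  exact mk_mem_qs hkD hk

end Cfsg.Agent.UGT.U2
end

-- part: UGT/U2/ThmX
section
/-!
# THEOREM X modulo cores: no family of commuting intrinsic 2-components (node U2 of S1311)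

`G` finite. A predicate `Q` on subgroups (`K / O(K) ≃ SL₂(q)`): two commuting involutions of `K` are equal (`UI`), `Q`
depends only on `K / O(K)`, and no 2-component `K ∋ z` of `C(z)`, `z` an involution, has the property `Q`. Inputs: (F2')
(`F2p`, in `D / O(D)`: three 2-components of `C_D(d)`, with involutions `c`, `d`, `c d`, and the data `P`) and the
impossibility of Solomon's configuration (`Sol`). Then there is no nonempty finite set `R` of pairwise commuting
involutions such that `a b ≠ c` for distinct `a b c ∈ R` and every `a ∈ R` lies in a 2-component `K_a` of `C(R)` with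
property `Q`.

Take `R` minimal. For `k ∈ R` let `D k` be the 2-component of `C(R - k)` containing `K k`. By minimality some `β k ≠ k`
has `K (β k) ≤ D k`, and `k` is not trivial on `D k / O(D k)`. By (F2') `β k` is unique; then `β (β k) = k`, and `D k`,
`D (β k)` are Solomon's configuration in `C(R - {k, β k})`.
-/

set_option autoImplicit false

open Cfsg Subgroup
open Cfsg.Agent.SignalizersComponents Cfsg.Agent.Lib
open Cfsg.Agent.Intrinsic.Basic
open Cfsg.Agent.McLLyComp.Act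
open scoped commutatorElement

namespace Cfsg.Agent.UGT.U2.ThmX

variable {G : Type*} [Group G]

/-- pairwise commuting involutions -/
structure CInv (S : Set G) : Prop where
  ord : ∀ s ∈ S, orderOf s = 2
  comm : ∀ s ∈ S, ∀ s' ∈ S, s * s' = s' * s

theorem CInv.mono {S T : Set G} (h : CInv T) (hST : S ⊆ T) : CInv S :=
  ⟨fun s hs => h.ord s (hST hs), fun s hs s' hs' => h.comm s (hST hs) s' (hST hs')⟩

/-- commuting involutions of `K` are equal -/
def UI (K : Subgroup G) : Prop :=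
  ∀ x ∈ K, ∀ y ∈ K, orderOf x = 2 → orderOf y = 2 → x * y = y * x → x = y

/-- **(F2')** modulo cores -/
def F2p (Q : Subgroup G → Prop) (P : G → G → Subgroup G → Subgroup G → Subgroup G → Subgroup G → Prop) : Prop :=
  ∀ (S : Set G) (c d : G) (D A B : Subgroup G), CInv (insert d S) → c ∈ S → c ≠ d →
    IsComp (centralizer S) D → d ∈ D → ¬ Fixes d D → c ∈ A → d ∈ B → Q A → Q B → A ≠ B →
    IsComp (D ⊓ centralizer ({d} : Set G)) A → IsComp (D ⊓ centralizer ({d} : Set G)) B →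
    ∃ B' : Subgroup G, IsComp (D ⊓ centralizer ({d} : Set G)) B' ∧ UI B' ∧ c * d ∈ B' ∧
      (∀ K : Subgroup G, IsComp (D ⊓ centralizer ({d} : Set G)) K → K = A ∨ K = B ∨ K = B') ∧
      P c d D A B B'

/-- Solomon's configuration does not exist. -/
def Sol (P : G → G → Subgroup G → Subgroup G → Subgroup G → Subgroup G → Prop) : Prop :=
  ∀ (S : Set G) (u v : G) (Du Dv Ju Jv Jw : Subgroup G), CInv (insert u (insert v S)) → u ≠ v →
    IsComp (centralizer (insert u S)) Du → IsComp (centralizer (insert v S)) Dv →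
    P u v Du Ju Jv Jw → P v u Dv Jv Ju Jw → False

theorem centralizer_insert (t : G) (S : Set G) :
    centralizer (insert t S) = centralizer S ⊓ centralizer ({t} : Set G) := by
  ext x
  simp only [mem_inf, mem_centralizer_iff, Set.mem_insert_iff, Set.mem_singleton_iff, forall_eq_or_imp,
    forall_eq]
  tauto

theorem sq_of_order {x : G} (h : orderOf x = 2) : x * x = 1 := by
  rw [← pow_two, ← h, pow_orderOf_eq_one]

theorem ne_one_of_order {x : G} (h : orderOf x = 2) : x ≠ 1 := by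
  rintro rfl
  rw [orderOf_one] at h
  exact absurd h (by norm_num)

/-- product of distinct commuting involutions -/
theorem order_mul {x y : G} (hx : orderOf x = 2) (hy : orderOf y = 2) (hc : x * y = y * x) (hne : x ≠ y) :
    orderOf (x * y) = 2 := by
  refine orderOf_eq_prime ?_ ?_
  · rw [pow_two]
    calc x * y * (x * y) = x * (y * x) * y := by group
      _ = (x * x) * (y * y) := by rw [← hc]; group
      _ = 1 := by rw [sq_of_order hx, sq_of_order hy, one_mul]
  · intro h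
    apply hne
    rw [mul_eq_one_iff_eq_inv] at h
    rw [h]
    exact inv_eq_of_mul_eq_one_left (sq_of_order hy)

/-- an element of the centralizer of `D` is trivial on `D` -/
theorem fixes_of_central {D : Subgroup G} {a : G} (h : ∀ x ∈ D, a * x = x * a) : Fixes a D := by
  refine ⟨?_, ?_⟩
  · rw [mem_normalizer_iff]
    intro x
    constructor
    · intro hx
      rw [h x hx, mul_inv_cancel_right]
      exact hx
    · intro hx
      have h1 := h _ hx
      have h2 : a * x * a⁻¹ = x := by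
        have h3 : a * (a * x * a⁻¹) = a * x := by rw [h1]; group
        exact mul_left_cancel h3
      rwa [h2] at hx
  · intro y hy
    have h1 : ⁅a, y⁆ = 1 := by
      rw [commutatorElement_def, h y hy]
      group
    rw [h1]
    exact one_mem _

variable [Finite G] {Q : Subgroup G → Prop}
  {P : G → G → Subgroup G → Subgroup G → Subgroup G → Subgroup G → Prop}

/-- **THEOREM X** modulo cores -/
theorem false_of_set (hQ : ∀ K : Subgroup G, Q K → UI K)
    (hQc : ∀ H K D : Subgroup G, IsComp H D → K ⊔ core D = D → Q K → Q D)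
    (hcl : ∀ (z : G) (K : Subgroup G), orderOf z = 2 → z ∈ K → Q K → ¬ IsComp (centralizer ({z} : Set G)) K)
    (hF : F2p Q P) (hSol : Sol P) (R : Finset G) (hne : R.Nonempty) (hR : CInv (R : Set G))
    (hK : ∀ a ∈ R, ∃ K : Subgroup G, IsComp (centralizer (R : Set G)) K ∧ a ∈ K ∧ Q K)
    (h3 : ∀ a ∈ R, ∀ b ∈ R, ∀ c ∈ R, a ≠ b → a ≠ c → b ≠ c → a * b ≠ c) : False := by
  classical
  -- a minimal `A`
  let good : Finset G → Prop := fun A =>
    A ⊆ R ∧ A.Nonempty ∧ ∀ i ∈ A, ∃ K : Subgroup G, IsComp (centralizer (A : Set G)) K ∧ i ∈ K ∧ Q K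
  have hex : ∃ n : ℕ, ∃ A : Finset G, good A ∧ A.card = n := ⟨_, R, ⟨subset_rfl, hne, hK⟩, rfl⟩
  obtain ⟨A, ⟨hAR, hAne, hAK⟩, hAc⟩ := Nat.find_spec hex
  have hmin : ∀ B : Finset G, B ⊆ A → B.Nonempty → B ≠ A →
      ¬ ∀ i ∈ B, ∃ K : Subgroup G, IsComp (centralizer (B : Set G)) K ∧ i ∈ K ∧ Q K := by
    intro B hBA hB hBne h
    have h1 : B.card < A.card := Finset.card_lt_card (Finset.ssubset_iff_subset_ne.mpr ⟨hBA, hBne⟩)
    exact Nat.find_min hex (hAc ▸ h1) ⟨B, ⟨hBA.trans hAR, hB, h⟩, rfl⟩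
  clear hAc
  choose! K hKc hiK hKQ using hAK
  have ho : ∀ i ∈ A, orderOf i = 2 := fun i hi => hR.ord i (hAR hi)
  have hcomm : ∀ i ∈ A, ∀ k ∈ A, i * k = k * i := fun i hi k hk =>
    hR.comm i (hAR hi) k (hAR hk)
  have hInv : CInv (A : Set G) := ⟨ho, hcomm⟩
  have hss : ∀ k ∈ A, k * k = 1 := fun k hk => sq_of_order (ho k hk)
  -- the sets `A - k`
  have hins : ∀ k ∈ A, (A : Set G) = insert k ((A.erase k : Finset G) : Set G) := by
    intro k hk
    rw [← Finset.coe_insert, Finset.insert_erase hk]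
  have hC : ∀ k ∈ A, centralizer (A : Set G) =
      centralizer ((A.erase k : Finset G) : Set G) ⊓ centralizer ({k} : Set G) := by
    intro k hk
    rw [hins k hk, centralizer_insert]
  have hAk : ∀ k ∈ A, (A.erase k).Nonempty := by
    intro k hk
    by_contra hcon
    rw [Finset.not_nonempty_iff_eq_empty] at hcon
    have h1 := hins k hk
    rw [hcon, Finset.coe_empty, insert_empty_eq] at h1
    have h2 := hKc k hk
    rw [h1] at h2
    exact hcl _ _ (ho k hk) (hiK k hk) (hKQ k hk) h2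
  have hcomp : ∀ k ∈ A, ∀ Z : Subgroup G, IsComp (centralizer (A : Set G)) Z →
      IsComp (centralizer ((A.erase k : Finset G) : Set G) ⊓ centralizer ({k} : Set G)) Z := by
    intro k hk Z hZ
    rw [← hC k hk]; exact hZ
  have hkC : ∀ k ∈ A, k ∈ centralizer ((A.erase k : Finset G) : Set G) := by
    intro k hk
    rw [mem_centralizer_iff]
    intro s hs
    exact hcomm s (Finset.mem_of_mem_erase hs) k hk
  -- the groups `D k`
  have hexD : ∀ k ∈ A, ∃ D : Subgroup G,
      IsComp (centralizer ((A.erase k : Finset G) : Set G)) D ∧ K k ≤ D := fun k hk =>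
    exists_pumpup (hss k hk) (hiK k hk) (hcomp k hk _ (hKc k hk))
  choose! D hD hKD using hexD
  have hyD : ∀ k ∈ A, k ∈ D k := fun k hk => hKD k hk (hiK k hk)
  -- pump-ups
  have hpump : ∀ k ∈ A, ∀ Z : Subgroup G, IsComp (centralizer (A : Set G)) Z →
      ∃ E, IsComp (centralizer ((A.erase k : Finset G) : Set G)) E ∧ Z ≤ E ∧
        ((Fixes k E ∧ Z ⊔ core E = E) ∨ (¬ Fixes k E ∧ E = D k)) := by
    intro k hk Z hZ
    obtain ⟨E, hE, hZE, h | ⟨h, h'⟩⟩ := pump (hkC k hk) (hss k hk) (hiK k hk) (hcomp k hk _ (hKc k hk))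
      (hcomp k hk _ hZ)
    · exact ⟨E, hE, hZE, Or.inl h⟩
    · exact ⟨E, hE, hZE, Or.inr ⟨h, (hcomp k hk _ (hKc k hk)).unique hE (hD k hk) h' (hKD k hk)⟩⟩
  -- `i` is central in `D k`
  have hcen : ∀ k ∈ A, ∀ i ∈ A, i ≠ k → Fixes i (D k) := by
    intro k hk i hi hik
    apply fixes_of_central
    intro x hx
    have h1 := (hD k hk).le hx
    exact mem_centralizer_iff.mp h1 i (by
      rw [Finset.mem_coe, Finset.mem_erase]; exact ⟨hik, hi⟩)
  -- existence of `β k`
  have hbex : ∀ k ∈ A, ∃ i ∈ A, i ≠ k ∧ K i ≤ D k ∧ ¬ Fixes k (D k) := by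
    intro k hk
    by_contra hcon
    push Not at hcon
    apply hmin (A.erase k) (Finset.erase_subset k A) (hAk k hk)
      (fun h => Finset.notMem_erase k A (by rw [h]; exact hk))
    intro i hi
    rw [Finset.mem_erase] at hi
    obtain ⟨E, hE, hZE, ⟨h, h'⟩ | ⟨h, h'⟩⟩ := hpump k hk (K i) (hKc i hi.2)
    · exact ⟨E, hE, hZE (hiK i hi.2), hQc _ _ _ hE h' (hKQ i hi.2)⟩
    · subst h'
      exact absurd (hcon i hi.2 hi.1 hZE) h
  choose! β hβA hβne hβD hnf using hbex
  have hKne : ∀ i ∈ A, ∀ k ∈ A, i ≠ k → K i ≠ K k := by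
    intro i hi k hk hik h
    exact hik (hQ (K i) (hKQ i hi) _ (hiK i hi) _ (h ▸ hiK k hk) (ho i hi) (ho k hk) (hcomm i hi k hk))
  have hext : ∀ k ∈ A, ∀ Z : Subgroup G, IsComp (D k ⊓ centralizer ({k} : Set G)) Z →
      IsComp (centralizer (A : Set G)) Z := by
    intro k hk Z hZ
    rw [hC k hk]
    exact isComp_of_inf (hD k hk) hZ
  have hsub : ∀ k ∈ A, ∀ Z : Subgroup G, IsComp (centralizer (A : Set G)) Z → Z ≤ D k →
      IsComp (D k ⊓ centralizer ({k} : Set G)) Z := fun k hk Z hZ hZD =>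
    isComp_inf (hcomp k hk Z hZ) (hD k hk) hZD
  -- the third component
  have hstar : ∀ k ∈ A, ∃ B' : Subgroup G,
      IsComp (D k ⊓ centralizer ({k} : Set G)) B' ∧ UI B' ∧ β k * k ∈ B' ∧
      (∀ Z : Subgroup G, IsComp (D k ⊓ centralizer ({k} : Set G)) Z → Z = K (β k) ∨ Z = K k ∨ Z = B') ∧
      P (β k) k (D k) (K (β k)) (K k) B' := by
    intro k hk
    refine hF ((A.erase k : Finset G) : Set G) (β k) k (D k) (K (β k)) (K k) ?_ ?_ (hβne k hk) (hD k hk)
      (hyD k hk) (hnf k hk) (hiK _ (hβA k hk)) (hiK k hk) (hKQ _ (hβA k hk)) (hKQ k hk)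
      (hKne _ (hβA k hk) k hk (hβne k hk)) (hsub k hk _ (hKc _ (hβA k hk)) (hβD k hk))
      (hsub k hk _ (hKc k hk) (hKD k hk))
    · rw [← hins k hk]; exact hInv
    · rw [Finset.mem_coe, Finset.mem_erase]
      exact ⟨hβne k hk, hβA k hk⟩
  choose! T hTc hTQ hTm hTall hTP using hstar
  have hord : ∀ a ∈ A, ∀ b ∈ A, a ≠ b → orderOf (a * b) = 2 := fun a ha b hb hab =>
    order_mul (ho a ha) (ho b hb) (hcomm a ha b hb) hab
  -- products commute with the elements of `A`
  have hcm : ∀ a ∈ A, ∀ b ∈ A, ∀ c ∈ A, a * b * c = c * (a * b) := by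
    intro a ha b hb c hc
    rw [mul_assoc, hcomm b hb c hc, ← mul_assoc, hcomm a ha c hc, mul_assoc]
  -- the pump-up of `T k` along `β k`
  have hpt : ∀ k ∈ A, T k ≤ D (β k) := by
    intro k hk
    have hl := hβA k hk
    obtain ⟨E, hE, hZE, ⟨h, h'⟩ | ⟨-, h'⟩⟩ := hpump (β k) hl (T k) (hext k hk _ (hTc k hk))
    · exfalso
      have hne' : D (β k) ≠ E := by
        intro h5
        rw [← h5] at h
        exact hnf _ hl h
      have h4 : Fixes (β k * k) (D (β k)) := (hD (β k) hl).fixes_of_mem hE hne' (hZE (hTm k hk))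
      have h5 := hcen (β k) hl k hk (Ne.symm (hβne k hk))
      exact hnf _ hl ((fixes_mul_iff_left h5).mp h4)
    · rw [← h']; exact hZE
  -- uniqueness of `β`
  have hbuni : ∀ k ∈ A, ∀ i ∈ A, i ≠ k → K i ≤ D k → i = β k := by
    intro k hk i hi hik hle
    by_contra hne'
    rcases hTall k hk _ (hsub k hk _ (hKc i hi) hle) with h | h | h
    · exact hKne i hi (β k) (hβA k hk) hne' h
    · exact hKne i hi k hk hik h
    · have h2 := hTQ k hk _ (hTm k hk) _ (h ▸ hiK i hi) (hord _ (hβA k hk) _ hk (hβne k hk)) (ho i hi)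
        (hcm _ (hβA k hk) _ hk _ hi)
      exact h3 (β k) (hAR (hβA k hk)) k (hAR hk) i (hAR hi) (hβne k hk) (Ne.symm hne') (Ne.symm hik) h2
  -- `β (β k) = k`
  have hinvo : ∀ k ∈ A, β (β k) = k := by
    intro k hk
    by_contra hne'
    have hl := hβA k hk
    have hlk := hβne k hk
    have hll := hβA _ hl
    have hTcomp := hext k hk _ (hTc k hk)
    rcases hTall (β k) hl (T k) (hsub (β k) hl _ hTcomp (hpt k hk)) with h2 | h2 | h2
    · -- `T k = K (β (β k))`
      have h4 := hTQ k hk _ (hTm k hk) _ (h2 ▸ hiK _ hll) (hord _ hl _ hk hlk) (ho _ hll)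
        (hcm _ hl _ hk _ hll)
      exact h3 (β k) (hAR hl) k (hAR hk) (β (β k)) (hAR hll) hlk (Ne.symm (hβne _ hl)) (Ne.symm hne') h4
    · -- `T k = K (β k)`
      have h4 := hTQ k hk _ (hTm k hk) _ (h2 ▸ hiK _ hl) (hord _ hl _ hk hlk) (ho _ hl)
        (hcm _ hl _ hk _ hl)
      have h5 : k = 1 := by rwa [mul_eq_left] at h4
      exact ne_one_of_order (ho k hk) h5
    · -- `T k = T (β k)`
      have h4 := hTQ k hk _ (hTm k hk) _ (h2 ▸ hTm _ hl) (hord _ hl _ hk hlk) (hord _ hll _ hl (hβne _ hl))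
        (by rw [← mul_assoc, hcm _ hl _ hk _ hll, mul_assoc, hcm _ hl _ hk _ hl, ← mul_assoc])
      have h5 : k = β (β k) := by
        rw [← hcomm (β k) hl _ hll] at h4
        exact mul_left_cancel h4
      exact hne' h5.symm
  -- Solomon's configuration
  obtain ⟨k, hk⟩ := hAne
  have hl := hβA k hk
  have hlk := hβne k hk
  have hkk := hinvo k hk
  -- `T k = T (β k)`
  have hTT : T k = T (β k) := by
    have hTcomp := hext k hk _ (hTc k hk)
    rcases hTall (β k) hl (T k) (hsub (β k) hl _ hTcomp (hpt k hk)) with h2 | h2 | h2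
    · exfalso
      rw [hkk] at h2
      have h4 := hTQ k hk _ (hTm k hk) _ (h2 ▸ hiK _ hk) (hord _ hl _ hk hlk) (ho _ hk)
        (hcm _ hl _ hk _ hk)
      have h5 : β k = 1 := by rwa [mul_eq_right] at h4
      exact ne_one_of_order (ho _ hl) h5
    · exfalso
      have h4 := hTQ k hk _ (hTm k hk) _ (h2 ▸ hiK _ hl) (hord _ hl _ hk hlk) (ho _ hl)
        (hcm _ hl _ hk _ hl)
      have h5 : k = 1 := by rwa [mul_eq_left] at h4
      exact ne_one_of_order (ho k hk) h5
    · exact h2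
  -- the sets
  set S : Set G := (((A.erase k).erase (β k) : Finset G) : Set G) with hSdef
  have hS1 : ((A.erase k : Finset G) : Set G) = insert (β k) S := by
    rw [hSdef, ← Finset.coe_insert, Finset.insert_erase]
    rw [Finset.mem_erase]
    exact ⟨hlk, hl⟩
  have hS2 : ((A.erase (β k) : Finset G) : Set G) = insert k S := by
    rw [hSdef, Finset.erase_right_comm, ← Finset.coe_insert, Finset.insert_erase]
    rw [Finset.mem_erase]
    exact ⟨Ne.symm hlk, hk⟩
  have hS3 : (A : Set G) = insert (β k) (insert k S) := by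
    rw [hins (β k) hl, hS2]
  have hP1 := hTP k hk
  have hP2 := hTP (β k) hl
  rw [hkk, ← hTT] at hP2
  refine hSol S (β k) k (D k) (D (β k)) (K (β k)) (K k) (T k) (hS3 ▸ hInv) hlk ?_ ?_ hP1 hP2
  · rw [← hS1]; exact hD k hk
  · rw [← hS2]; exact hD (β k) hl

end Cfsg.Agent.UGT.U2.ThmX
end

-- part: UGT/U2/ThmXQ
section
/-!
# THEOREM X modulo cores, `Q K` : `K / O(K) ≃ SL₂(F)`, inputs on the quotients `D / O(D)` only

* `QSL F K` : `K / O(K) ≃ SL₂(F)`.
* `F2N F S7` : (F2') for quasisimple `N` with `O(N) = 1` and the B-property.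
* `PN S7 c d D A B B'` : `A ∋ c`, `B ∋ d`, `B' ∋ c d` 2-components of `C_D(d)` with `S7` in `D / O(D)`.
* `f2p_of_f2N` : `F2N F S7` gives (F2') modulo cores.
* `false_of_set` : THEOREM X.
-/

set_option autoImplicit false

open Cfsg Subgroup
open Cfsg.Agent.SignalizersComponents Cfsg.Agent.Lib
open Cfsg.Agent.SignalizersComponents.IntrinsicBasic
open Cfsg.Agent.SignalizersComponents.IntrinsicIntr
open Cfsg.Agent.Intrinsic.Basic Cfsg.Agent.Intrinsic.Cen Cfsg.Agent.Intrinsic.Quot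
open Cfsg.Agent.McLLyComp.Act
open Cfsg.Agent.UGT.Iface (Bar)
open scoped commutatorElement

namespace Cfsg.Agent.UGT.U2.ThmXQ

open Cfsg.Agent.UGT.U2.ThmX

universe u

/-- `K / O(K) ≃ SL₂(F)` -/
def QSL (F : Type) [Field F] [Fintype F] {G : Type*} [Group G] (K : Subgroup G) : Prop :=
  Nonempty (Bar K ≃* Matrix.SpecialLinearGroup (Fin 2) F)

/-- **(F2')** for quasisimple core-free groups with the B-property -/
def F2N (F : Type) [Field F] [Fintype F]
    (S7 : ∀ (N : Type u) [Group N], N → N → Subgroup N → Subgroup N → Subgroup N → Prop) : Prop :=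
  ∀ (N : Type u) [Group N] [Finite N], IsQuasisimple N → oddCore N = ⊥ → HasBProperty N →
    ∀ (c d : N) (A B : Subgroup N), c ∈ center N → orderOf c = 2 → orderOf d = 2 → d ∉ center N →
      c ∈ A → d ∈ B → A ≠ B → IsComp (centralizer ({d} : Set N)) A → IsComp (centralizer ({d} : Set N)) B →
      QSL F A → QSL F B →
      ∃ A' : Subgroup N, IsComp (centralizer ({d} : Set N)) A' ∧ c * d ∈ A' ∧ QSL F A' ∧
        (∀ K : Subgroup N, IsComp (centralizer ({d} : Set N)) K → K = A ∨ K = B ∨ K = A') ∧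
        S7 N c d A B A'

/-- the data `P` of Theorem X -/
structure PN {G : Type u} [Group G] (F : Type) [Field F] [Fintype F]
    (S7 : ∀ (N : Type u) [Group N], N → N → Subgroup N → Subgroup N → Subgroup N → Prop)
    (c d : G) (D A B B' : Subgroup G) : Prop where
  memc : c ∈ A
  memd : d ∈ B
  memcd : c * d ∈ B'
  compA : IsComp (D ⊓ centralizer ({d} : Set G)) A
  compB : IsComp (D ⊓ centralizer ({d} : Set G)) B
  compB' : IsComp (D ⊓ centralizer ({d} : Set G)) B'
  qA : QSL F A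
  qB : QSL F B
  qB' : QSL F B'
  all : ∀ K : Subgroup G, IsComp (D ⊓ centralizer ({d} : Set G)) K → K = A ∨ K = B ∨ K = B'
  s7 : ∃ (hc : c ∈ D) (hd : d ∈ D), S7 (Bar D) (QuotientGroup.mk ⟨c, hc⟩) (QuotientGroup.mk ⟨d, hd⟩)
    (qs D A) (qs D B) (qs D B')

/-! ### Preliminaries -/

theorem two_ne_zero {F : Type} [Field F] [Fintype F] (hF : Odd (Fintype.card F)) : (2 : F) ≠ 0 := by
  intro h
  have h1 : ringChar F ≠ 2 := by
    intro h3
    have h4 := FiniteField.even_card_of_char_two h3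
    rw [Nat.odd_iff] at hF
    omega
  apply h1
  have := ringChar.charP F
  have : ringChar F ∣ 2 := (CharP.cast_eq_zero_iff F (ringChar F) 2).mp (by exact_mod_cast h)
  rcases (Nat.dvd_prime Nat.prime_two).mp this with h4 | h4
  · exfalso
    exact CharP.char_ne_one F (ringChar F) h4
  · exact h4

section

variable {F : Type} [Field F] [Fintype F]

/-- commuting involutions of `K`, `K / O(K) ≃ SL₂(F)`, are equal -/
theorem QSL.ui {G : Type*} [Group G] [Finite G] {K : Subgroup G} (hF : Odd (Fintype.card F)) (h : QSL F K) :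
    UI K := by
  obtain ⟨e⟩ := h
  have key : ∀ x : G, ∀ hx : x ∈ K, orderOf x = 2 → e (QuotientGroup.mk ⟨x, hx⟩) = -1 := by
    intro x hx ho
    have h1 : e (QuotientGroup.mk ⟨x, hx⟩) * e (QuotientGroup.mk ⟨x, hx⟩) = 1 := by
      rw [← map_mul, ← QuotientGroup.mk_mul]
      have h2 : (⟨x, hx⟩ * ⟨x, hx⟩ : ↥K) = 1 := Subtype.ext (sq_of_order ho)
      rw [h2, QuotientGroup.mk_one, map_one]
    rcases Lib.PSL2Inv.sq_eq_one (two_ne_zero hF) h1 with h2 | h2
    · exfalso
      rw [← map_one e] at h2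
      have h3 := e.injective h2
      rw [Intrinsic.Quot.mk_eq_one_iff hx] at h3
      exact ne_one_of_order ho (eq_one_of_mem_core_sq h3 (sq_of_order ho))
    · exact h2
  intro x hx y hy hox hoy hxy
  have h1 : e (QuotientGroup.mk ⟨x, hx⟩) = e (QuotientGroup.mk ⟨y, hy⟩) := by
    rw [key x hx hox, key y hy hoy]
  have h2 := (mk_eq_mk_iff' hx hy).mp (e.injective h1)
  have h3 : x⁻¹ * y = 1 := by
    refine eq_one_of_mem_core_sq h2 ?_
    have hx' : x⁻¹ = x := inv_eq_of_mul_eq_one_left (sq_of_order hox)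
    rw [hx']
    calc x * y * (x * y) = x * (y * x) * y := by group
      _ = (x * x) * (y * y) := by rw [← hxy]; group
      _ = 1 := by rw [sq_of_order hox, sq_of_order hoy, one_mul]
  exact (inv_mul_eq_one.mp h3)

theorem QSL.of_sup {G : Type*} [Group G] [Finite G] {K D : Subgroup G} (hs : K ⊔ core D = D) (h : QSL F K) :
    QSL F D := by
  obtain ⟨e⟩ := h
  obtain ⟨f, -⟩ := exists_quotEquiv hs
  exact ⟨f.symm.trans e⟩

theorem qsl_qs {G : Type*} [Group G] [Finite G] {M J : Subgroup G} (hJM : J ≤ M) : QSL F (qs M J) ↔ QSL F J := by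
  obtain ⟨f, -⟩ := exists_qs_equiv hJM
  constructor
  · rintro ⟨e⟩; exact ⟨f.trans e⟩
  · rintro ⟨e⟩; exact ⟨f.symm.trans e⟩

end

/-- the B-property: 2-components of `C(d)` are quasisimple -/
theorem quasisimple_of_B {N : Type*} [Group N] [Finite N] (hO : oddCore N = ⊥) (hB : HasBProperty N) {d : N}
    (hd : orderOf d = 2) {E : Subgroup N} (hE : IsComp (centralizer ({d} : Set N)) E) : IsQuasisimple ↥E := by
  have h0 : ⁅pLayer 2 ↥(centralizer ({d} : Set N)), oddCore ↥(centralizer ({d} : Set N))⁆ = ⊥ := by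
    have h1 := hB d hd
    rw [hO, le_bot_iff, Subgroup.map_eq_bot_iff_of_injective _ (Subgroup.subtype_injective _)] at h1
    exact h1
  have : Fact (Nat.Prime 2) := ⟨Nat.prime_two⟩
  have h1 : ⁅E.subgroupOf (centralizer ({d} : Set N)), pPrimeCore 2 ↥(centralizer ({d} : Set N))⁆ = ⊥ := by
    rw [eq_bot_iff, ← h0]
    exact commutator_mono (le_sSup (show _ ∈ {K | IsPComponent 2 K} from hE.2)) le_rfl
  have h2 := ClassificationK.PCompTransport.isComponent_of_isPComponent 2 hE.2 h1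
  exact Components.isQuasisimple_of_mulEquiv (subgroupOfEquivOfLe hE.le) h2.2

variable {G : Type u} [Group G] [Finite G] {F : Type} [Field F] [Fintype F]
  {S7 : ∀ (N : Type u) [Group N], N → N → Subgroup N → Subgroup N → Subgroup N → Prop}

omit [Finite G] in
theorem mk_mem_center {D : Subgroup G} {c : G} (hc : c ∈ D) (h : ∀ x ∈ D, c * x = x * c) :
    (QuotientGroup.mk ⟨c, hc⟩ : Bar D) ∈ center (Bar D) := by
  rw [mem_center_iff]
  intro g
  obtain ⟨⟨x, hx⟩, rfl⟩ := QuotientGroup.mk'_surjective (oddCore ↥D) g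
  change (QuotientGroup.mk (⟨x, hx⟩ * ⟨c, hc⟩ : ↥D) : Bar D) = QuotientGroup.mk (⟨c, hc⟩ * ⟨x, hx⟩ : ↥D)
  congr 1
  exact Subtype.ext (h x hx).symm

omit [Finite G] in
theorem fixes_of_mk_mem_center {D : Subgroup G} {d : G} (hd : d ∈ D)
    (h : (QuotientGroup.mk ⟨d, hd⟩ : Bar D) ∈ center (Bar D)) : Fixes d D := by
  rw [fixes_iff_conj]
  refine ⟨le_normalizer hd, fun y hy => ?_⟩
  have h1 := mem_center_iff.mp h (QuotientGroup.mk ⟨y, hy⟩)
  exact (mk_comm_iff hy hd).mp h1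

theorem orderOf_mk {D : Subgroup G} {c : G} (hc : c ∈ D) (ho : orderOf c = 2) :
    orderOf (QuotientGroup.mk ⟨c, hc⟩ : Bar D) = 2 := by
  refine orderOf_eq_prime ?_ ?_
  · rw [pow_two, ← QuotientGroup.mk_mul]
    have h2 : (⟨c, hc⟩ * ⟨c, hc⟩ : ↥D) = 1 := Subtype.ext (sq_of_order ho)
    rw [h2, QuotientGroup.mk_one]
  · intro h
    exact ne_one_of_order ho (eq_one_of_mem_core_sq ((Intrinsic.Quot.mk_eq_one_iff hc).mp h) (sq_of_order ho))

/-- (F2') modulo cores from (F2') on the quotients -/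
theorem f2p_of_f2N (hF : Odd (Fintype.card F)) (h : F2N F S7)
    (hB : ∀ (S : Set G) (D : Subgroup G), S.Nonempty → CInv S → IsComp (centralizer S) D →
      HasBProperty (Bar D)) :
    F2p (G := G) (QSL F) (PN F S7) := by
  intro S c d D A B hS hcS hcd hD hdD hdn hcA hdB hQA hQB hAB hA hB'
  have hSI : CInv S := hS.mono (Set.subset_insert d S)
  have hoc : orderOf c = 2 := hSI.ord c hcS
  have hod : orderOf d = 2 := hS.ord d (Set.mem_insert _ _)
  have hdd : d * d = 1 := sq_of_order hod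
  have hcD : c ∈ D := (hA.le hcA).1
  have hcc : ∀ x ∈ D, c * x = x * c := fun x hx => mem_centralizer_iff.mp (hD.le hx) c hcS
  have hAD : A ≤ D := hA.le.trans inf_le_left
  have hBD : B ≤ D := hB'.le.trans inf_le_left
  have hBN := hB S D ⟨c, hcS⟩ hSI hD
  have hON := oddCore_quot D
  have hne : qs D A ≠ qs D B := fun h => hAB (eq_of_qs_eq hdD hdd hA hB' h)
  have hod' := orderOf_mk hdD hod
  obtain ⟨E, hE, hcdE, hQE, hall, hS7⟩ := h (Bar D) (quasisimple_quot hD) hON hBN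
    (QuotientGroup.mk ⟨c, hcD⟩) (QuotientGroup.mk ⟨d, hdD⟩) (qs D A) (qs D B) (mk_mem_center hcD hcc)
    (orderOf_mk hcD hoc) hod' (fun hc => hdn (fixes_of_mk_mem_center hdD hc)) (mk_mem_qs hcD hcA)
    (mk_mem_qs hdD hdB) hne (isComp_qs hdD hdd hA) (isComp_qs hdD hdd hB') ((qsl_qs hAD).mpr hQA)
    ((qsl_qs hBD).mpr hQB)
  obtain ⟨Z, hZ, rfl⟩ := exists_lift_comp hdD hdd hE (quasisimple_of_B hON hBN hod' hE)
  have hZD : Z ≤ D := hZ.le.trans inf_le_left
  have hQZ : QSL F Z := (qsl_qs hZD).mp hQE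
  have hcomm : c * d = d * c := hcc d hdD
  have hocd := order_mul hoc hod hcomm hcd
  have hcdZ : c * d ∈ Z := by
    have h1 : c * d ∈ centralizer ({d} : Set G) := by
      rw [mem_centralizer_singleton_iff, mul_assoc, hdd, mul_one, hcomm, ← mul_assoc, hdd, one_mul]
    refine mem_of_mk_mem hdD hdd hZ (D.mul_mem hcD hdD) h1 (n := 1) ?_ hcdE
    rw [pow_one, ← hocd, pow_orderOf_eq_one]
  have hall' : ∀ K : Subgroup G, IsComp (D ⊓ centralizer ({d} : Set G)) K → K = A ∨ K = B ∨ K = Z := by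
    intro K hK
    rcases hall _ (isComp_qs hdD hdd hK) with h1 | h1 | h1
    · exact Or.inl (eq_of_qs_eq hdD hdd hK hA h1)
    · exact Or.inr (Or.inl (eq_of_qs_eq hdD hdd hK hB' h1))
    · exact Or.inr (Or.inr (eq_of_qs_eq hdD hdd hK hZ h1))
  exact ⟨Z, hZ, hQZ.ui hF, hcdZ, hall',
    { memc := hcA, memd := hdB, memcd := hcdZ, compA := hA, compB := hB', compB' := hZ, qA := hQA, qB := hQB,
      qB' := hQZ, all := hall', s7 := ⟨hcD, hdD, hS7⟩ }⟩

/-- **THEOREM X** modulo cores -/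
theorem false_of_set (hF : Odd (Fintype.card F)) (h : F2N F S7) (hSol : Sol (G := G) (PN F S7))
    (hB : ∀ (S : Set G) (D : Subgroup G), S.Nonempty → CInv S → IsComp (centralizer S) D →
      HasBProperty (Bar D))
    (hcl : ∀ (z : G) (K : Subgroup G), orderOf z = 2 → z ∈ K → QSL F K →
      ¬ IsComp (centralizer ({z} : Set G)) K)
    (R : Finset G) (hne : R.Nonempty) (hR : CInv (R : Set G))
    (hK : ∀ a ∈ R, ∃ K : Subgroup G, IsComp (centralizer (R : Set G)) K ∧ a ∈ K ∧ QSL F K)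
    (h3 : ∀ a ∈ R, ∀ b ∈ R, ∀ c ∈ R, a ≠ b → a ≠ c → b ≠ c → a * b ≠ c) : False :=
  ThmX.false_of_set (fun _ hK => QSL.ui hF hK) (fun _ _ _ _ hs hK => QSL.of_sup hs hK) hcl
    (f2p_of_f2N hF h hB) hSol R hne hR hK h3

end Cfsg.Agent.UGT.U2.ThmXQ
end

-- part: UGT/U2/Lift
section
/-!
# Lifting of frames

`D` a 2-component of `C(z)`, `z ∈ D` an involution, `f` a frame of `D / O(D)` for the image of `z`. Then the involutions
of the frame lift to commuting involutions `R` of `D` with `z ∈ ⟨R⟩`, and the members of the frame lift to 2-components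
of `C(R)`.
-/

set_option autoImplicit false

open Cfsg Subgroup
open Cfsg.Agent.SignalizersComponents Cfsg.Agent.Lib
open Cfsg.Agent.SignalizersComponents.IntrinsicBasic
open Cfsg.Agent.SignalizersComponents.IntrinsicIntr
open Cfsg.Agent.Intrinsic.Basic Cfsg.Agent.Intrinsic.Cen Cfsg.Agent.Intrinsic.Quot
open Cfsg.Agent.UGT.Iface (Bar)
open Cfsg.Agent.UGT.U2.ThmX Cfsg.Agent.UGT.U2.ThmXQ
open Cfsg.Agent.OddHalf.NI (Frame)
open scoped commutatorElement

namespace Cfsg.Agent.UGT.U2.Lift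

universe u

/-- A 2-subgroup of `D / O(D)` lifts. -/
theorem exists_lift_two {D : Type*} [Group D] [Finite D] (V : Subgroup (D ⧸ oddCore D)) (hV : IsPGroup 2 ↥V) :
    ∃ P : Subgroup D, IsPGroup 2 ↥P ∧ ∀ v ∈ V, ∃ p ∈ P, (QuotientGroup.mk p : D ⧸ oddCore D) = v := by
  have h2 : Fact (Nat.Prime 2) := ⟨Nat.prime_two⟩
  obtain ⟨M, hM⟩ : ∃ M, M = V.comap (QuotientGroup.mk' (oddCore D)) := ⟨_, rfl⟩
  obtain ⟨P0⟩ : Nonempty (Sylow 2 ↥M) := inferInstance
  let g : ↥M →* ↥V := ((QuotientGroup.mk' (oddCore D)).comp M.subtype).codRestrict V (by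
    rintro ⟨x, hx⟩
    have h3 : x ∈ V.comap (QuotientGroup.mk' (oddCore D)) := by rw [← hM]; exact hx
    exact h3)
  have hg : Function.Surjective g := by
    rintro ⟨v, hv⟩
    obtain ⟨x, rfl⟩ := QuotientGroup.mk'_surjective (oddCore D) v
    exact ⟨⟨x, by rw [hM, mem_comap]; exact hv⟩, rfl⟩
  have h3 : (P0.mapSurjective hg : Subgroup ↥V) = ⊤ := by
    have h4 : IsPGroup 2 ↥(⊤ : Subgroup ↥V) := hV.to_subgroup ⊤
    exact ((P0.mapSurjective hg).is_maximal' h4 le_top).symm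
  refine ⟨(P0 : Subgroup ↥M).map M.subtype, P0.isPGroup'.map _, fun v hv => ?_⟩
  have h4 : (⟨v, hv⟩ : ↥V) ∈ (P0.mapSurjective hg : Subgroup ↥V) := by rw [h3]; exact mem_top _
  rw [Sylow.coe_mapSurjective] at h4
  obtain ⟨p, hp, hpv⟩ := h4
  exact ⟨(p : D), ⟨p, hp, rfl⟩, congrArg Subtype.val hpv⟩

theorem isPGroup_of_sq {N : Type*} [Group N] {V : Subgroup N} (h : ∀ v ∈ V, v * v = 1) : IsPGroup 2 ↥V := by
  intro v
  exact ⟨1, Subtype.ext (by rw [pow_one, pow_two]; exact h v v.2)⟩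

/-- pairwise commuting involutions generate an elementary abelian group -/
theorem sq_closure {N : Type*} [Group N] {S : Set N} (hc : ∀ a ∈ S, ∀ b ∈ S, a * b = b * a)
    (hs : ∀ a ∈ S, a * a = 1) : ∀ v ∈ _root_.Subgroup.closure S, v * v = 1 := by
  have hcomm : ∀ x ∈ Subgroup.closure S, ∀ y ∈ Subgroup.closure S, x * y = y * x := by
    intro x hx y hy
    have h1 := Subgroup.isMulCommutative_closure (k := S) hc
    exact congrArg Subtype.val (h1.is_comm.comm (⟨x, hx⟩ : Subgroup.closure S) ⟨y, hy⟩)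
  intro w hw
  induction hw using Subgroup.closure_induction with
  | mem z hz => exact hs z hz
  | one => exact one_mul 1
  | mul u v hu hv ihu ihv =>
    calc u * v * (u * v) = u * (v * u) * v := by group
      _ = (u * u) * (v * v) := by rw [← hcomm u hu v hv]; group
      _ = 1 := by rw [ihu, ihv, one_mul]
  | inv u _ ihu =>
    rw [← mul_inv_rev, ihu, inv_one]

variable {G : Type u} [Group G] [Finite G]

/-- `C_D(R) → C(R̄)` -/
noncomputable def cm (D : Subgroup G) (R : Set G) (_hR : R ⊆ D) :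
    ↥(D ⊓ centralizer R) →* ↥(centralizer {w : Bar D | ∃ (r : G) (hr : r ∈ D), r ∈ R ∧
      w = QuotientGroup.mk ⟨r, hr⟩}) where
  toFun m := ⟨QuotientGroup.mk ⟨(m : G), m.2.1⟩, by
    rw [mem_centralizer_iff]
    rintro _ ⟨r, hr, hrR, rfl⟩
    rw [← QuotientGroup.mk_mul, ← QuotientGroup.mk_mul]
    congr 1
    exact Subtype.ext (mem_centralizer_iff.mp m.2.2 r hrR)⟩
  map_one' := rfl
  map_mul' _ _ := rfl

theorem cm_surjective (D : Subgroup G) (R : Set G) (hR : R ⊆ D)
    (hc : ∀ a ∈ R, ∀ b ∈ R, a * b = b * a) (hs : ∀ a ∈ R, a * a = 1) : Function.Surjective (cm D R hR) := by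
  have h2 : Fact (Nat.Prime 2) := ⟨Nat.prime_two⟩
  rintro ⟨w, hw⟩
  obtain ⟨S, hS⟩ : ∃ S : Set ↥D, S = {r : ↥D | (r : G) ∈ R} := ⟨_, rfl⟩
  have hE : IsPGroup 2 ↥(_root_.Subgroup.closure S) := by
    refine isPGroup_of_sq (sq_closure ?_ ?_)
    · intro a ha b hb
      rw [hS] at ha hb
      exact Subtype.ext (hc a ha b hb)
    · intro a ha
      rw [hS] at ha
      exact Subtype.ext (hs a ha)
  have hNn : (oddCore ↥D).Normal := Lib.Cores.pPrimeCore_normal 2
  have hNp' : ¬ 2 ∣ Nat.card (oddCore ↥D) :=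
    (h2.out.coprime_iff_not_dvd).mp (Lib.Cores.pPrimeCore_coprime (G := ↥D) 2).symm
  obtain ⟨g, hg, hgw⟩ := CoreOfCentralizer.exists_centralizing_of_quotient (_root_.Subgroup.closure S) hE (oddCore ↥D) hNp' w (by
    intro a ha
    induction ha using Subgroup.closure_induction with
    | mem z hz =>
      rw [hS] at hz
      exact (mem_centralizer_iff.mp hw _ ⟨(z : G), z.2, hz, rfl⟩)
    | one => rw [map_one, one_mul, mul_one]
    | mul u v _ _ ihu ihv =>
      rw [map_mul, mul_assoc, ihv, ← mul_assoc, ihu, mul_assoc]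
    | inv u _ ihu =>
      rw [map_inv]
      have h3 : Commute (QuotientGroup.mk' (oddCore ↥D) u) w := ihu
      exact h3.inv_left)
  have hgR : (g : G) ∈ centralizer R := by
    rw [mem_centralizer_iff]
    intro r hr
    exact congrArg Subtype.val (hg ⟨r, hR hr⟩ (_root_.Subgroup.subset_closure (by rw [hS]; exact hr)))
  exact ⟨⟨(g : G), g.2, hgR⟩, Subtype.ext hgw⟩

theorem odd_ker_cm (D : Subgroup G) (R : Set G) (hR : R ⊆ D) : Odd (Nat.card (cm D R hR).ker) := by
  have h1 : (cm D R hR).ker.map (D ⊓ centralizer R).subtype ≤ core D := by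
    rintro _ ⟨m, hm, rfl⟩
    have h3 : (QuotientGroup.mk ⟨(m : G), m.2.1⟩ : Bar D) = 1 := congrArg Subtype.val hm
    exact (Intrinsic.Quot.mk_eq_one_iff m.2.1).mp h3
  have h2 := Subgroup.card_dvd_of_le h1
  rw [card_map_of_injective (D ⊓ centralizer R).subtype_injective] at h2
  exact Odd.of_dvd_nat (odd_card_core D) h2

/-- A component `J` of even order of `C(R̄)` lifts to a 2-component of `D ⊓ C(R)`, which contains every 2-element with
image in `J`. -/
theorem exists_lift_J {D : Subgroup G} {R : Set G} (hR : R ⊆ D) (hc : ∀ a ∈ R, ∀ b ∈ R, a * b = b * a)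
    (hs : ∀ a ∈ R, a * a = 1) {J : Subgroup (Bar D)}
    (hJ : J ≤ centralizer {w : Bar D | ∃ (r : G) (hr : r ∈ D), r ∈ R ∧ w = QuotientGroup.mk ⟨r, hr⟩})
    (hsub : (J.subgroupOf (centralizer {w : Bar D | ∃ (r : G) (hr : r ∈ D), r ∈ R ∧
      w = QuotientGroup.mk ⟨r, hr⟩})).IsSubnormal) (hq : IsQuasisimple ↥J) (h2 : 2 ∣ Nat.card J) :
    ∃ K : Subgroup G, IsComp (D ⊓ centralizer R) K ∧ qs D K = J ∧
      ∀ (y : G) (hy : y ∈ D), y ∈ centralizer R → (QuotientGroup.mk ⟨y, hy⟩ : Bar D) ∈ J →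
        ∀ n : ℕ, y ^ 2 ^ n = 1 → y ∈ K := by
  obtain ⟨C, hC⟩ : ∃ C, C = centralizer {w : Bar D | ∃ (r : G) (hr : r ∈ D), r ∈ R ∧
      w = QuotientGroup.mk ⟨r, hr⟩} := ⟨_, rfl⟩
  have hComp : IsComponent (J.subgroupOf (centralizer {w : Bar D | ∃ (r : G) (hr : r ∈ D), r ∈ R ∧
      w = QuotientGroup.mk ⟨r, hr⟩})) :=
    ⟨hsub, Components.isQuasisimple_of_mulEquiv (subgroupOfEquivOfLe hJ).symm hq⟩
  have h2' : 2 ∣ Nat.card (J.subgroupOf (centralizer {w : Bar D | ∃ (r : G) (hr : r ∈ D), r ∈ R ∧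
      w = QuotientGroup.mk ⟨r, hr⟩})) := by
    rw [Nat.card_congr (subgroupOfEquivOfLe hJ).toEquiv]
    exact h2
  obtain ⟨h3, h4⟩ := IntrinsicLift.lift_component (cm D R hR) (cm_surjective D R hR hc hs)
    (odd_ker_cm D R hR) hComp h2'
  refine ⟨_, isComp_of_subtype h3, ?_, ?_⟩
  · ext x
    constructor
    · rintro ⟨m, hm, rfl⟩
      obtain ⟨m', hm', hmm⟩ := hm
      have h5 : (cm D R hR) m' ∈ (J.subgroupOf (centralizer {w : Bar D | ∃ (r : G) (hr : r ∈ D), r ∈ R ∧
          w = QuotientGroup.mk ⟨r, hr⟩})) := by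
        rw [← h4]
        exact ⟨m', hm', rfl⟩
      have h6 : m = ⟨(m' : G), m'.2.1⟩ := Subtype.ext hmm.symm
      rw [h6]
      exact h5
    · intro hx
      have h5 : (⟨x, hJ hx⟩ : ↥(centralizer {w : Bar D | ∃ (r : G) (hr : r ∈ D), r ∈ R ∧
          w = QuotientGroup.mk ⟨r, hr⟩})) ∈ (J.subgroupOf (centralizer {w : Bar D | ∃ (r : G) (hr : r ∈ D), r ∈ R ∧
          w = QuotientGroup.mk ⟨r, hr⟩})) := hx
      rw [← h4] at h5
      obtain ⟨m, hm, hmx⟩ := h5
      exact ⟨⟨(m : G), m.2.1⟩, ⟨m, hm, rfl⟩, congrArg Subtype.val hmx⟩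
  · intro y hy hyR hyJ n hn
    refine ⟨⟨y, hy, hyR⟩, ?_, rfl⟩
    exact PComponents.mem_pElem (show (⟨y, hy, hyR⟩ : ↥(D ⊓ centralizer R)) ∈
      (J.subgroupOf (centralizer {w : Bar D | ∃ (r : G) (hr : r ∈ D), r ∈ R ∧
          w = QuotientGroup.mk ⟨r, hr⟩})).comap (cm D R hR) from hyJ) (Subtype.ext (by simpa only [_root_.SubmonoidClass.coe_pow, _root_.OneMemClass.coe_one] using hn))

/-- `1 = O(SL₂(F))` -/
theorem qsl_of_iso {F : Type} [Field F] [Fintype F] (hF : Odd (Fintype.card F)) {N : Type*} [Group N] [Finite N]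
    {J : Subgroup N} (e : ↥J ≃* Matrix.SpecialLinearGroup (Fin 2) F) : QSL F J := by
  have hcore : oddCore ↥J = ⊥ := by
    have h1 := Cit.ParabSL2.oddCore_sl hF
    have h2 := Lib.Cores.map_equiv_pPrimeCore e 2
    rw [eq_bot_iff]
    intro x hx
    have h3 : e x ∈ (oddCore ↥J).map e.toMonoidHom := ⟨x, hx, rfl⟩
    rw [show (oddCore ↥J).map e.toMonoidHom = oddCore _ from h2, h1, mem_bot] at h3
    rw [mem_bot]
    exact e.injective (by rw [h3, map_one])
  exact ⟨(QuotientGroup.quotientMulEquivOfEq hcore).trans (QuotientGroup.quotientBot.trans e)⟩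

/-- **Lifting of a frame.** -/
theorem exists_family {z : G} (hz : orderOf z = 2) {D : Subgroup G} (hD : IsComp (centralizer ({z} : Set G)) D)
    (hzD : z ∈ D) (f : Frame (Bar D) (QuotientGroup.mk ⟨z, hzD⟩)) :
    letI := f.field
    letI := f.fin
    ∃ R : Finset G, R.Nonempty ∧ CInv (R : Set G) ∧
      (∀ a ∈ R, ∃ K : Subgroup G, IsComp (centralizer (R : Set G)) K ∧ a ∈ K ∧ QSL f.F K) ∧
      (∀ a ∈ R, ∀ b ∈ R, ∀ c ∈ R, a ≠ b → a ≠ c → b ≠ c → a * b ≠ c) := by
  classical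
  obtain ⟨m, hm, J, y, F, hodd, hcard, hiso, hmem, hord, hle, hsub, hcomm, hinj, hthree, hgen⟩ := f
  dsimp only
  have h2 : Fact (Nat.Prime 2) := ⟨Nat.prime_two⟩
  have hycomm : ∀ i j, y i * y j = y j * y i := by
    intro i j
    by_cases h : i = j
    · rw [h]
    · exact hcomm i j h _ (hmem i) _ (hmem j)
  have hysq : ∀ i, y i * y i = 1 := fun i => sq_of_order (hord i)
  -- the 2-group `V`
  have hV := sq_closure (S := Set.range y) (by rintro _ ⟨i, rfl⟩ _ ⟨j, rfl⟩; exact hycomm i j)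
    (by rintro _ ⟨i, rfl⟩; exact hysq i)
  obtain ⟨P, hP, hPV⟩ := exists_lift_two (_root_.Subgroup.closure (Set.range y)) (isPGroup_of_sq hV)
  -- elements of `P` in the core are trivial
  have hP1 : ∀ p ∈ P, (QuotientGroup.mk p : Bar D) = 1 → p = 1 := by
    intro p hp h
    obtain ⟨n, hn⟩ := hP ⟨p, hp⟩
    have hn' : p ^ 2 ^ n = 1 := congrArg Subtype.val hn
    have h3 : (p : G) ∈ core D := (Intrinsic.Quot.mk_eq_one_iff p.2).mp h
    exact Subtype.ext (eq_one_of_mem_core h3 (n := n) (by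
      have := congrArg Subtype.val hn'
      simpa only [_root_.SubmonoidClass.coe_pow, _root_.OneMemClass.coe_one] using this))
  have hex : ∀ i, ∃ p ∈ P, (QuotientGroup.mk p : Bar D) = y i := fun i => hPV _ (subset_closure ⟨i, rfl⟩)
  choose w hwP hwy using hex
  have hwc : ∀ i j, w i * w j = w j * w i := by
    intro i j
    have h3 : (w i * w j) * (w j * w i)⁻¹ = 1 := by
      apply hP1 _ (P.mul_mem (P.mul_mem (hwP i) (hwP j)) (P.inv_mem (P.mul_mem (hwP j) (hwP i))))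
      rw [QuotientGroup.mk_mul, QuotientGroup.mk_inv, QuotientGroup.mk_mul, QuotientGroup.mk_mul, hwy, hwy,
        hycomm i j, mul_inv_cancel]
    exact mul_inv_eq_one.mp h3
  have hws : ∀ i, w i * w i = 1 := by
    intro i
    apply hP1 _ (P.mul_mem (hwP i) (hwP i))
    rw [QuotientGroup.mk_mul, hwy, hysq]
  have hw1 : ∀ i, w i ≠ 1 := by
    intro i h
    apply ne_one_of_order (hord i)
    rw [← hwy, h, QuotientGroup.mk_one]
  -- `z` is in the group generated by the `w i`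
  have hzw : (⟨z, hzD⟩ : ↥D) ∈ _root_.Subgroup.closure (Set.range w) := by
    have key : ∀ v ∈ _root_.Subgroup.closure (Set.range y), ∃ p ∈ closure (Set.range w), (QuotientGroup.mk p : Bar D) = v := by
      intro v hv
      induction hv using Subgroup.closure_induction with
      | mem v hv =>
        obtain ⟨i, rfl⟩ := hv
        exact ⟨w i, subset_closure ⟨i, rfl⟩, hwy i⟩
      | one => exact ⟨1, one_mem _, rfl⟩
      | mul u v _ _ ihu ihv =>
        obtain ⟨p, hp, rfl⟩ := ihu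
        obtain ⟨q, hq, rfl⟩ := ihv
        exact ⟨p * q, mul_mem hp hq, rfl⟩
      | inv u _ ihu =>
        obtain ⟨p, hp, rfl⟩ := ihu
        exact ⟨p⁻¹, inv_mem hp, rfl⟩
    obtain ⟨p, hp, hpz⟩ := key _ hgen
    have hpp := sq_closure (S := Set.range w) (by rintro _ ⟨i, rfl⟩ _ ⟨j, rfl⟩; exact hwc i j)
      (by rintro _ ⟨i, rfl⟩; exact hws i) p hp
    have h3 : p⁻¹ * (⟨z, hzD⟩ : ↥D) ∈ oddCore ↥D := QuotientGroup.eq.mp hpz
    have hpz' : (p : G) * z = z * p := by
      have h4 := hD.le p.2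
      exact mem_centralizer_singleton_iff.mp h4
    have h4 : ((p : G)⁻¹ * z) = 1 := by
      refine eq_one_of_mem_core_sq (K := D) ⟨_, h3, rfl⟩ ?_
      have hp' : (p : G)⁻¹ = p := inv_eq_of_mul_eq_one_left (congrArg Subtype.val hpp)
      rw [hp']
      calc (p : G) * z * (p * z) = p * (z * p) * z := by group
        _ = ((p : G) * p) * (z * z) := by rw [← hpz']; group
        _ = 1 := by rw [show (p : G) * p = 1 from congrArg Subtype.val hpp, sq_of_order hz, one_mul]
    have h5 : (⟨z, hzD⟩ : ↥D) = p := Subtype.ext (inv_mul_eq_one.mp h4).symm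
    rw [h5]
    exact hp
  -- the set `R`
  obtain ⟨R, hR⟩ : ∃ R : Finset G, R = Finset.univ.image (fun i => (w i : G)) := ⟨_, rfl⟩
  have hmR : ∀ r, r ∈ R ↔ ∃ i, (w i : G) = r := by
    intro r
    rw [hR, Finset.mem_image]
    constructor
    · rintro ⟨i, -, h⟩; exact ⟨i, h⟩
    · rintro ⟨i, h⟩; exact ⟨i, Finset.mem_univ _, h⟩
  have hRD : (R : Set G) ⊆ D := by
    intro r hr
    obtain ⟨i, rfl⟩ := (hmR r).mp hr
    exact (w i).2
  have hRc : ∀ a ∈ (R : Set G), ∀ b ∈ (R : Set G), a * b = b * a := by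
    intro a ha b hb
    obtain ⟨i, rfl⟩ := (hmR a).mp ha
    obtain ⟨j, rfl⟩ := (hmR b).mp hb
    exact congrArg Subtype.val (hwc i j)
  have hRs : ∀ a ∈ (R : Set G), a * a = 1 := by
    intro a ha
    obtain ⟨i, rfl⟩ := (hmR a).mp ha
    exact congrArg Subtype.val (hws i)
  have hCz : centralizer (R : Set G) ≤ centralizer ({z} : Set G) := by
    have h3 : z ∈ _root_.Subgroup.closure (R : Set G) := by
      have h4 : (_root_.Subgroup.closure (Set.range w)).map D.subtype ≤ closure (R : Set G) := by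
        rw [MonoidHom.map_closure]
        refine (closure_le _).mpr ?_
        rintro _ ⟨_, ⟨i, rfl⟩, rfl⟩
        exact _root_.Subgroup.subset_closure ((hmR _).mpr ⟨i, rfl⟩)
      exact h4 ⟨_, hzw, rfl⟩
    rw [← centralizer_closure (R : Set G)]
    exact centralizer_le (by simpa using h3)
  -- the set of images
  have hset : {v : Bar D | ∃ (r : G) (hr : r ∈ D), r ∈ (R : Set G) ∧ v = QuotientGroup.mk ⟨r, hr⟩} =
      Set.range y := by
    ext v
    constructor
    · rintro ⟨r, hr, hrR, rfl⟩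
      obtain ⟨i, rfl⟩ := (hmR r).mp hrR
      exact ⟨i, (hwy i).symm⟩
    · rintro ⟨i, rfl⟩
      exact ⟨w i, (w i).2, (hmR _).mpr ⟨i, rfl⟩, (hwy i).symm⟩
  have hJC : ∀ i, J i ≤ centralizer (Set.range y) := by
    rintro i x hx
    rw [mem_centralizer_iff]
    rintro _ ⟨j, rfl⟩
    by_cases h : j = i
    · subst h
      exact (mem_centralizer_singleton_iff.mp (hle j hx)).symm
    · exact hcomm j i h _ (hmem j) _ hx
  have hJsub : ∀ i, ((J i).subgroupOf (centralizer (Set.range y))).IsSubnormal := by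
    intro i
    have h3 : centralizer (Set.range y) ≤ centralizer ({y i} : Set (Bar D)) :=
      centralizer_le (by rintro _ rfl; exact ⟨i, rfl⟩)
    have h4 := (hsub i).comap (Subgroup.inclusion h3)
    exact h4
  have hSLq : IsQuasisimple (Matrix.SpecialLinearGroup (Fin 2) F) :=
    SLQuasisimple.isQuasisimple_two (by rw [Nat.card_eq_fintype_card]; omega)
  have hJq : ∀ i, IsQuasisimple ↥(J i) := fun i =>
    Components.isQuasisimple_of_mulEquiv (hiso i).some.symm hSLq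
  have hJ2 : ∀ i, 2 ∣ Nat.card (J i) := by
    intro i
    have h3 : orderOf (⟨y i, hmem i⟩ : ↥(J i)) = 2 := by rw [Subgroup.orderOf_mk, hord]
    have h4 := _root_.orderOf_dvd_natCard (⟨y i, hmem i⟩ : ↥(J i))
    rwa [h3] at h4
  have hlift : ∀ i, ∃ K : Subgroup G, IsComp (D ⊓ centralizer (R : Set G)) K ∧ qs D K = J i ∧
      ∀ (x : G) (hx : x ∈ D), x ∈ centralizer (R : Set G) → (QuotientGroup.mk ⟨x, hx⟩ : Bar D) ∈ J i →
        ∀ n : ℕ, x ^ 2 ^ n = 1 → x ∈ K := by
    intro i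
    apply exists_lift_J hRD hRc hRs ?_ ?_ (hJq i) (hJ2 i)
    · rw [hset]; exact hJC i
    · rw [hset]; exact hJsub i
  -- `D ⊓ C(R)` is subnormal in `C(R)`
  have hDs : ((D ⊓ centralizer (R : Set G)).subgroupOf (centralizer (R : Set G))).IsSubnormal := by
    have h3 := (isComp_iff.mp hD).2.1.comap (Subgroup.inclusion hCz)
    convert h3 using 1
    ext ⟨x, hx⟩
    constructor
    · intro h; exact h.1
    · intro h; exact ⟨h, hx⟩
  refine ⟨R, ?_, ⟨?_, hRc⟩, ?_, ?_⟩
  · exact ⟨w ⟨0, hm⟩, (hmR _).mpr ⟨_, rfl⟩⟩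
  · intro a ha
    obtain ⟨i, rfl⟩ := (hmR a).mp ha
    refine orderOf_eq_prime (by rw [pow_two]; exact congrArg Subtype.val (hws i)) ?_
    intro h
    exact hw1 i (Subtype.ext h)
  · intro a ha
    obtain ⟨i, rfl⟩ := (hmR a).mp ha
    obtain ⟨K, hK, hKJ, hKm⟩ := hlift i
    refine ⟨K, hK.extend inf_le_right hDs, ?_, ?_⟩
    · refine hKm _ (w i).2 ?_ ?_ 1 ?_
      · rw [mem_centralizer_iff]
        intro r hr
        exact hRc r hr _ ((hmR _).mpr ⟨i, rfl⟩)
      · have h3 := hwy i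
        have h4 : (QuotientGroup.mk ⟨(w i : G), (w i).2⟩ : Bar D) = y i := h3
        rw [h4]
        exact hmem i
      · rw [pow_one, pow_two]
        exact congrArg Subtype.val (hws i)
    · rw [← qsl_qs (hK.le.trans inf_le_left), hKJ]
      exact qsl_of_iso hodd (hiso i).some
  · intro a ha b hb c hc hab hac hbc habc
    obtain ⟨i, rfl⟩ := (hmR a).mp ha
    obtain ⟨j, rfl⟩ := (hmR b).mp hb
    obtain ⟨k, rfl⟩ := (hmR c).mp hc
    refine hthree i j k (fun h => hab (by rw [h])) (fun h => hac (by rw [h])) (fun h => hbc (by rw [h])) ?_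
    rw [← hwy i, ← hwy j, ← hwy k, ← QuotientGroup.mk_mul]
    congr 1
    exact Subtype.ext habc

end Cfsg.Agent.UGT.U2.Lift
end

-- part: UGT/U2/World
section
/-!
# No frames in a minimal counterexample (step (N) of node U2)

`G` a minimal counterexample to S1311.

* `not_qsl` : no involution `z` lies in a 2-component `K` of `C(z)` with `K / O(K) ≃ SL₂(F)`.
* `hasB` : the 2-components of `C(S)`, `S` a nonempty set of commuting involutions, have the B-property mod core.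
* `no_family` : Theorem X.
* `not_frame` : `D` a 2-component of `C(z)`, `z ∈ D` an involution: there is no frame of `D / O(D)` for `z`.
* `not_even` : the same with `FrameFact`: `D / O(D)` is not of large Lie type if `z` is even in `D / O(D)`.
-/

set_option autoImplicit false

open Cfsg Subgroup
open Cfsg.Agent.SignalizersComponents Cfsg.Agent.Lib
open Cfsg.Agent.Intrinsic.Basic
open Cfsg.Agent.FixBN.BTheorem Cfsg.Agent.FixBN.BRelative
open Cfsg.Agent.UGT.Iface
open Cfsg.Agent.UGT.Trich (normal_fs centralizer_fs)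
open Cfsg.Agent.UGT.U2.ThmX Cfsg.Agent.UGT.U2.ThmXQ
open Cfsg.Agent.OddHalf (Stmts.P1310)
open Cfsg.Agent.OddHalf.NI (Frame FrameFact Even8 LieBig)

namespace Cfsg.Agent.UGT.U2.World

universe u

local notation "Fs" => generalizedFittingSubgroup

variable {G : Type u} [Group G] [Finite G]

/-- every 2-component of every subgroup lies in `F*(G)` -/
theorem le_fs (h : MinCex G) {H L : Subgroup G} (hL : IsComp H L) : L ≤ Fs G := by
  obtain ⟨x, hx, hO⟩ := h.unbal
  exact TypeOf.le_fs_of_core h hx hO hL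

theorem card_lt (h : MinCex G) {s : G} (hs : orderOf s = 2) {H L : Subgroup G} (hL : IsComp H L)
    (hsL : ∀ x ∈ L, s * x = x * s) : Nat.card ↥L < Nat.card ↥(Fs G) := by
  refine lt_of_le_of_ne (Subgroup.card_le_of_le (le_fs h hL)) fun he => ?_
  have h1 : L = Fs G := Subgroup.eq_of_le_of_card_ge (le_fs h hL) he.ge
  have h2 : s ∈ centralizer (Fs G : Set G) := by
    rw [mem_centralizer_iff]
    intro y hy
    exact (hsL y (h1 ▸ hy)).symm
  rw [centralizer_fs h, mem_bot] at h2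
  exact ne_one_of_order hs h2

/-- the B-property of `D / O(D)` -/
theorem hasB (h : MinCex G) (hk : Known.{u}) (S : Set G) (D : Subgroup G) (hS : S.Nonempty) (hSI : CInv S)
    (hD : IsComp (centralizer S) D) : HasBProperty (Bar D) := by
  obtain ⟨s, hs⟩ := hS
  have hsD : ∀ x ∈ D, s * x = x * s := fun x hx => mem_centralizer_iff.mp (hD.le hx) s hs
  refine hasB_of_lt h.small hk (isComposition_of_isKGroupWith (isKGroupWith_of_card_lt
    (lt_of_le_of_lt ?_ (card_lt h (hSI.ord s hs) hD hsD))))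
  exact Nat.le_of_dvd Nat.card_pos (Subgroup.card_quotient_dvd_card _)

/-- no classical involutions -/
theorem not_qsl (P : Stmts.P1310.{u}) (h : MinCex G) {F : Type} [Field F] [Fintype F]
    (hF : Odd (Fintype.card F)) {z : G} {K : Subgroup G} (hz : orderOf z = 2) (hzK : z ∈ K)
    (hQ : QSL F K) : ¬ IsComp (centralizer ({z} : Set G)) K := by
  intro hK
  obtain ⟨t, ht, hO⟩ := h.unbal
  rcases P h.simple h.nonab z hz K hK.le hzK (isComp_iff.mp hK).2.1 (Or.inl ⟨F, _, _, hF, hQ⟩) with h1 | h1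
  · exact h.notU (Or.inl h1)
  · exact hO (UGT.End.MEleven.core_eq_bot h1 t ht)

/-- The two inputs of Theorem X: (F2') on quasisimple groups and Solomon's configuration, for one `S7` (which may
depend on `F`). -/
structure Inputs (S7 : ∀ (F : Type) [Field F] [Fintype F] (N : Type u) [Group N],
    N → N → Subgroup N → Subgroup N → Subgroup N → Prop) : Prop where
  f2 : ∀ (F : Type) [Field F] [Fintype F], Odd (Fintype.card F) → 3 < Fintype.card F → F2N F (S7 F)
  sol : ∀ (G : Type u) [Group G] [Finite G] (F : Type) [Field F] [Fintype F], Odd (Fintype.card F) →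
    3 < Fintype.card F → Sol (G := G) (PN F (S7 F))

variable {S7 : ∀ (F : Type) [Field F] [Fintype F] (N : Type u) [Group N],
  N → N → Subgroup N → Subgroup N → Subgroup N → Prop}

/-- **(N)**: there is no frame for `z` in `D / O(D)`, `z ∈ D` an involution, `D` a 2-component of `C(z)`. -/
theorem not_frame (P : Stmts.P1310.{u}) (hk : Known.{u}) (hI : Inputs.{u} S7) (h : MinCex G) {z : G}
    (hz : orderOf z = 2) {D : Subgroup G} (hD : IsComp (centralizer ({z} : Set G)) D) (hzD : z ∈ D) :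
    ¬ Nonempty (Frame (Bar D) (QuotientGroup.mk ⟨z, hzD⟩)) := by
  rintro ⟨f⟩
  let _ := f.field
  let _ := f.fin
  obtain ⟨R, hne, hR, hK, h3⟩ := Lift.exists_family hz hD hzD f
  exact _root_.Cfsg.Agent.UGT.U2.ThmXQ.false_of_set f.odd (hI.f2 f.F f.odd f.card) (hI.sol G f.F f.odd f.card) (hasB h hk)
    (fun z K hz hzK hQ => not_qsl P h f.odd hz hzK hQ) R hne hR hK h3

/-- **(N)** with the type fact (T'). -/
theorem not_even (P : Stmts.P1310.{u}) (hk : Known.{u}) (hI : Inputs.{u} S7) (hFF : FrameFact.{u})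
    (h : MinCex G) {z : G} (hz : orderOf z = 2) {D : Subgroup G}
    (hD : IsComp (centralizer ({z} : Set G)) D) (hzD : z ∈ D)
    (he : Even8 (QuotientGroup.mk ⟨z, hzD⟩ : Bar D)) : ¬ LieBig (Bar D ⧸ center (Bar D)) := by
  intro hL
  refine not_frame P hk hI h hz hD hzD (hFF (Bar D) (TypeOf.quasisimple hD) (TypeOf.center_two D) hL _ ?_ he)
  exact mk_mem_center hzD (fun x hx => (mem_centralizer_singleton_iff.mp (hD.le hx)).symm)

end Cfsg.Agent.UGT.U2.World
end

-- part: UGT/U2/Ree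
section
/-!
# The small Ree groups are locally balanced
-/

set_option autoImplicit false

namespace Cfsg.Agent.UGT.U2.Ree

open Subgroup Cfsg
open Cfsg.Agent.LieRecognition Cfsg.Agent.LieRecognition.ReeAbs Cfsg.Agent.FixBN.ReeSplit
open Cfsg.Agent.UGT.EndJ1

universe u

theorem bal {F : Type*} [Field F] [Fintype F] {m : ℕ} (hm : 1 ≤ m) (hF : Fintype.card F = 3 ^ (2 * m + 1)) :
    Abs.Bal ↥(Cfsg.Lie.twistedG2 F (3 ^ m)) := by
  classical
  have hchar := charP_three hF
  obtain ⟨U, h, n, D⟩ := Cfsg.Agent.ChevalleyStructure.Ree.Data.exists_data hF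
  have hfin : Finite ↥(Cfsg.Lie.twistedG2 F (3 ^ m)) := ReeSylowThree.finite D
  obtain ⟨a, haH, ha1, ha2⟩ := Cfsg.Agent.S1157.exists_involution hF
  obtain ⟨⟨e⟩, hS⟩ := Cfsg.Agent.S1152.result hF a haH ha1 ha2
  have hcd := ReeCent.centData ha1 ha2 e ReePSL.klein
  have hL : IsSimpleGroup (Matrix.ProjectiveSpecialLinearGroup (Fin 2) F) := by
    apply Matrix.ProjectiveSpecialLinearGroup.rank_two_simple
    rw [Nat.card_eq_fintype_card, hF]
    have : 3 ^ 3 ≤ 3 ^ (2 * m + 1) := Nat.pow_le_pow_right (by norm_num) (by omega)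
    omega
  have hconj : ∀ u : ↥(Cfsg.Lie.twistedG2 F (3 ^ m)), u ≠ 1 → u * u = 1 → ∃ c, c * a * c⁻¹ = u :=
    fun u hu1 hu2 => ReeInv.isConj_involution hcd ReePSL.klein (Cfsg.Agent.S1116.result hF hm) hS hu1 hu2
  have ht2 : h (-1) * h (-1) = 1 := by
    rw [← D.h_mul, neg_mul_neg, mul_one, D.h_one]
  have ht1 : h (-1) ≠ 1 := by
    intro h1
    rw [← D.h_one] at h1
    have h2 := congrArg Units.val (h_inj D h1)
    rw [Units.val_neg, Units.val_one] at h2
    have h30 : (3 : F) = 0 := by exact_mod_cast CharP.cast_eq_zero F 3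
    have h3 : (1 : F) = 0 := by linear_combination h2 + h30
    exact one_ne_zero h3
  refine ⟨hfin, hS, ?_, ?_⟩
  · intro u hu2 hu1 N hN hn ho
    obtain ⟨c, rfl⟩ := hconj u hu1 hu2
    let f : Multiplicative (ZMod 2) × Matrix.ProjectiveSpecialLinearGroup (Fin 2) F →*
        ↥(Cfsg.Lie.twistedG2 F (3 ^ m)) :=
      (MulAut.conj c).toMonoidHom.comp ((centralizer {a}).subtype.comp e.symm.toMonoidHom)
    have hf : ∀ w, f w = c * (e.symm w : ↥(Cfsg.Lie.twistedG2 F (3 ^ m))) * c⁻¹ := fun w => rfl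
    have hfi : Function.Injective f :=
      (MulAut.conj c).injective.comp ((centralizer {a}).subtype_injective.comp e.symm.injective)
    have hfc : ∀ w, f w ∈ centralizer ({c * a * c⁻¹} : Set ↥(Cfsg.Lie.twistedG2 F (3 ^ m))) := by
      intro w
      rw [mem_centralizer_singleton_iff, hf]
      have h1 := mem_centralizer_singleton_iff.1 (e.symm w).2
      calc c * (e.symm w : ↥(Cfsg.Lie.twistedG2 F (3 ^ m))) * c⁻¹ * (c * a * c⁻¹)
          = c * ((e.symm w : ↥(Cfsg.Lie.twistedG2 F (3 ^ m))) * a) * c⁻¹ := by group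
        _ = c * (a * (e.symm w : ↥(Cfsg.Lie.twistedG2 F (3 ^ m)))) * c⁻¹ := by rw [h1]
        _ = _ := by group
    have hW := Cfsg.Agent.FixBN.RankOneRee.odd_normal_prod (Cfsg.Agent.FixBN.RankOneRee.even_card_psl hF)
      (N.comap f) ⟨fun w hw g => by
        rw [mem_comap] at hw ⊢
        rw [map_mul, map_mul, map_inv]
        exact hn _ (hfc g) _ hw⟩ (by
        have h1 : Nat.card (N.comap f) = Nat.card ((N.comap f).map f) := (card_map_of_injective hfi).symm
        rw [h1]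
        exact ho.of_dvd_nat (card_dvd_of_le (map_comap_le _ _)))
    rw [eq_bot_iff]
    intro x hx
    have h1 : c⁻¹ * x * c ∈ centralizer ({a} : Set ↥(Cfsg.Lie.twistedG2 F (3 ^ m))) := by
      have h2 := mem_centralizer_singleton_iff.1 (hN hx)
      rw [mem_centralizer_singleton_iff]
      calc c⁻¹ * x * c * a = c⁻¹ * (x * (c * a * c⁻¹)) * c := by group
        _ = c⁻¹ * (c * a * c⁻¹ * x) * c := by rw [h2]
        _ = _ := by group
    have h2 : f (e ⟨_, h1⟩) = x := by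
      rw [hf, e.symm_apply_apply]
      group
    have h3 : e ⟨_, h1⟩ ∈ N.comap f := by
      rw [mem_comap, h2]
      exact hx
    rw [hW, mem_bot] at h3
    rw [mem_bot, ← h2, h3, map_one]
  · intro u hu2 hu1 α ho hfix
    obtain ⟨c, hc⟩ := hconj u hu1 hu2
    obtain ⟨d, hd⟩ := hconj _ ht1 ht2
    -- `u = g t g⁻¹`
    obtain ⟨g, hg⟩ : ∃ g, g * h (-1) * g⁻¹ = u := ⟨c * d⁻¹, by rw [← hd, ← hc]; group⟩
    have h1 : (MulAut.conj g)⁻¹ * α * MulAut.conj g = 1 := by
      refine ReeAut.aut_trivial hm hF D _ ?_ ?_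
      · have h2 : orderOf ((MulAut.conj g)⁻¹ * α * MulAut.conj g) = orderOf α := by
          have h3 := orderOf_injective (MulAut.conj (MulAut.conj g)⁻¹).toMonoidHom
            (MulAut.conj (MulAut.conj g)⁻¹).injective α
          rw [← h3]
          congr 1
        rw [h2]
        exact ho
      · intro x hx
        have h2 : α (g * x * g⁻¹) = g * x * g⁻¹ := by
          apply hfix
          rw [← hg]
          calc g * x * g⁻¹ * (g * h (-1) * g⁻¹) = g * (x * h (-1)) * g⁻¹ := by group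
            _ = g * (h (-1) * x) * g⁻¹ := by rw [hx]
            _ = _ := by group
        rw [MulAut.mul_apply, MulAut.mul_apply, MulAut.conj_apply, h2, ← map_inv, MulAut.conj_apply]
        group
    calc α = MulAut.conj g * ((MulAut.conj g)⁻¹ * α * MulAut.conj g) * (MulAut.conj g)⁻¹ := by group
      _ = 1 := by rw [h1]; group

/-- **The small Ree groups are locally balanced.** -/
theorem locallyBalanced_ree {K : Type u} [Group K] (h : Lie.IsoRee K) : IsLocallyBalanced K := by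
  obtain ⟨F, _, _, m, hm, hF, ⟨e⟩⟩ := h
  obtain ⟨hs, hc⟩ := Cfsg.Agent.S1073.result hm hF
  have B := bal hm hF
  obtain ⟨h1, h2⟩ := Inner.autCoreFree hc B
  have hfin := B.fin
  have hfinK : Finite K := Finite.of_injective e e.injective
  refine (h1.congr e.symm).locallyBalanced ?_
  rw [eq_bot_iff]
  intro z hz
  have h3 : e z ∈ center ↥(Cfsg.Lie.twistedG2 F (3 ^ m)) := by
    rw [mem_center_iff] at hz ⊢
    intro x
    obtain ⟨y, rfl⟩ := e.surjective x
    rw [← map_mul, ← map_mul, hz]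
  rw [h2, mem_bot] at h3
  rw [mem_bot]
  exact e.injective (by rw [h3, map_one])

end Cfsg.Agent.UGT.U2.Ree
end
end

-- part: UAlt/Eleven/NormA
section
set_option linter.all false
open scoped Cfsg.Agent.FastGrp

/-!
# `K_v` is normal in `C(v)`, small fixed point sets

`normal_K_half` : `v`, `w` commuting involutions, `K`, `K'` 2-components of `C(v)`, `C(w)`, `v ∈ K'`, `w ∈ K`,
`K' / O(K')` alternating, `v` a root of `K'`; no `C_J(w)^∞`, `J ≠ K` a 2-component of `C(v)`, lies in `K'`; the roots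
of `K'` commuting with `v` and in half position to `v` fix all 2-components of `C(v)` except `K`.  Then `K` is normal
in `C(v)`.
-/

set_option autoImplicit false
set_option linter.unusedSectionVars false

open Cfsg Subgroup Equiv Equiv.Perm
open Cfsg.Agent.SignalizersComponents Cfsg.Agent.Lib
open Cfsg.Agent.SignalizersComponents.IntrinsicBasic
open Cfsg.Agent.SignalizersComponents.PLayerAut
open Cfsg.Agent.Intrinsic Cfsg.Agent.Intrinsic.Basic Cfsg.Agent.Intrinsic.Cen Cfsg.Agent.Intrinsic.Diag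
open Cfsg.Agent.StdAlt (V4 four4 mem_four4)
open Cfsg.Agent.StdAlt.Roots (IsRoot)
open scoped commutatorElement

namespace Cfsg.Agent.UAlt

section perm

variable {α : Type*} [Fintype α] [DecidableEq α]

/-- a root commuting with the root `σ`, with another support -/
theorem exists_half {P : Finset α} (h6 : 6 ≤ P.card) {σ : Perm α} (hσ : IsRoot σ) (hσP : σ ∈ sym P) :
    ∃ τ ∈ alt P, IsRoot τ ∧ σ * τ = τ * σ ∧ τ.support ≠ σ.support := by
  obtain ⟨a, ha⟩ := Finset.card_pos.mp (show 0 < σ.support.card by rw [hσ.2]; norm_num)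
  have hsP : σ.support ⊆ P := by
    intro x hx
    by_contra hn
    exact mem_support.mp hx (hσP x hn)
  obtain ⟨b, hb⟩ : ∃ b, b = σ a := ⟨_, rfl⟩
  have hab : a ≠ b := by rw [hb]; exact (mem_support.mp ha).symm
  have hba : σ b = a := by rw [hb, ← Perm.mul_apply, hσ.1, Perm.one_apply]
  have hbs : b ∈ σ.support := by rw [mem_support, hba]; exact hab
  obtain ⟨e, he, e', he', hee⟩ : ∃ e ∈ P \ σ.support, ∃ e' ∈ P \ σ.support, e ≠ e' := by
    apply Finset.one_lt_card.1
    have := Finset.le_card_sdiff σ.support P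
    rw [hσ.2] at this
    omega
  rw [Finset.mem_sdiff, notMem_support] at he he'
  have hea : a ≠ e := fun h => (mem_support.mp ha) (by rw [h]; exact he.2)
  have hea' : a ≠ e' := fun h => (mem_support.mp ha) (by rw [h]; exact he'.2)
  have heb : b ≠ e := fun h => (mem_support.mp hbs) (by rw [h]; exact he.2)
  have heb' : b ≠ e' := fun h => (mem_support.mp hbs) (by rw [h]; exact he'.2)
  have hr : IsRoot (swap a b * swap e e') :=
    Cfsg.Agent.StdAlt.Roots.isRoot_swap_mul hab hea hea' heb heb' hee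
  refine ⟨swap a b * swap e e', ⟨hr.mem_alternatingGroup, ?_⟩, hr, ?_, ?_⟩
  · intro x hx
    have h1 : ∀ {y : α}, y ∈ P → x ≠ y := fun hy h => hx (h ▸ hy)
    rw [Perm.mul_apply, swap_apply_of_ne_of_ne (h1 he.1) (h1 he'.1),
      swap_apply_of_ne_of_ne (h1 (hsP ha)) (h1 (hsP hbs))]
  · have h1 : σ * swap a b = swap a b * σ := by
      rw [Equiv.mul_swap_eq_swap_mul, ← hb, hba, swap_comm b a]
    have h2 : σ * swap e e' = swap e e' * σ := by
      rw [Equiv.mul_swap_eq_swap_mul, he.2, he'.2]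
    rw [← mul_assoc, h1, mul_assoc, h2, mul_assoc]
  · intro h
    have h1 : e ∈ (swap a b * swap e e').support := by
      rw [mem_support, Perm.mul_apply, swap_apply_left, swap_apply_of_ne_of_ne hea'.symm heb'.symm]
      exact hee.symm
    rw [h, mem_support] at h1
    exact h1 he.2

end perm

variable {G : Type*} [Group G] [Finite G] {α : Type*} [Fintype α] [DecidableEq α]
  {v w : G} {K K' : Subgroup G} {P : Finset α}

/-- step A -/
theorem fixes_other_side' (hv2 : v * v = 1) (hw2 : w * w = 1) (hvw : v * w = w * v)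
    (hK : IsComp (centralizer ({v} : Set G)) K) (hK' : IsComp (centralizer ({w} : Set G)) K')
    (hvK' : v ∈ K') (hwK : w ∈ K) {J : Subgroup G}
    (hJ : IsComp (centralizer ({v} : Set G)) J) (hne : J ≠ K) (hn : ¬ cen J w ≤ K') {j : G}
    (hj : j ∈ J) (hj2 : j * j = 1) (hjw : j * w = w * j) : Fixes j K' := by
  have hwJ : Fixes w J := hJ.fixes_of_mem hK hne hwK
  obtain ⟨J', hJ', hne', h1, -⟩ := jump hv2 hw2 hvw hJ hwJ hK' hvK' hn
  have h2 : j ∈ J' := by
    have h3 := mem_cen_of_sq hj hjw hj2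
    rw [h1] at h3
    exact cen_le J' v h3
  exact hK'.fixes_of_mem hJ' hne'.symm h2

/-- **the common part**: if `K` is not normal in `C(v)`, then for some `g ∈ C(v)`, `K^g ≠ K`, `w^g` commutes with `w`
and the 2-components `C_{K'}(w^g)^∞`, `C_{K'^g}(w)^∞` agree. -/
theorem exists_bad_conj (hv2 : v * v = 1) (hw2 : w * w = 1) (hvw : v * w = w * v)
    (hK : IsComp (centralizer ({v} : Set G)) K) (hK' : IsComp (centralizer ({w} : Set G)) K')
    (hvK' : v ∈ K') (hwK : w ∈ K) (hv1 : ¬ Fixes v K')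
    (hn : ∀ J, IsComp (centralizer ({v} : Set G)) J → J ≠ K → ¬ cen J w ≤ K')
    (hnot : ¬ centralizer ({v} : Set G) ≤ normalizer (K : Set G)) :
    ∃ g : G, g * v = v * g ∧ cj g K ≠ K ∧ ∃ j : G, j = g * w * g⁻¹ ∧ j * w = w * j ∧ j * v = v * j ∧
      Fixes j K' ∧ Fixes w (cj g K') ∧ v ∈ cen K' j ∧ cen K' j = cen (cj g K') w ∧
      cen K' j ⊔ core K' = K' ∧ cen (cj g K') w ⊔ core (cj g K') = cj g K' := by
  obtain ⟨g, hg, hne⟩ := SetLike.not_le_iff_exists.mp hnot
  rw [mem_normalizer_iff_cj] at hne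
  have hJ : IsComp (centralizer ({v} : Set G)) (cj g K) := isComp_cj_of_mem hK hg
  have hwJ : Fixes w (cj g K) := hJ.fixes_of_mem hK hne hwK
  have hj0 : g * w * g⁻¹ ∈ cj g K := conj_mem_cj hwK
  have hj02 : g * w * g⁻¹ * (g * w * g⁻¹) = 1 := by
    calc g * w * g⁻¹ * (g * w * g⁻¹) = g * (w * w) * g⁻¹ := by group
      _ = 1 := by rw [hw2]; group
  -- correction of `g`
  obtain ⟨o, ho, ho2, hoc⟩ := Lifting.exists_involution (n := 1) (odd_card_core (cj g K))
    (by rw [pow_one, pow_two, hw2] : w ^ 2 ^ 1 = 1) (normalizer_le_normalizer_core _ hwJ.1)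
    (le_normalizer_core _ hj0) (by rw [hj02]; exact one_mem _)
    ((fixes_iff_conj.mp hwJ).2 _ hj0)
  obtain ⟨z, hz, hzj⟩ := Lifting.exists_conj_eq (n := 1) (m := 1) (odd_card_core (cj g K))
    (v := g * w * g⁻¹) (v' := g * w * g⁻¹ * o) (by rw [pow_one, pow_two, hj02])
    (by rw [pow_one, pow_two, ho2]) (le_normalizer_core _ hj0) (by
      rw [inv_mul_cancel_left]; exact ho)
  have hzJ : z ∈ cj g K := core_le _ hz
  obtain ⟨g', hg'⟩ : ∃ g', g' = z * g := ⟨_, rfl⟩
  have hgv : g' * v = v * g' := by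
    have h1 : z * v = v * z := memC_iff.mp (hJ.le hzJ)
    rw [hg', mul_assoc, memC_iff.mp hg, ← mul_assoc, h1, mul_assoc]
  have hcjJ : cj g' K = cj g K := by
    rw [hg', cj_mul, cj_eq_self_of_mem hzJ]
  have hj : g' * w * g'⁻¹ = g * w * g⁻¹ * o := by
    rw [← hzj, hg']; group
  obtain ⟨j, hjd⟩ : ∃ j, j = g' * w * g'⁻¹ := ⟨_, rfl⟩
  have hj2 : j * j = 1 := by rw [hjd, hj]; exact ho2
  have hjw : j * w = w * j := by rw [hjd, hj]; exact hoc.symm
  have hvg : g'⁻¹ * v = v * g'⁻¹ := by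
    rw [inv_mul_eq_iff_eq_mul, ← mul_assoc, hgv, mul_inv_cancel_right]
  have hgv' : g' * v * g'⁻¹ = v := by rw [hgv, mul_inv_cancel_right]
  have hgv'' : g'⁻¹ * v * g' = v := by rw [hvg, inv_mul_cancel_right]
  have hjv : j * v = v * j := by
    have h1 : g' * (w * v) * g'⁻¹ = g' * (v * w) * g'⁻¹ := by rw [hvw]
    calc j * v = g' * w * g'⁻¹ * (g' * v * g'⁻¹) := by rw [hjd, hgv']
      _ = g' * (w * v) * g'⁻¹ := by group
      _ = g' * (v * w) * g'⁻¹ := h1
      _ = (g' * v * g'⁻¹) * (g' * w * g'⁻¹) := by group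
      _ = v * j := by rw [hjd, hgv']
  rw [← hcjJ] at hJ hne
  -- `j` fixes `K'`
  have hf1 : Fixes j K' := fixes_other_side' hv2 hw2 hvw hK hK' hvK' hwK hJ hne (hn _ hJ hne)
    (by rw [hjd]; exact conj_mem_cj hwK) hj2 hjw
  -- `w` fixes `K'^g`
  have hf2 : Fixes w (cj g' K') := by
    have hJ2 : IsComp (centralizer ({v} : Set G)) (cj g'⁻¹ K) :=
      isComp_cj_of_mem hK (memC_iff.mpr hvg)
    have hne2 : cj g'⁻¹ K ≠ K := by
      intro h
      apply hne
      conv_lhs => rw [← h]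
      rw [cj_cj_inv]
    have hm : g'⁻¹ * w * g' ∈ cj g'⁻¹ K := by
      have := conj_mem_cj (g := g'⁻¹) hwK
      rwa [inv_inv] at this
    have h2 : g'⁻¹ * w * g' * (g'⁻¹ * w * g') = 1 := by
      calc g'⁻¹ * w * g' * (g'⁻¹ * w * g') = g'⁻¹ * (w * w) * g' := by group
        _ = 1 := by rw [hw2]; group
    have h3 : g'⁻¹ * w * g' * w = w * (g'⁻¹ * w * g') := by
      have h4 : g'⁻¹ * (w * j) * g' = g'⁻¹ * (j * w) * g' := by rw [hjw]
      calc g'⁻¹ * w * g' * w = g'⁻¹ * (w * (g' * w * g'⁻¹)) * g' := by group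
        _ = g'⁻¹ * (j * w) * g' := by rw [← hjd, h4]
        _ = w * (g'⁻¹ * w * g') := by rw [hjd]; group
    have h5 := (fixes_other_side' hv2 hw2 hvw hK hK' hvK' hwK hJ2 hne2 (hn _ hJ2 hne2) hm h2 h3).cj g'
    have h6 : g' * (g'⁻¹ * w * g') * g'⁻¹ = w := by group
    rwa [h6] at h5
  have hK'' : IsComp (centralizer ({j} : Set G)) (cj g' K') := by
    have := hK'.cj g'
    rwa [cj_centralizer, ← hjd] at this
  obtain ⟨hI1, hs1⟩ := isComp_cen hK' (memC_iff.mpr hjw) hj2 hf1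
  obtain ⟨hI2, hs2⟩ := isComp_cen hK'' (memC_iff.mpr hjw.symm) hw2 hf2
  rw [inf_comm] at hI2
  have hv1' : v ∈ cen K' j := mem_cen_of_sq hvK' hjv.symm hv2
  have hvK'' : v ∈ cj g' K' := by
    have := conj_mem_cj (g := g') hvK'
    rwa [hgv'] at this
  have hv2' : v ∈ cen (cj g' K') w := mem_cen_of_sq hvK'' hvw hv2
  have heq : cen K' j = cen (cj g' K') w := by
    by_contra hne3
    have h1 := hI1.fixes_of_mem hI2 hne3 hv2'
    exact hv1 ((fixes_iff_of_sup hs1 h1.1 (le_normalizer hvK')).mp h1)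
  exact ⟨g', hgv, hne, j, hjd, hjw, hjv, hf1, hf2, hv1', heq, hs1, hs2⟩

/-- **`K` is normal in `C(v)`** -/
theorem normal_K_half (hv2 : v * v = 1) (hw2 : w * w = 1) (hvw : v * w = w * v)
    (hK : IsComp (centralizer ({v} : Set G)) K) (hK' : IsComp (centralizer ({w} : Set G)) K')
    (hvK' : v ∈ K') (hwK : w ∈ K) (M : Mod K' P) (hv1 : IsRoot (M.φ v)) (h7 : 7 ≤ P.card)
    (hn : ∀ J, IsComp (centralizer ({v} : Set G)) J → J ≠ K → ¬ cen J w ≤ K')
    (hA : ∀ s ∈ K', s * s = 1 → v * s = s * v → IsRoot (M.φ s) → (M.φ s).support ≠ (M.φ v).support →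
      (∀ J, IsComp (centralizer ({v} : Set G)) J → J ≠ K → Fixes s J) ∧ ¬ Fixes s K) :
    centralizer ({v} : Set G) ≤ normalizer (K : Set G) := by
  by_contra hnot
  have hne1 : ¬ Fixes v K' := by
    intro h
    have h1 := (M.fixes_iff (le_normalizer hvK')).mpr h
    have h2 := hv1.2
    rw [h1, Perm.support_one, Finset.card_empty] at h2
    omega
  obtain ⟨g, hgv, hne, j, hjd, hjw, hjv, hf1, hf2, hvI, heq, hs1, hs2⟩ :=
    exists_bad_conj hv2 hw2 hvw hK hK' hvK' hwK hne1 hn hnot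
  have hvg : g⁻¹ * v = v * g⁻¹ := by
    rw [inv_mul_eq_iff_eq_mul, ← mul_assoc, hgv, mul_inv_cancel_right]
  have hgv'' : g⁻¹ * v * g = v := by rw [hvg, inv_mul_cancel_right]
  have hvI2 : v ∈ cen (cj g K') w := heq ▸ hvI
  obtain ⟨A1, hA1⟩ := M.exists_restrict h7 hs1
  obtain ⟨A2', hA2'⟩ := (M.cj g).exists_restrict h7 hs2
  obtain ⟨A2, hA2⟩ : ∃ A2 : Mod (cen K' j) P, ∀ x ∈ cen K' j, A2.φ x = (M.cj g).φ x := by
    rw [heq]; exact ⟨A2', hA2'⟩
  obtain ⟨τ, hτP, hτ⟩ := Mod.exists_bij A1 A2 h7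
  -- `s ∈ I`
  obtain ⟨σ, hσ, hσr, hσc, hσs⟩ := exists_half (P := P) (by omega) hv1 (M.mem_sym v (le_normalizer hvK'))
  obtain ⟨s, hs, hss, hvs, hsσ⟩ := A1.exists_inv_lift (t := v) (le_normalizer hvI) (n := 1)
    (by rw [pow_one, pow_two, hv2]) hσ hσr.1 (by rw [hA1 v hvI]; exact hσc)
  have hsK' : s ∈ K' := cen_le K' j hs
  have e1 : M.φ s = σ := by rw [← hA1 s hs]; exact hsσ
  obtain ⟨-, h1⟩ := hA s hsK' hss hvs (by rw [e1]; exact hσr) (by rw [e1]; exact hσs)
  -- the conjugate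
  have hs2K : s ∈ cj g K' := by
    rw [heq] at hs
    exact cen_le _ w hs
  have hs'K' : g⁻¹ * s * g ∈ K' := mem_cj.mp hs2K
  have e2 : M.φ (g⁻¹ * s * g) = τ * σ * τ⁻¹ := by
    rw [← Mod.cj_φ, ← hA2 s hs, hτ s (le_normalizer hs), hA1 s hs, e1]
  have e3 : M.φ v = τ * M.φ v * τ⁻¹ := by
    have h2 : M.φ v = (M.cj g).φ v := by rw [Mod.cj_φ, hgv'']
    conv_lhs => rw [h2, ← hA2 v hvI, hτ v (le_normalizer hvI), hA1 v hvI]
  have h2 : g⁻¹ * s * g * (g⁻¹ * s * g) = 1 := by
    calc g⁻¹ * s * g * (g⁻¹ * s * g) = g⁻¹ * (s * s) * g := by group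
      _ = 1 := by rw [hss]; group
  have h3 : v * (g⁻¹ * s * g) = g⁻¹ * s * g * v := by
    calc v * (g⁻¹ * s * g) = (v * g⁻¹) * s * g := by group
      _ = g⁻¹ * (v * s) * g := by rw [← hvg]; group
      _ = g⁻¹ * s * (v * g) := by rw [hvs]; group
      _ = g⁻¹ * s * g * v := by rw [← hgv]; group
  obtain ⟨h4, -⟩ := hA (g⁻¹ * s * g) hs'K' h2 h3 (by rw [e2]; exact hσr.conj τ) (by
    rw [e2, e3, Perm.support_conj, Perm.support_conj]
    exact fun h => hσs (Finset.map_injective _ h))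
  have hJ2 : IsComp (centralizer ({v} : Set G)) (cj g⁻¹ K) :=
    isComp_cj_of_mem hK (memC_iff.mpr hvg)
  have hne2 : cj g⁻¹ K ≠ K := by
    intro h
    apply hne
    conv_lhs => rw [← h]
    rw [cj_cj_inv]
  have h5 := (h4 _ hJ2 hne2).cj g
  rw [cj_cj_inv] at h5
  apply h1
  convert h5 using 1
  group

end Cfsg.Agent.UAlt
end

-- part: UGT/A7/Star_mg
section
prune_inst 0xc0000200482202000000000200000000000001000000000051810400000e50620000a00041000c01500a000000000000000800c000100000000004000000002090a840002300010426009f801003180c00000000000000000000000000041000000000000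
set_option linter.all false
open scoped Cfsg.Agent.FastGrp

-- part: UGT/A7/World
section
/-!
# Branch [A7] of S1311: the statements of the parts

All groups with labels: `M : Lab L` = a labelling of `N(L)` acting on `L / O(L) ≅ A₇` by permutations of `Fin 7`.

* `W7 G`: every triple of `G` has type `A₇`, or `PSL₂(q)` with `x` not inner.
* `Pump7 G`: pump-ups of `A₇`-triples along involutions `c` fixing `L / O(L)`.
* `Seven0 G` = (7.0): pump-ups of the 5-point component of a transposition `t`.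
* `BetaRank G` = the part of (beta') about `Q`; `Normal7 G`, `NonSpecial G` = (1); `Star G` = (4)(*);
  `Seven3 G` = (7.3).
-/

set_option autoImplicit false

open Cfsg Subgroup Equiv
open Cfsg.Agent.SignalizersComponents.IntrinsicBasic (cj)
open Cfsg.Agent.UGT.Triple Cfsg.Agent.UGT.Iface Cfsg.Agent.UGT.TriBase
open Cfsg.Agent.UAlt
open Cfsg.Agent.Intrinsic.Basic (Fixes IsComp core)
open Cfsg.Agent.Intrinsic.Cen (cen)
open Cfsg.Agent.Intrinsic.Diag (diag)

namespace Cfsg.Agent.UGT.A7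

universe u

/-- the world of branch A7 (the types of `Nodes.NodeA7'`) -/
def W7 (G : Type u) [Group G] : Prop :=
  Nodes.Types G fun x L => (IsL2 (Bar L) ∧ ¬ IsInner x L) ∨ IsAlt 7 (Bar L)

/-- labels for `L / O(L) ≅ A₇` -/
abbrev Lab {G : Type u} [Group G] (L : Subgroup G) := _root_.Cfsg.Agent.UAlt.Mod L (Finset.univ : Finset (Fin 7))

/-- `L / O(L) ≅ A₅` with labels the fixed points of `σ` -/
abbrev Lab5 {G : Type u} [Group G] (L : Subgroup G) (σ : Perm (Fin 7)) :=
  _root_.Cfsg.Agent.UAlt.Mod L (fixIn (Finset.univ : Finset (Fin 7)) σ)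

variable (G : Type u) [Group G]

/-- Pump-ups along an involution `c` fixing `L / O(L)`. -/
def Pump7 : Prop := ∀ (x a c : G) (L : Subgroup G) (M : Lab L), IsTriple x a L → orderOf c = 2 →
  c * a = a * c → c * x = x * c → Fixes c L →
  ∃ (N : Subgroup G) (M' : Lab N), IsTriple x c N ∧ (∀ y ∈ cen L c, M'.φ y = M.φ y) ∧
    ((Fixes a N ∧ cen L c ≤ N) ∨ (cj a N ≠ N ∧ cen L c = diag (centralizer ({c} : Set G)) N a))

/-- (7.0): pump-ups of the 5-point component of `C_L(t)`, `t` a transposition commuting with `x`. -/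
def Seven0 : Prop := ∀ (x a t : G) (L : Subgroup G) (M : Lab L) (i j k l : Fin 7), IsTriple x a L →
  i ≠ j → i ≠ k → i ≠ l → j ≠ k → j ≠ l → k ≠ l → M.φ x = swap i j * swap k l →
  orderOf t = 2 → t * a = a * t → t * x = x * t → t ∈ normalizer (L : Set G) → M.φ t = swap i j →
  ∃ N : Subgroup G, IsTriple x t N ∧
    ((Fixes a N ∧ M.cmp t ≤ N ∧ ∃ M' : Lab5 N (M.φ t), ∀ y ∈ M.cmp t, M'.φ y = M.φ y) ∨
     (a ∈ normalizer (N : Set G) ∧ M.cmp t ≤ N ∧
        ∃ M' : Lab N, M'.φ a = swap i j ∧ ∀ y ∈ M.cmp t, M'.φ y = M.φ y) ∨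
     (cj a N ≠ N ∧ M.cmp t = diag (centralizer ({t} : Set G)) N a ∧
        ∃ M' : Lab5 N (M.φ t), ∀ y ∈ M.cmp t, M'.φ y = M.φ y))

variable {G} in
/-- a special triple: `x` or `a x` in `L` -/
def Special (x a : G) (L : Subgroup G) : Prop := IsTriple x a L ∧ (x ∈ L ∨ a * x ∈ L)

/-- the consequence of (beta') for `Q = C_T(L / O(L))` -/
def BetaRank : Prop := ∀ (x a : G) (L T : Subgroup G) (_ : Lab L), Special x a L →
  IsSyl (centralizer ({a} : Set G)) T →
  (∀ q ∈ fix T L, q * q = 1 → q = 1 ∨ q = a) ∨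
  (Nat.card ↥(fix T L) = 4 ∧ ∀ q ∈ fix T L, q * q = 1)

/-- (1): `L` is normal in `C(a)` -/
def Normal7 : Prop := ∀ (x a : G) (L : Subgroup G) (_ : Lab L), IsTriple x a L →
  centralizer ({a} : Set G) ≤ normalizer (L : Set G)

/-- (1): if there is a triple of type `A₇`, there is a special one -/
def NonSpecial : Prop := ∀ (x a : G) (L : Subgroup G) (_ : Lab L), IsTriple x a L →
  ∃ (b : G) (K : Subgroup G) (_ : Lab K), Special x b K

/-- (1): no diagonal pump-ups along involutions `c` fixing `L / O(L)` -/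
def PumpNoDiag : Prop := ∀ (x a c : G) (L : Subgroup G) (M : Lab L), IsTriple x a L → orderOf c = 2 →
  c * a = a * c → c * x = x * c → Fixes c L →
  ∃ (N : Subgroup G) (M' : Lab N), IsTriple x c N ∧ (∀ y ∈ cen L c, M'.φ y = M.φ y) ∧
    Fixes a N ∧ cen L c ≤ N

/-- (4)(*): for a special triple with `Q` a four-group no transposition `w ∈ T` centralizes `P` and `Q`. -/
def Star : Prop := ∀ (x a : G) (L T : Subgroup G) (M : Lab L), Special x a L →
  IsSyl (centralizer ({a} : Set G)) T → Nat.card ↥(fix T L) = 4 → (∀ q ∈ fix T L, q * q = 1) →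
  ∀ w ∈ T, ∀ i j : Fin 7, i ≠ j → M.φ w = swap i j → (∀ p ∈ T ⊓ L, w * p = p * w) →
    (∀ q ∈ fix T L, w * q = q * w) → False

/-- (7.3): the third case of `Seven0` does not occur if `Q = ⟨a⟩`. -/
def Seven3 : Prop := ∀ (x a t : G) (L T N : Subgroup G) (M : Lab L) (i j k l : Fin 7), Special x a L →
  IsSyl (centralizer ({a} : Set G)) T → Nat.card ↥(fix T L) = 2 → x ∈ T → t ∈ T →
  i ≠ j → i ≠ k → i ≠ l → j ≠ k → j ≠ l → k ≠ l → M.φ x = swap i j * swap k l →
  orderOf t = 2 → t * x = x * t → M.φ t = swap i j → IsTriple x t N →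
  cj a N ≠ N → M.cmp t = diag (centralizer ({t} : Set G)) N a → False

end Cfsg.Agent.UGT.A7
end

-- part: UGT/A7/Perm7
section
/-!
# 2-groups of permutations of 7 points centralizing a regular four-group of four points
-/

set_option autoImplicit false

open Equiv Equiv.Perm Subgroup

namespace Cfsg.Agent.UGT.A7.Perm7

/-- the set `{4, 5, 6}` -/
abbrev F3 : Finset (Fin 7) := {4, 5, 6}

theorem split3 : ∀ e ∈ F3, ∃ f k : Fin 7, f ≠ e ∧ k ≠ e ∧ f ≠ k ∧ f ∈ F3 ∧ k ∈ F3 ∧
    ∀ i, i ∈ F3 → i = e ∨ i = f ∨ i = k := by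
  decide +kernel

theorem inv_self (σ : Perm (Fin 7)) (i : Fin 7) : σ⁻¹ (σ i) = i := σ.symm_apply_apply i

variable {A B : Subgroup (Perm (Fin 7))}

theorem surj (hA4 : Nat.card A = 4) (hA : ∀ g ∈ A, g ≠ 1 → ∀ i : Fin 7, g i = i ↔ i ∈ F3)
    {m : Fin 7} (hm : m ∉ F3) : ∃ g ∈ A, g 0 = m := by
  have h0 : (0 : Fin 7) ∉ F3 := by decide
  have h1 : ∀ g ∈ A, g 0 ∉ F3 := by
    intro g hg h
    by_cases h2 : g = 1
    · rw [h2] at h; exact h0 h
    · have h3 := (hA g hg h2 (g 0)).mpr h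
      have h4 := g.injective h3
      rw [h4] at h
      exact h0 h
  let f : A → {m : Fin 7 // m ∉ F3} := fun g => ⟨(g : Perm (Fin 7)) 0, h1 g g.2⟩
  have hf : Function.Injective f := by
    intro g h hgh
    have h2 : (g : Perm (Fin 7)) 0 = (h : Perm (Fin 7)) 0 := congrArg Subtype.val hgh
    by_contra hne
    have h3 : ((h : Perm (Fin 7))⁻¹ * g) ≠ 1 := by
      intro h4
      exact hne (Subtype.ext (inv_mul_eq_one.mp h4).symm)
    have h4 := (hA _ (mul_mem (inv_mem h.2) g.2) h3 0).mp (by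
      rw [Perm.mul_apply, h2, inv_self])
    exact h0 h4
  have hc : Nat.card {m : Fin 7 // m ∉ F3} = 4 := by
    rw [Nat.card_eq_fintype_card]
    decide
  have hbij : Function.Bijective f := by
    rw [Nat.bijective_iff_injective_and_card]
    exact ⟨hf, by rw [hA4, hc]⟩
  obtain ⟨g, hg⟩ := hbij.2 ⟨m, hm⟩
  exact ⟨g, g.2, congrArg Subtype.val hg⟩

/-- the bound -/
theorem main (hB : IsPGroup 2 B) (hA4 : Nat.card A = 4) (hAsq : ∀ g ∈ A, g * g = 1)
    (hA : ∀ g ∈ A, g ≠ 1 → ∀ i : Fin 7, g i = i ↔ i ∈ F3)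
    (hc : ∀ b ∈ B, ∀ g ∈ A, b * g = g * b) : Nat.card B ≤ 8 ∧ ∀ b ∈ B, b * b = 1 := by
  have h0 : (0 : Fin 7) ∉ F3 := by decide
  have hc' : ∀ b ∈ B, ∀ g ∈ A, ∀ i, b (g i) = g (b i) := by
    intro b hb g hg i
    have := congrArg (fun z : Perm (Fin 7) => z i) (hc b hb g hg)
    simpa using this
  obtain ⟨g₀, hg₀, hg1⟩ : ∃ g ∈ A, g ≠ 1 := by
    by_contra hcon
    push Not at hcon
    have h1 : A = ⊥ := (Subgroup.eq_bot_iff_forall A).mpr hcon
    rw [h1, Subgroup.card_bot] at hA4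
    omega
  have hB3 : ∀ b ∈ B, ∀ i ∈ F3, b i ∈ F3 := by
    intro b hb i hi
    rw [← hA g₀ hg₀ hg1, ← hc' b hb g₀ hg₀, (hA g₀ hg₀ hg1 i).mpr hi]
  have hB4 : ∀ b ∈ B, ∀ i, i ∉ F3 → b i ∉ F3 := by
    intro b hb i hi h
    have h1 := hB3 _ (inv_mem hb) _ h
    rw [inv_self] at h1
    exact hi h1
  -- a fixed point
  obtain ⟨e, he, hfe⟩ : ∃ e ∈ F3, ∀ b ∈ B, b e = e := by
    have : Fact (Nat.Prime 2) := ⟨Nat.prime_two⟩
    let _ : MulAction B {e : Fin 7 // e ∈ F3} :=
      { smul := fun b e => ⟨(b : Perm (Fin 7)) e, hB3 b b.2 e e.2⟩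
        one_smul := fun e => Subtype.ext (by
          show ((1 : B) : Perm (Fin 7)) e = e
          simp only [_root_.OneMemClass.coe_one, _root_.Equiv.Perm.coe_one, _root_.id_eq])
        mul_smul := fun b c e => Subtype.ext (by
          show ((b * c : B) : Perm (Fin 7)) e = (b : Perm (Fin 7)) ((c : Perm (Fin 7)) e)
          simp) }
    obtain ⟨⟨e, he⟩, h1⟩ := hB.nonempty_fixed_point_of_prime_not_dvd_card
      {e : Fin 7 // e ∈ F3} (by
        have : Nat.card {e : Fin 7 // e ∈ F3} = 3 := by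
          rw [Nat.card_eq_fintype_card]
          decide
        rw [this]
        decide)
    exact ⟨e, he, fun b hb => congrArg Subtype.val (h1 ⟨b, hb⟩)⟩
  obtain ⟨f, k, hfe', hke, hfk, hfF, hkF, hall⟩ := split3 e he
  have hbe : ∀ b ∈ B, ∀ i, i ≠ e → b i ≠ e := by
    intro b hb i hi h
    apply hi
    rw [← hfe b hb] at h
    exact b.injective h
  -- rigidity
  have hrig : ∀ b ∈ B, b 0 = 0 → b f = f → b = 1 := by
    intro b hb hb0 hbf
    ext i
    rw [Perm.one_apply]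
    congr 1
    by_cases hi : i ∈ F3
    · rcases hall i hi with rfl | rfl | rfl
      · exact hfe b hb
      · exact hbf
      · rcases hall _ (hB3 b hb i hi) with h | h | h
        · exact absurd h (hbe b hb i hke)
        · exfalso
          rw [← hbf] at h
          exact hfk (b.injective h).symm
        · exact h
    · obtain ⟨g, hg, rfl⟩ := surj hA4 hA hi
      rw [hc' b hb g hg, hb0]
  have hsq : ∀ b ∈ B, b * b = 1 := by
    intro b hb
    apply hrig _ (mul_mem hb hb)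
    · obtain ⟨g, hg, hgb⟩ := surj hA4 hA (hB4 b hb 0 h0)
      rw [Perm.mul_apply, ← hgb, hc' b hb g hg, ← hgb, ← Perm.mul_apply, hAsq g hg, Perm.one_apply]
    · rw [Perm.mul_apply]
      rcases hall _ (hB3 b hb f hfF) with h | h | h
      · exact absurd h (hbe b hb f hfe')
      · rw [h, h]
      · rw [h]
        rcases hall _ (hB3 b hb k hkF) with h' | h' | h'
        · exact absurd h' (hbe b hb k hke)
        · exact h'
        · exfalso
          exact hfk (b.injective (h.trans h'.symm))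
  refine ⟨?_, hsq⟩
  let F : B → {m : Fin 7 // m ∉ F3} × {m : Fin 7 // m = f ∨ m = k} := fun b =>
    (⟨(b : Perm (Fin 7)) 0, hB4 b b.2 0 h0⟩, ⟨(b : Perm (Fin 7)) f, by
      rcases hall _ (hB3 b b.2 f hfF) with h | h | h
      · exact absurd h (hbe b b.2 f hfe')
      · exact Or.inl h
      · exact Or.inr h⟩)
  have hF : Function.Injective F := by
    intro b c h
    have h1 : (b : Perm (Fin 7)) 0 = (c : Perm (Fin 7)) 0 :=
      congrArg (fun z => (z.1 : Fin 7)) h
    have h2 : (b : Perm (Fin 7)) f = (c : Perm (Fin 7)) f :=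
      congrArg (fun z => (z.2 : Fin 7)) h
    have h3 := hrig ((c : Perm (Fin 7))⁻¹ * b) (mul_mem (inv_mem c.2) b.2)
      (by rw [Perm.mul_apply, h1, inv_self])
      (by rw [Perm.mul_apply, h2, inv_self])
    exact Subtype.ext (inv_mul_eq_one.mp h3).symm
  have h1 := Nat.card_le_card_of_injective F hF
  rw [Nat.card_prod] at h1
  have h2 : Nat.card {m : Fin 7 // m ∉ F3} = 4 := by
    rw [Nat.card_eq_fintype_card]
    decide
  have h3 : Nat.card {m : Fin 7 // m = f ∨ m = k} ≤ 2 := by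
    let g : {m : Fin 7 // m = f ∨ m = k} → Bool := fun m => decide ((m : Fin 7) = f)
    have hg : Function.Injective g := by
      rintro ⟨m, hm⟩ ⟨n, hn⟩ h
      have h4 : (m = f) ↔ (n = f) := by
        have : decide (m = f) = decide (n = f) := h
        simpa using this
      apply Subtype.ext
      show m = n
      rcases hm with rfl | rfl <;> rcases hn with rfl | rfl
      · rfl
      · exact absurd (h4.mp rfl).symm hfk
      · exact absurd (h4.mpr rfl).symm hfk
      · rfl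
    have := Nat.card_le_card_of_injective g hg
    simpa only [_root_.Nat.card_eq_fintype_card, _root_.ge_iff_le, _root_.Fintype.card_bool] using this
  rw [h2] at h1
  calc Nat.card B ≤ 4 * Nat.card {m : Fin 7 // m = f ∨ m = k} := h1
    _ ≤ 4 * 2 := Nat.mul_le_mul_left _ h3
    _ = 8 := rfl

end Cfsg.Agent.UGT.A7.Perm7
end

-- part: UGT/A7/Star
section
/-!
# Branch [A7]: (1) and (4)(*) in the form of `A7/World.lean`

* `T7.of_lab`: triples of type `A₇` are inner.
* `normal7`, `nonSpecial`, `pumpNoDiag`: section (1).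
* `star`: section (4)(*).
-/

set_option autoImplicit false
set_option linter.unusedSectionVars false

open Cfsg Subgroup Equiv Equiv.Perm
open Cfsg.Agent.UAlt
open Cfsg.Agent.SignalizersComponents Cfsg.Agent.Lib
open Cfsg.Agent.SignalizersComponents.IntrinsicBasic
open Cfsg.Agent.Intrinsic.Basic Cfsg.Agent.Intrinsic.Cen Cfsg.Agent.Intrinsic.Diag
open Cfsg.Agent.McLLyComp.Act
open Cfsg.Agent.UGT.Triple Cfsg.Agent.UGT.PumpGen Cfsg.Agent.UGT.TriBase
open Cfsg.Agent.UGT.A7.Mu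
open Cfsg.Agent.UGT.RedAlt (three_fix)
open Cfsg.Agent.StdAlt.Roots (IsRoot)
open scoped commutatorElement

namespace Cfsg.Agent.UGT.A7.Star

/-! ### permutations -/

/-- even involutions of 7 points are roots -/
theorem isRoot_of_even {σ : Perm (Fin 7)} (h1 : σ * σ = 1) (hne : σ ≠ 1)
    (he : σ ∈ alternatingGroup (Fin 7)) : IsRoot σ := by
  refine ⟨h1, ?_⟩
  have ho : orderOf σ = 2 := orderOf_eq_prime (by rw [pow_two, h1]) hne
  obtain ⟨n, hn⟩ := Equiv.Perm.cycleType_prime_order (σ := σ) (by rw [ho]; exact Nat.prime_two)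
  rw [ho] at hn
  have h2 : σ.cycleType.sum = 2 * (n + 1) := by
    rw [hn, Multiset.sum_replicate, smul_eq_mul, mul_comm]
  have h3 := Equiv.Perm.sum_cycleType σ
  have h4 : σ.support.card ≤ 7 := by
    have := Finset.card_le_univ σ.support
    rwa [Fintype.card_fin] at this
  have h5 := Equiv.Perm.sign_of_cycleType σ
  rw [Equiv.Perm.mem_alternatingGroup.mp he, h2, hn, Multiset.card_replicate] at h5
  have h6 : n ≤ 2 := by omega
  interval_cases n
  · exact absurd h5 (by decide)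
  · omega
  · exact absurd h5 (by decide)

theorem isRoot_of_three {σ : Perm (Fin 7)} (h1 : σ * σ = 1)
    (h3 : (fixIn Finset.univ σ).card = 3) : IsRoot σ := by
  refine ⟨h1, ?_⟩
  have h6 := Finset.card_filter_add_card_filter_not (s := (Finset.univ : Finset (Fin 7)))
    (p := fun i => σ i = i)
  rw [Finset.card_univ, Fintype.card_fin] at h6
  have h7 : (fixIn Finset.univ σ).card = (Finset.univ.filter fun i => σ i = i).card := rfl
  have h8 : σ.support = (Finset.univ.filter fun i => ¬ σ i = i) := by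
    ext i
    simp [Equiv.Perm.mem_support]
  rw [h8]
  omega

/-! ### triples -/

variable {G : Type*} [Group G] [Finite G] {x a c : G} {L N : Subgroup G}

/-- triples of type `A₇` are inner -/
theorem T7.of_lab (T : IsTriple x a L) (M : M7 L) : T7 x a L := by
  refine ⟨T, ⟨M⟩, ?_⟩
  have h1 := M.sq T.x_mem (sq_of_order T.invx)
  have h2 := isRoot_of_three h1 (three_fix T M).1
  obtain ⟨r, hr, hrx⟩ := M.lift (M.φ x) (by
    rw [alt_univ]
    exact h2.mem_alternatingGroup)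
  refine ⟨r, hr, ?_⟩
  rw [← M.fixes_iff (mul_mem T.x_mem (inv_mem (le_normalizer hr))),
    M.mul _ _ T.x_mem (inv_mem (le_normalizer hr)), M.inv (le_normalizer hr), hrx, mul_inv_cancel]

theorem muPump (hP : A7.Pump7 G) : Mu.Pump7 G := by
  rintro x a c L T hc hca hcx hcL
  obtain ⟨M⟩ := T.a7
  obtain ⟨N, M', h1, -, h2⟩ := hP x a c L M T.tri hc hca hcx hcL
  refine ⟨N, h1, ⟨M'⟩, ?_⟩
  rcases h2 with ⟨h3, h4⟩ | h3
  · exact Or.inl ⟨h3.1, h4⟩
  · exact Or.inr h3

/-- **(1)**: `L` is normal in `C(a)` -/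
theorem normal7 (hP : A7.Pump7 G) (hB : BetaP G) : Normal7 G := by
  intro x a L M T
  exact (T7.of_lab T M).cent_le (muPump hP) hB

/-- **(1)**: no diagonal pump-ups -/
theorem pumpNoDiag (hP : A7.Pump7 G) (hB : BetaP G) : PumpNoDiag G := by
  intro x a c L M T hc hca hcx hcL
  have T' := T7.of_lab T M
  obtain ⟨N, M', h1, h2, h3⟩ := hP x a c L M T hc hca hcx hcL
  refine ⟨N, M', h1, h2, ?_⟩
  rcases h3 with h3 | ⟨h3, h4⟩
  · exact h3
  · exact (T'.no_diag (muPump hP) hB hc hca hcx hcL (T7.of_lab h1 M') h3 h4).elim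

/-- **(1)**: existence of special triples -/
theorem nonSpecial (hP : A7.Pump7 G) (hB : BetaP G) : NonSpecial G := by
  intro x a L M T
  have T' := T7.of_lab T M
  obtain ⟨l, hl, hll, hlx, -, hφ⟩ := T'.exists_l M (E := ⊥) IsPGroup.of_bot bot_le (by
    intro e he
    rw [mem_bot.mp he, one_mul, mul_one])
  by_cases hq1 : x * l = 1
  · refine ⟨a, L, M, T, Or.inl ?_⟩
    rw [mul_eq_one_iff_eq_inv.mp hq1]
    exact inv_mem hl
  by_cases hqa : x * l = a
  · refine ⟨a, L, M, T, Or.inr ?_⟩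
    rw [T'.ax, ← hqa, ← mul_assoc, T'.xx, one_mul]
    exact hl
  obtain ⟨N, hN, hxN, -⟩ := T'.nonspecial (muPump hP) hB M hl hll hlx hφ hq1 hqa
  obtain ⟨M'⟩ := hN.a7
  refine ⟨x * l, N, M', hN.tri, Or.inr ?_⟩
  rwa [hN.ax]

/-- the involutions of `L` are conjugate -/
theorem exists_conj_inv (M : M7 L) {l z : G} (hl : l ∈ L) (hz : z ∈ L) (hll : l * l = 1)
    (hzz : z * z = 1) (hl1 : l ≠ 1) (hz1 : z ≠ 1) : ∃ k ∈ L, k * l * k⁻¹ = z := by
  have key : ∀ {l : G}, l ∈ L → l * l = 1 → l ≠ 1 → IsRoot (M.φ l) := by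
    intro l hl hll hl1
    refine isRoot_of_even (M.sq (le_normalizer hl) hll) (fun h => hl1 ?_) ?_
    · exact eq_one_of_mem_core_sq ((M.core_iff l hl).mp h) hll
    · have := M.mem_alt l hl
      rwa [alt_univ] at this
  exact M.exists_conj_root hl hz hll hzz (key hl hll hl1) (key hz hzz hz1)

/-- **(β')** for a Sylow 2-subgroup `T` of `C(a)`, with `x` replaced by an `L`-conjugate in `Z(T)`. -/
theorem exists_central_form (hP : A7.Pump7 G) (hB : BetaP G) {T : Subgroup G} (M : M7 L)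
    (hS : Special x a L) (hT : IsSyl (centralizer ({a} : Set G)) T) :
    ∃ x' z : G, z ∈ T ∧ z ∈ L ∧ z ≠ 1 ∧ z * z = 1 ∧ (∀ s ∈ T, s * z = z * s) ∧
      (x' = z ∨ x' = a * z) ∧ T7 x' a L ∧
      ((∀ q ∈ fix T L, q * q = 1 → q = 1 ∨ q = a) ∨
      (Nat.card (fix T L) = 4 ∧ (∀ q ∈ fix T L, q * q = 1) ∧
        ∃ (v : G) (K : Subgroup G) (M' : M7 K), (∃ r ∈ fix T L, v = x' * r) ∧ T7 x' v K ∧
          ∀ g ∈ fix T L, g ≠ 1 → g ∈ normalizer (K : Set G) ∧
            ∀ i : Fin 7, M'.φ g i = i ↔ i ∈ ({4, 5, 6} : Finset (Fin 7)))) := by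
  have hPm := muPump hP
  have T' := T7.of_lab hS.1 M
  have hn := T'.cent_le hPm hB
  have hTn : T ≤ normalizer (L : Set G) := hT.le.trans hn
  have hPs : IsSyl L (T ⊓ L) := hT.inf T'.tri.comp.le hn
  -- `T ∩ L` is normal in `T`
  have hTP : T ≤ normalizer (T ⊓ L : Set G) := by
    intro t ht
    have h1 := mem_normalizer_iff_cj.mp (hTn ht)
    have h2 : IntrinsicBasic.cj t T = T := cj_eq_self_of_mem ht
    have h3 : t ∈ normalizer ((T ⊓ L : Subgroup G) : Set G) := by
      rw [mem_normalizer_iff_cj, cj_inf, h1, h2]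
    exact h3
  -- an involution of `L`
  obtain ⟨l, hl, hll, hl1, hlx⟩ : ∃ l ∈ L, l * l = 1 ∧ l ≠ 1 ∧ (x = l ∨ x = a * l) := by
    rcases hS.2 with h | h
    · exact ⟨x, h, T'.xx, ne_one_of_order T'.tri.invx, Or.inl rfl⟩
    · refine ⟨a * x, h, ?_, fun h1 => ?_, Or.inr ?_⟩
      · calc a * x * (a * x) = a * (x * a) * x := by group
          _ = a * (a * x) * x := by rw [T'.ax]
          _ = (a * a) * (x * x) := by group
          _ = 1 := by rw [T'.aa, T'.xx, one_mul]
      · have h2 : x = a := by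
          have h3 := congrArg (a * ·) h1
          simpa [← mul_assoc, T'.aa] using h3
        exact T'.tri.not_fixes (h2 ▸ T'.fixes_a)
      · rw [← mul_assoc, T'.aa, one_mul]
  have hPne : (T ⊓ L : Subgroup G) ≠ ⊥ := by
    intro h
    obtain ⟨g, -, h1⟩ := hPs.conj (isPGroup_of_sq (E := zpowers l) (by
      intro e he
      obtain ⟨n, rfl⟩ := mem_zpowers_iff.mp he
      rw [← zpow_add, ← two_mul, zpow_mul, zpow_ofNat, pow_two, hll, one_zpow])) (by
        rwa [zpowers_le])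
    rw [h] at h1
    have h2 : l ∈ IntrinsicBasic.cj g ⊥ := h1 (mem_zpowers l)
    rw [mem_cj, mem_bot] at h2
    apply hl1
    have h3 : l = g * (g⁻¹ * l * g) * g⁻¹ := by group
    rw [h3, h2, mul_one, mul_inv_cancel]
  obtain ⟨z, hz, hz2, hzT⟩ := exists_central hT.two inf_le_left hTP hPne
  have hzz := sq_of_order hz2
  have hz1 := ne_one_of_order hz2
  obtain ⟨k, hk, hkz⟩ := exists_conj_inv M hl hz.2 hll hzz hl1 hz1
  have hka : k * a * k⁻¹ = a := by rw [comm_c (T'.tri.comp.le hk), mul_inv_cancel_right]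
  have hkL : IntrinsicBasic.cj k L = L := cj_eq_self_of_mem hk
  obtain ⟨x', hx'⟩ : ∃ x', x' = k * x * k⁻¹ := ⟨_, rfl⟩
  have hx'z : x' = z ∨ x' = a * z := by
    rcases hlx with h | h
    · left; rw [hx', h, hkz]
    · right
      rw [hx', h, ← hkz]
      calc k * (a * l) * k⁻¹ = (k * a * k⁻¹) * (k * l * k⁻¹) := by group
        _ = _ := by rw [hka]
  have T2 : T7 x' a L := by
    have h1 := T'.tri.cj k
    rw [hka, hkL, ← hx'] at h1
    exact T7.of_lab h1 M
  have hTa : ∀ s ∈ T, s * a = a * s := fun s hs => comm_c (hT.le hs)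
  have hTx' : ∀ s ∈ T, s * x' = x' * s := by
    intro s hs
    rcases hx'z with h | h
    · rw [h]; exact hzT s hs
    · rw [h, ← mul_assoc, hTa s hs, mul_assoc, hzT s hs, mul_assoc]
  have hsp : x' ∈ L ∨ x' * a ∈ L := by
    rcases hx'z with h | h
    · left; rw [h]; exact hz.2
    · right
      rw [h, mul_assoc, hTa z hz.1, ← mul_assoc, T'.aa, one_mul]; exact hz.2
  refine ⟨x', z, hz.1, hz.2, hz1, hzz, hzT, hx'z, T2, ?_⟩
  -- the centralizer of `L / O(L)` in `C(a)`
  obtain ⟨C₀, hC₀⟩ : ∃ C₀, C₀ = fix (centralizer ({a} : Set G)) L := ⟨_, rfl⟩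
  have hC₀n : centralizer ({a} : Set G) ≤ normalizer (C₀ : Set G) := by
    intro g hg
    rw [hC₀, mem_normalizer_iff_cj, cj_fix, cj_eq_self_of_mem hg, mem_normalizer_iff_cj.mp (hn hg)]
  have h0 := hT.inf (L := C₀) (hC₀ ▸ fix_le _ _) hC₀n
  have h1 : T ⊓ C₀ = fix T L := by
    ext g
    rw [hC₀]
    exact ⟨fun h => ⟨h.1, h.2.2⟩, fun h => ⟨h.1, hT.le h.1, h.2⟩⟩
  rw [h1] at h0
  exact hB x' a L (fix T L) T2 hsp h0.two (fun g hg => ⟨hTa g hg.1, hTx' g hg.1, hg.2⟩)
    fun R h2 h3 h4 => h0.max R h3 (fun g hg => by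
      rw [hC₀]
      exact ⟨mem_c (h4 hg).1, (h4 hg).2.2⟩) h2

/-- (β'), the part about `Q` -/
theorem betaRank (hP : A7.Pump7 G) (hB : BetaP G) : BetaRank G := by
  intro x a L T M hS hT
  obtain ⟨x', z, -, -, -, -, -, -, -, h⟩ := exists_central_form hP hB M hS hT
  rcases h with h | ⟨h, h', -⟩
  · exact Or.inl h
  · exact Or.inr ⟨h, h'⟩

/-! ### 2-groups -/

theorem card_alt_seven : Nat.card (alternatingGroup (Fin 7)) = 2520 := by
  have h1 := two_mul_nat_card_alternatingGroup (α := Fin 7)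
  rw [Nat.card_perm, Nat.card_fin] at h1
  have h3 : Nat.factorial 7 = 5040 := rfl
  omega

/-- a power of two dividing `2520` is at most 8 -/
theorem le_eight {n k : ℕ} (h : n = 2 ^ k) (hd : n ∣ 2520) : n ≤ 8 := by
  subst h
  by_contra hcon
  have h1 : 4 ≤ k := by
    by_contra h2
    have h3 : 2 ^ k ≤ 2 ^ 3 := Nat.pow_le_pow_right (by norm_num) (by omega)
    omega
  have h2 : 2 ^ 4 ∣ 2520 := (pow_dvd_pow 2 h1).trans hd
  exact absurd h2 (by decide)

/-- the order of a Sylow 2-subgroup of `L` -/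
theorem eight_dvd (M : M7 L) {P : Subgroup G} (hP : IsSyl L P) : 8 ∣ Nat.card P := by
  have h1 : (2 : ℕ) ^ 3 ∣ Nat.card L := by
    have h2 := Subgroup.card_eq_card_quotient_mul_card_subgroup (oddCore ↥L)
    rw [IsA7.card ⟨M⟩] at h2
    rw [h2]
    exact Dvd.dvd.mul_right (by norm_num) _
  exact hP.dvd_card h1

/-- labels of even elements of a 2-group `T ≥ P`, `P ∈ Syl₂(L)` -/
theorem exists_even (M : M7 L) {T P : Subgroup G} (hT : IsPGroup 2 T)
    (hTn : T ≤ normalizer (L : Set G)) (hP : IsSyl L P) (hPT : P ≤ T) :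
    Nat.card P = 8 ∧ ∀ t ∈ T, M.φ t ∈ alternatingGroup (Fin 7) → ∃ p ∈ P, M.φ p = M.φ t := by
  obtain ⟨B, hB⟩ : ∃ B : Subgroup (Perm (Fin 7)), ∀ σ, σ ∈ B ↔
      σ ∈ alternatingGroup (Fin 7) ∧ ∃ t ∈ T, M.φ t = σ := by
    refine ⟨alternatingGroup (Fin 7) ⊓ (T.subgroupOf (normalizer (L : Set G))).map M.hom,
      fun σ => ?_⟩
    rw [mem_inf]
    refine and_congr_right fun _ => ?_
    constructor
    · rintro ⟨y, hy, rfl⟩
      exact ⟨y, hy, rfl⟩
    · rintro ⟨t, ht, rfl⟩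
      exact ⟨⟨t, hTn ht⟩, ht, rfl⟩
  have hB2 : IsPGroup 2 B := by
    rintro ⟨σ, hσ⟩
    obtain ⟨-, t, ht, rfl⟩ := (hB σ).mp hσ
    obtain ⟨n, hn⟩ := hT ⟨t, ht⟩
    refine ⟨n, Subtype.ext ?_⟩
    show M.φ t ^ 2 ^ n = 1
    rw [← M.pow (hTn ht), show t ^ 2 ^ n = 1 from congrArg Subtype.val hn, M.one]
  have hBle : Nat.card B ≤ 8 := by
    have hp : Fact (Nat.Prime 2) := ⟨Nat.prime_two⟩
    obtain ⟨k, hk⟩ := hB2.exists_card_eq
    refine le_eight hk ?_
    rw [← card_alt_seven]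
    exact card_dvd_of_le fun σ hσ => ((hB σ).mp hσ).1
  -- the embedding of `P`
  have hPL := hP.le
  let f : P → B := fun p => ⟨M.φ p, (hB _).mpr ⟨by
    have := M.mem_alt p (hPL p.2)
    rwa [alt_univ] at this, p, hPT p.2, rfl⟩⟩
  have hf : Function.Injective f := by
    intro p p' h
    have h1 : M.φ p = M.φ p' := congrArg Subtype.val h
    rw [M.eq_iff (hPL p.2) (hPL p'.2)] at h1
    obtain ⟨n, hn⟩ := hP.two (p⁻¹ * p')
    have h2 : (p : G)⁻¹ * p' = 1 := eq_one_of_mem_core h1 (n := n) (congrArg Subtype.val hn)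
    exact Subtype.ext (inv_mul_eq_one.mp h2)
  have h8 : 8 ≤ Nat.card P := Nat.le_of_dvd Nat.card_pos (eight_dvd M hP)
  have hle : Nat.card P ≤ Nat.card B := Nat.card_le_card_of_injective f hf
  refine ⟨by omega, fun t ht hte => ?_⟩
  have hbij : Function.Bijective f := by
    rw [Nat.bijective_iff_injective_and_card]
    exact ⟨hf, by omega⟩
  obtain ⟨p, hp⟩ := hbij.2 ⟨M.φ t, (hB _).mpr ⟨hte, t, ht, rfl⟩⟩
  exact ⟨p, p.2, congrArg Subtype.val hp⟩

/-- two involutions of `P ∈ Syl₂(L)` -/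
theorem exists_two_inv (M : M7 L) (T : IsTriple x a L) {P : Subgroup G} (hP : IsSyl L P) :
    ∃ p ∈ P, ∃ p' ∈ P, p * p = 1 ∧ p' * p' = 1 ∧ p ≠ 1 ∧ p' ≠ 1 ∧ p ≠ p' := by
  obtain ⟨V, hVL, hV4, hVsq, -⟩ := exists_four ⟨M⟩ T.invx T.x_mem
  obtain ⟨g, -, hg⟩ := hP.conj (isPGroup_of_sq hVsq) hVL
  have h1 : Nat.card (IntrinsicBasic.cj g⁻¹ V) = 4 := by rw [card_cj, hV4]
  have h2 : IntrinsicBasic.cj g⁻¹ V ≤ P := by
    intro p hp
    rw [mem_cj, inv_inv] at hp
    have := hg hp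
    rw [mem_cj] at this
    have h3 : g⁻¹ * (g * p * g⁻¹) * g = p := by group
    rwa [h3] at this
  have h3 : ∀ p ∈ IntrinsicBasic.cj g⁻¹ V, p * p = 1 := by
    rintro _ ⟨v, hv, rfl⟩
    show (g⁻¹ * v * g⁻¹⁻¹) * (g⁻¹ * v * g⁻¹⁻¹) = 1
    rw [inv_inv]
    calc g⁻¹ * v * g * (g⁻¹ * v * g) = g⁻¹ * (v * v) * g := by group
      _ = 1 := by rw [hVsq v hv, mul_one, inv_mul_cancel]
  obtain ⟨p, hp, hp1⟩ : ∃ p ∈ IntrinsicBasic.cj g⁻¹ V, p ≠ 1 := by
    by_contra hcon
    push Not at hcon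
    rw [(Subgroup.eq_bot_iff_forall _).mpr hcon, Subgroup.card_bot] at h1
    omega
  obtain ⟨p', hp', hp'1, hne⟩ : ∃ p' ∈ IntrinsicBasic.cj g⁻¹ V, p' ≠ 1 ∧ p ≠ p' := by
    by_contra hcon
    push Not at hcon
    have h4 : ((IntrinsicBasic.cj g⁻¹ V : Subgroup G) : Set G) ⊆ {1, p} := by
      intro e he
      by_cases h : e = 1
      · left; exact h
      · right; exact (hcon e he h).symm
    have h5 := Set.ncard_le_ncard h4 (Set.toFinite _)
    have h6 : ({1, p} : Set G).ncard ≤ 2 := (Set.ncard_insert_le _ _).trans (by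
      rw [Set.ncard_singleton])
    rw [← Nat.card_coe_set_eq] at h5
    have h7 : Nat.card ((IntrinsicBasic.cj g⁻¹ V : Subgroup G) : Set G) = 4 := h1
    omega
  exact ⟨p, h2 hp, p', h2 hp', h3 p hp, h3 p' hp', hp1, hp'1, hne⟩

/-- the labels of a 2-group `T` centralizing a regular four-group `Q` -/
theorem labels_bound {K T Q : Subgroup G} (M : M7 K) (hT : IsPGroup 2 T)
    (hTK : T ≤ normalizer (K : Set G)) (hQT : Q ≤ T) (hQ4 : Nat.card Q = 4)
    (hQsq : ∀ q ∈ Q, q * q = 1) (hQT' : ∀ t ∈ T, ∀ q ∈ Q, t * q = q * t)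
    (hlab : ∀ g ∈ Q, g ≠ 1 → ∀ i : Fin 7, M.φ g i = i ↔ i ∈ ({4, 5, 6} : Finset (Fin 7))) :
    Nat.card T ≤ 8 * Nat.card (fix T K) ∧ ∀ t ∈ T, t * t ∈ fix T K := by
  let f : T →* Perm (Fin 7) := M.hom.comp (inclusion hTK)
  have hf : ∀ t : T, f t = M.φ t := fun t => rfl
  obtain ⟨A, hA⟩ : ∃ A, A = (Q.subgroupOf T).map f := ⟨_, rfl⟩
  have hAm : ∀ g ∈ A, ∃ q ∈ Q, M.φ q = g := by
    intro g hg
    rw [hA] at hg
    obtain ⟨q, hq, rfl⟩ := hg
    exact ⟨q, hq, rfl⟩
  have hQinj : ∀ q ∈ Q, M.φ q = 1 → q = 1 := by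
    intro q hq h
    by_contra hne
    have := (hlab q hq hne 0).mp (by rw [h, Perm.one_apply])
    exact absurd this (by decide)
  have hA4 : Nat.card A = 4 := by
    rw [hA, ← hQ4, ← Nat.card_congr (subgroupOfEquivOfLe hQT).toEquiv]
    refine (Nat.card_congr (Equiv.ofBijective (fun q : Q.subgroupOf T =>
      (⟨f q, ⟨q, q.2, rfl⟩⟩ : (Q.subgroupOf T).map f)) ⟨?_, ?_⟩)).symm
    · intro q q' h
      have h1 : f (q : T) = f (q' : T) := congrArg Subtype.val h
      have h2 : f ((q : T)⁻¹ * q') = 1 := by rw [map_mul, map_inv, h1, inv_mul_cancel]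
      have h3 := hQinj _ (mul_mem (inv_mem q.2) q'.2) h2
      have h4 : (((q : T)⁻¹ * (q' : T) : T) : G) = 1 := h3
      have h5 : (q : T)⁻¹ * (q' : T) = 1 := Subtype.ext h4
      exact Subtype.ext (inv_mul_eq_one.mp h5)
    · rintro ⟨_, q, hq, rfl⟩
      exact ⟨⟨q, hq⟩, rfl⟩
  have hB2 : IsPGroup 2 f.range := by
    rw [MonoidHom.range_eq_map]
    exact (hT.of_equiv Subgroup.topEquiv.symm).map f
  obtain ⟨h1, h2⟩ := Perm7.main hB2 hA4 (by
      intro g hg
      obtain ⟨q, hq, rfl⟩ := hAm g hg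
      exact M.sq (hTK (hQT hq)) (hQsq q hq)) (by
      intro g hg hg1
      obtain ⟨q, hq, rfl⟩ := hAm g hg
      exact hlab q hq (fun h => hg1 (by rw [h, M.one]))) (by
      rintro _ ⟨t, rfl⟩ g hg
      obtain ⟨q, hq, rfl⟩ := hAm g hg
      exact M.comm (hTK t.2) (hTK (hQT hq)) (hQT' t t.2 q hq))
  have hker : Nat.card f.ker = Nat.card (fix T K) := by
    have h3 : f.ker.map T.subtype = fix T K := by
      ext g
      constructor
      · rintro ⟨t, ht, rfl⟩
        exact ⟨t.2, (M.fixes_iff (hTK t.2)).mp ht⟩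
      · intro hg
        exact ⟨⟨g, hg.1⟩, (M.fixes_iff (hTK hg.1)).mpr hg.2, rfl⟩
    rw [← h3, card_map_of_injective T.subtype_injective]
  refine ⟨?_, fun t ht => ⟨mul_mem ht ht, ?_⟩⟩
  · have h5 : Nat.card f.range * Nat.card f.ker = Nat.card T := by
      rw [mul_comm, ← f.ker.card_mul_index, Subgroup.index_ker]
    rw [← h5, hker]
    exact Nat.mul_le_mul_right _ h1
  · rw [← M.fixes_iff (mul_mem (hTK ht) (hTK ht)), M.mul _ _ (hTK ht) (hTK ht)]
    exact h2 (M.φ t) ⟨⟨t, ht⟩, rfl⟩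

/-- **(4)(*)** -/
theorem star (hP : A7.Pump7 G) (hB : BetaP G) : A7.Star G := by
  intro x a L T M hS hT hQ4 hQsq w hw i j hij hwφ hwP hwQ
  have hPm := muPump hP
  have T' := T7.of_lab hS.1 M
  have hn := T'.cent_le hPm hB
  have hTn : T ≤ normalizer (L : Set G) := hT.le.trans hn
  have hPs : IsSyl L (T ⊓ L) := hT.inf T'.tri.comp.le hn
  obtain ⟨x', z, hzT', hzL, hz1, hzz, hzT, hx'z, T2, h⟩ := exists_central_form hP hB M hS hT
  obtain ⟨P, hPdef⟩ : ∃ P, P = T ⊓ L := ⟨_, rfl⟩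
  rw [← hPdef] at hPs
  obtain ⟨Q, hQdef⟩ : ∃ Q, Q = fix T L := ⟨_, rfl⟩
  rw [← hQdef] at h hQ4 hQsq hwQ
  have hQT : Q ≤ T := hQdef ▸ fix_le T L
  have hPT : P ≤ T := hPdef ▸ inf_le_left
  have hPL : P ≤ L := hPdef ▸ inf_le_right
  have hwP' : ∀ p ∈ P, w * p = p * w := fun p hp => hwP p (hPdef ▸ hp)
  have hQf : ∀ t ∈ T, M.φ t = 1 → t ∈ Q := by
    intro t ht h1
    rw [hQdef]
    exact ⟨ht, (M.fixes_iff (hTn ht)).mp h1⟩
  have hQφ : ∀ q ∈ Q, M.φ q = 1 := by
    intro q hq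
    rw [hQdef] at hq
    exact (M.fixes_iff (hTn hq.1)).mpr hq.2
  -- the first alternative of (β')
  rcases h with h | ⟨-, -, v, K, M', ⟨r, hr, hv⟩, Tv, hlab⟩
  · have h1 : (Q : Set G) ⊆ {1, a} := by
      intro e he
      rcases h e he (hQsq e he) with h | h
      · left; exact h
      · right; exact h
    have h3 := Set.ncard_le_ncard h1 (Set.toFinite _)
    have h4 : ({1, a} : Set G).ncard ≤ 2 := (Set.ncard_insert_le _ _).trans (by
      rw [Set.ncard_singleton])
    rw [← Nat.card_coe_set_eq] at h3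
    have h5 : Nat.card (Q : Set G) = 4 := hQ4
    omega
  -- elements of `T` of order dividing 2^n in the core
  have hcore : ∀ g ∈ T, g ∈ core L → g = 1 := by
    intro g hg h1
    obtain ⟨n, hn⟩ := hT.two ⟨g, hg⟩
    exact eq_one_of_mem_core h1 (n := n) (congrArg Subtype.val hn)
  have hPQ : ∀ q ∈ Q, ∀ p ∈ P, q * p = p * q := by
    intro q hq p hp
    have h1 : ⁅q, p⁆ ∈ core L := by
      rw [hQdef] at hq
      exact hq.2.2 p (hPL hp)
    have h2 : ⁅q, p⁆ ∈ T := by
      rw [commutatorElement_def]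
      exact mul_mem (mul_mem (mul_mem (hQT hq) (hPT hp)) (inv_mem (hQT hq))) (inv_mem (hPT hp))
    exact commutatorElement_eq_one_iff_mul_comm.mp (hcore _ h2 h1)
  have hQab : ∀ q ∈ Q, ∀ q' ∈ Q, q * q' = q' * q := fun q hq q' hq' =>
    comm_of_sq (fun v hv => hQsq v hv) hq hq'
  obtain ⟨hP8, heven⟩ := exists_even M hT.two hTn hPs hPT
  -- `Qs`
  have hsw : swap i j * swap i j = 1 := swap_mul_self i j
  have hodd : ∀ σ : Perm (Fin 7), σ ∈ alternatingGroup (Fin 7) → σ ≠ swap i j := by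
    rintro σ hσ rfl
    rw [mem_alternatingGroup, sign_swap hij] at hσ
    exact absurd hσ (by decide)
  have hswne : swap i j ≠ 1 := fun h => (hodd 1 (one_mem _)) h.symm
  obtain ⟨Qs, hQs⟩ : ∃ Qs : Subgroup G, ∀ g, g ∈ Qs ↔ g ∈ T ∧ (M.φ g = 1 ∨ M.φ g = swap i j) := by
    refine ⟨{ carrier := {g | g ∈ T ∧ (M.φ g = 1 ∨ M.φ g = swap i j)}
              mul_mem' := ?_, one_mem' := ?_, inv_mem' := ?_ }, fun g => Iff.rfl⟩
    · rintro g h ⟨h1, h2⟩ ⟨h3, h4⟩
      refine ⟨mul_mem h1 h3, ?_⟩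
      rw [M.mul _ _ (hTn h1) (hTn h3)]
      rcases h2 with h2 | h2 <;> rcases h4 with h4 | h4 <;> rw [h2, h4]
      · left; rw [one_mul]
      · right; rw [one_mul]
      · right; rw [mul_one]
      · left; exact hsw
    · exact ⟨one_mem _, Or.inl M.one⟩
    · rintro g ⟨h1, h2⟩
      refine ⟨inv_mem h1, ?_⟩
      rw [M.inv (hTn h1)]
      rcases h2 with h2 | h2 <;> rw [h2]
      · left; rw [inv_one]
      · right; rw [swap_inv]
  have hQsT : Qs ≤ T := fun g hg => ((hQs g).mp hg).1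
  have hQQs : Q ≤ Qs := fun q hq => (hQs q).mpr ⟨hQT hq, Or.inl (hQφ q hq)⟩
  have hwQs : w ∈ Qs := (hQs w).mpr ⟨hw, Or.inr hwφ⟩
  -- `Qs = Q ∪ Q w`
  have hQsd : ∀ g ∈ Qs, g ∈ Q ∨ ∃ q ∈ Q, g = q * w := by
    intro g hg
    obtain ⟨h1, h2⟩ := (hQs g).mp hg
    rcases h2 with h2 | h2
    · left; exact hQf g h1 h2
    · right
      refine ⟨g * w⁻¹, hQf _ (mul_mem h1 (inv_mem hw)) ?_, by rw [inv_mul_cancel_right]⟩
      rw [M.mul _ _ (hTn h1) (inv_mem (hTn hw)), M.inv (hTn hw), h2, hwφ, mul_inv_cancel]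
  have hwnQ : w ∉ Q := by
    intro h
    have h1 := hQφ w h
    rw [hwφ] at h1
    exact hswne h1
  have hPQs : ∀ p ∈ P, ∀ g ∈ Qs, p * g = g * p := by
    intro p hp g hg
    rcases hQsd g hg with h | ⟨q, hq, rfl⟩
    · exact (hPQ g h p hp).symm
    · rw [← mul_assoc, ← hPQ q hq p hp, mul_assoc, ← hwP' p hp, mul_assoc]
  have hQQs' : ∀ q ∈ Q, ∀ g ∈ Qs, q * g = g * q := by
    intro q hq g hg
    rcases hQsd g hg with h | ⟨q', hq', rfl⟩
    · exact hQab q hq g h
    · rw [← mul_assoc, hQab q hq q' hq', mul_assoc, ← hwQ q hq, mul_assoc]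
  have hTwo : TwoP T P Qs := by
    refine ⟨hPT, hQsT, fun t ht => ?_, hPQs, fun p hp hpQ => ?_⟩
    · by_cases he : M.φ t ∈ alternatingGroup (Fin 7)
      · obtain ⟨p, hp, hpt⟩ := heven t ht he
        refine ⟨p, hp, p⁻¹ * t, (hQs _).mpr ⟨mul_mem (inv_mem (hPT hp)) ht, Or.inl ?_⟩, by group⟩
        rw [M.mul _ _ (inv_mem (hTn (hPT hp))) (hTn ht), M.inv (hTn (hPT hp)), hpt,
          inv_mul_cancel]
      · obtain ⟨p, hp, hpt⟩ := heven (t * w) (mul_mem ht hw) (by
          rw [M.mul _ _ (hTn ht) (hTn hw), hwφ, mem_alternatingGroup, Perm.sign_mul, sign_swap hij]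
          rw [mem_alternatingGroup] at he
          rcases Int.units_eq_one_or (sign (M.φ t)) with h | h
          · exact absurd h he
          · rw [h]; decide)
        refine ⟨p, hp, p⁻¹ * t, (hQs _).mpr ⟨mul_mem (inv_mem (hPT hp)) ht, Or.inr ?_⟩, by group⟩
        rw [M.mul _ _ (inv_mem (hTn (hPT hp))) (hTn ht), M.inv (hTn (hPT hp)), hpt,
          M.mul _ _ (hTn ht) (hTn hw), hwφ, mul_inv_rev, swap_inv, inv_mul_cancel_right]
    · have h1 : M.φ p = 1 := by
        rcases ((hQs p).mp hpQ).2 with h | h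
        · exact h
        · have h2 := M.mem_alt p (hPL hp)
          rw [alt_univ] at h2
          exact absurd h (hodd _ h2)
      exact hcore p (hPT hp) ((M.core_iff p (hPL hp)).mp h1)
  have hQs8 : Nat.card Qs = 8 := by
    have hrel : Q.relIndex Qs = 2 := by
      rw [Subgroup.relIndex_eq_two_iff]
      refine ⟨w, hwQs, fun b hb => ?_⟩
      rcases hQsd b hb with h | ⟨q, hq, rfl⟩
      · right
        refine ⟨h, fun h2 => hwnQ ?_⟩
        have := mul_mem (inv_mem h) h2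
        rwa [inv_mul_cancel_left] at this
      · left
        have hww : w * w ∈ Q := by
          apply hQf _ (mul_mem hw hw)
          rw [M.mul _ _ (hTn hw) (hTn hw), hwφ, hsw]
        refine ⟨by rw [mul_assoc]; exact mul_mem hq hww, fun h2 => hwnQ ?_⟩
        have := mul_mem (inv_mem hq) h2
        rwa [inv_mul_cancel_left] at this
    have h1 := Subgroup.relIndex_mul_relIndex ⊥ Q Qs bot_le hQQs
    rw [Subgroup.relIndex_bot_left, Subgroup.relIndex_bot_left, hrel, hQ4] at h1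
    omega
  have hT64 : Nat.card T = 64 := by rw [hTwo.card, hP8, hQs8]
  -- `T` centralizes `Q`
  have hTQ : ∀ t ∈ T, ∀ q ∈ Q, t * q = q * t := by
    intro t ht q hq
    obtain ⟨p, hp, g, hg, rfl⟩ := hTwo.sup t ht
    calc p * g * q = p * (g * q) := by group
      _ = p * (q * g) := by rw [hQQs' q hq g hg]
      _ = (p * q) * g := by group
      _ = (q * p) * g := by rw [hPQ q hq p hp]
      _ = _ := by group
  have hTa : ∀ s ∈ T, s * a = a * s := fun s hs => comm_c (hT.le hs)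
  have hTx' : ∀ s ∈ T, s * x' = x' * s := by
    intro s hs
    rcases hx'z with h | h
    · rw [h]; exact hzT s hs
    · rw [h, ← mul_assoc, hTa s hs, mul_assoc, hzT s hs, mul_assoc]
  have hTv : ∀ s ∈ T, s * v = v * s := by
    intro s hs
    rw [hv, ← mul_assoc, hTx' s hs, mul_assoc, hTQ s hs r hr, mul_assoc]
  have hTK : T ≤ normalizer (K : Set G) := fun t ht =>
    Tv.cent_le hPm hB (mem_c (hTv t ht))
  obtain ⟨hW8, hWsq⟩ := labels_bound M' hT.two hTK hQT hQ4 hQsq hTQ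
    (fun g hg hg1 => (hlab g hg hg1).2)
  obtain ⟨W, hWdef⟩ : ∃ W, W = fix T K := ⟨_, rfl⟩
  rw [← hWdef] at hW8 hWsq
  have hWT : W ≤ T := hWdef ▸ fix_le T K
  have hWcard : 8 ≤ Nat.card W := by omega
  have hWQ : ∀ g ∈ W, g ∈ Q → g = 1 := by
    intro g hg hgQ
    by_contra hne
    have h1 : M'.φ g = 1 := (M'.fixes_iff (hTK (hQT hgQ))).mpr (by
      rw [hWdef] at hg
      exact hg.2)
    have := ((hlab g hgQ hne).2 0).mp (by rw [h1, Perm.one_apply])
    exact absurd this (by decide)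
  have hww : w * w = 1 := by
    apply hWQ _ (hWsq w hw)
    apply hQf _ (mul_mem hw hw)
    rw [M.mul _ _ (hTn hw) (hTn hw), hwφ, hsw]
  have hQssq : ∀ g ∈ Qs, g * g = 1 := by
    intro g hg
    rcases hQsd g hg with h | ⟨q, hq, rfl⟩
    · exact hQsq g h
    · calc q * w * (q * w) = q * (w * q) * w := by group
        _ = q * (q * w) * w := by rw [hwQ q hq]
        _ = (q * q) * (w * w) := by group
        _ = 1 := by rw [hQsq q hq, hww, one_mul]
  -- `W` has the only involution `v`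
  have hWF : W ≤ FF x' v K := by
    intro g hg
    have hgT := hWT hg
    rw [hWdef] at hg
    exact ⟨hTv g hgT, hTx' g hgT, hg.2⟩
  have hW2 : IsPGroup 2 W := hT.two.to_le hWT
  have hinv : ∀ g ∈ W, g * g = 1 → g = 1 ∨ g = v := by
    obtain ⟨l, hl, hll, hlx, hlE, hφ⟩ := Tv.exists_l M' (E := W) hW2
      (fun e he => (hWF he).2.2.1) fun e he => (hWF he).2.1
    have hsp : x' ∈ K ∨ x' * v ∈ K := by
      by_cases hq1 : x' * l = 1
      · left
        rw [mul_eq_one_iff_eq_inv.mp hq1]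
        exact inv_mem hl
      by_cases hqa : x' * l = v
      · right
        rw [← hqa, ← mul_assoc, Tv.xx, one_mul]
        exact hl
      exfalso
      obtain ⟨N, -, -, -, -, -, h5⟩ := Tv.nonspecial hPm hB M' hl hll hlx hφ hq1 hqa
      have h6 := h5 W hW2 hWF (fun e he => (hlE e he).symm)
      have h7 : (W : Set G) ⊆ {1, v, x' * l, v * (x' * l)} := by
        intro e he
        rcases h6 e he with h | h | h | h
        · exact Or.inl h
        · exact Or.inr (Or.inl h)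
        · exact Or.inr (Or.inr (Or.inl h))
        · exact Or.inr (Or.inr (Or.inr h))
      have h8 := Set.ncard_le_ncard h7 (Set.toFinite _)
      have h9 : ({1, v, x' * l, v * (x' * l)} : Set G).ncard ≤ 4 := by
        refine (Set.ncard_insert_le _ _).trans ?_
        have := Set.ncard_insert_le v ({x' * l, v * (x' * l)} : Set G)
        have h10 := Set.ncard_insert_le (x' * l) ({v * (x' * l)} : Set G)
        rw [Set.ncard_singleton] at h10
        omega
      rw [← Nat.card_coe_set_eq] at h8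
      have h10 : Nat.card (W : Set G) = Nat.card W := rfl
      omega
    obtain ⟨Qv, hWQv, hQv, hQvF, hmax⟩ := exists_max hW2 hWF
    rcases hB x' v K Qv Tv hsp hQv hQvF hmax with h | ⟨h, -⟩
    · exact fun g hg hgg => h g (hWQv hg) hgg
    · exfalso
      have := Subgroup.card_le_of_le hWQv
      omega
  -- `v ∉ Qs`
  have hvφ : M.φ v = M.φ z := by
    have hvx : M.φ v = M.φ x' := by
      rw [hv, M.mul _ _ T2.tri.x_mem (hTn (hQT hr)), hQφ r hr, mul_one]
    rw [hvx]
    rcases hx'z with h | h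
    · rw [h]
    · rw [h, M.mul _ _ T'.fixes_a.1 (hTn hzT'), (M.fixes_iff T'.fixes_a.1).mpr T'.fixes_a, one_mul]
  have hvQs : v ∉ Qs := by
    intro hvq
    rcases ((hQs v).mp hvq).2 with h | h
    · rw [hvφ] at h
      exact hz1 (eq_one_of_mem_core_sq ((M.core_iff z hzL).mp h) hzz)
    · rw [hvφ] at h
      have h2 := M.mem_alt z hzL
      rw [alt_univ] at h2
      exact hodd _ h2 h
  have hWQs : ∀ g ∈ W, g ∈ Qs → g = 1 := by
    intro g hg hgQ
    rcases hinv g hg (hQssq g hgQ) with h | h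
    · exact h
    · exact absurd (h ▸ hgQ) hvQs
  -- the projection `W → P`
  have hproj : ∀ p ∈ P, ∃ g ∈ Qs, p * g ∈ W := by
    choose! pr hpr gr hgr hpg using hTwo.sup
    let f : W → P := fun g => ⟨pr g, hpr g (hWT g.2)⟩
    have hf : Function.Injective f := by
      intro g h hgh
      have h1 : pr (g : G) = pr (h : G) := congrArg Subtype.val hgh
      have h2 : (g : G)⁻¹ * h ∈ Qs := by
        rw [hpg g (hWT g.2), hpg h (hWT h.2), h1]
        have h3 : (pr (h : G) * gr (g : G))⁻¹ * (pr (h : G) * gr (h : G)) =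
          (gr (g : G))⁻¹ * gr (h : G) := by group
        rw [h3]
        exact mul_mem (inv_mem (hgr g (hWT g.2))) (hgr h (hWT h.2))
      have h3 := hWQs _ (mul_mem (inv_mem g.2) h.2) h2
      exact Subtype.ext (inv_mul_eq_one.mp h3)
    have hbij : Function.Bijective f := by
      rw [Nat.bijective_iff_injective_and_card]
      refine ⟨hf, ?_⟩
      have := Nat.card_le_card_of_injective f hf
      omega
    intro p hp
    obtain ⟨g, hg⟩ := hbij.2 ⟨p, hp⟩
    have h1 : pr (g : G) = p := congrArg Subtype.val hg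
    refine ⟨gr g, hgr g (hWT g.2), ?_⟩
    rw [← h1, ← hpg g (hWT g.2)]
    exact g.2
  obtain ⟨p, hp, p', hp', hpp, hpp', hp1, hp'1, hne⟩ := exists_two_inv M T'.tri hPs
  have key : ∀ p ∈ P, p * p = 1 → p ≠ 1 → ∃ g ∈ Qs, p * g = v := by
    intro p hp hpp hp1
    obtain ⟨g, hg, hpg⟩ := hproj p hp
    refine ⟨g, hg, ?_⟩
    rcases hinv _ hpg (by
      calc p * g * (p * g) = p * (g * p) * g := by group
        _ = p * (p * g) * g := by rw [hPQs p hp g hg]
        _ = (p * p) * (g * g) := by group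
        _ = 1 := by rw [hpp, hQssq g hg, one_mul]) with h | h
    · exfalso
      apply hp1
      apply hTwo.inf p hp
      rw [mul_eq_one_iff_eq_inv.mp h]
      exact inv_mem hg
    · exact h
  obtain ⟨g, hg, hpg⟩ := key p hp hpp hp1
  obtain ⟨g', hg', hpg'⟩ := key p' hp' hpp' hp'1
  have h1 : p'⁻¹ * p = g' * g⁻¹ := by
    rw [inv_mul_eq_iff_eq_mul, ← mul_assoc, hpg', ← hpg, mul_inv_cancel_right]
  have h2 := hTwo.inf (p'⁻¹ * p) (mul_mem (inv_mem hp') hp) (by
    rw [h1]; exact mul_mem hg' (inv_mem hg))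
  exact hne (inv_mul_eq_one.mp h2).symm

end Cfsg.Agent.UGT.A7.Star
end

-- part: UGT/A7/WZero
section
/-!
# A Sylow 2-subgroup `W0 = D₈ × ⟨(4 5)⟩` of `Sym(7)`
-/

set_option autoImplicit false
set_option linter.unusedSectionVars false

namespace Cfsg.Agent.UGT.A7

open Cfsg Subgroup Equiv Equiv.Perm
open Cfsg.Agent.UAlt
open Cfsg.Agent.SignalizersComponents.IntrinsicBasic (cj)
open Cfsg.Agent.Intrinsic.Basic (Fixes IsComp core)

def z0 : Perm (Fin 7) := swap (0 : Fin 7) 1 * swap (2 : Fin 7) 3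
def w0 : Perm (Fin 7) := swap (4 : Fin 7) 5

/-- the Sylow 2-subgroup of `Sym(7)` -/
def W0 : Subgroup (Perm (Fin 7)) := centralizer ({z0, w0} : Set (Perm (Fin 7)))

/-- the Sylow 2-subgroup of `Alt(7)` -/
def P0 : Subgroup (Perm (Fin 7)) := W0 ⊓ alternatingGroup (Fin 7)

theorem mem_W0 {σ : Perm (Fin 7)} : σ ∈ W0 ↔ σ * z0 = z0 * σ ∧ σ * w0 = w0 * σ := by
  rw [W0, mem_centralizer_iff]
  constructor
  · intro h
    exact ⟨(h z0 (by simp)).symm, (h w0 (by simp)).symm⟩
  · rintro ⟨h1, h2⟩ τ hτ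
    rcases hτ with rfl | hτ
    · exact h1.symm
    · rw [Set.mem_singleton_iff] at hτ
      subst hτ
      exact h2.symm

theorem mem_P0 {σ : Perm (Fin 7)} : σ ∈ P0 ↔ σ ∈ W0 ∧ sign σ = 1 := by
  rw [P0, mem_inf, mem_alternatingGroup]

theorem card_W0_le : Nat.card W0 ≤ 16 := by
  classical
  let F : Finset (Fin 7 × Fin 7 × Fin 7) := Finset.univ.filter fun p =>
    z0 p.1 ≠ p.1 ∧ z0 p.2.1 ≠ p.2.1 ∧ p.2.1 ≠ p.1 ∧ p.2.1 ≠ z0 p.1 ∧ w0 p.2.2 ≠ p.2.2
  have hF : F.card = 16 := by decide +kernel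
  have happ : ∀ σ : ↥W0, ∀ i, (σ : Perm (Fin 7)) (z0 i) = z0 ((σ : Perm (Fin 7)) i) := fun σ i =>
    DFunLike.congr_fun (mem_W0.1 σ.2).1 i
  have happ' : ∀ σ : ↥W0, ∀ i, (σ : Perm (Fin 7)) (w0 i) = w0 ((σ : Perm (Fin 7)) i) := fun σ i =>
    DFunLike.congr_fun (mem_W0.1 σ.2).2 i
  let f : ↥W0 → ↥F := fun σ => ⟨((σ : Perm (Fin 7)) 0, (σ : Perm (Fin 7)) 2, (σ : Perm (Fin 7)) 4), by
    rw [Finset.mem_filter]
    refine ⟨Finset.mem_univ _, ?_, ?_, ?_, ?_, ?_⟩
    · change z0 ((σ : Perm (Fin 7)) 0) ≠ (σ : Perm (Fin 7)) 0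
      rw [← happ]
      exact fun h => absurd ((σ : Perm (Fin 7)).injective h) (by decide)
    · change z0 ((σ : Perm (Fin 7)) 2) ≠ (σ : Perm (Fin 7)) 2
      rw [← happ]
      exact fun h => absurd ((σ : Perm (Fin 7)).injective h) (by decide)
    · exact fun h => absurd ((σ : Perm (Fin 7)).injective h) (by decide)
    · change (σ : Perm (Fin 7)) 2 ≠ z0 ((σ : Perm (Fin 7)) 0)
      rw [← happ]
      exact fun h => absurd ((σ : Perm (Fin 7)).injective h) (by decide)
    · change w0 ((σ : Perm (Fin 7)) 4) ≠ (σ : Perm (Fin 7)) 4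
      rw [← happ']
      exact fun h => absurd ((σ : Perm (Fin 7)).injective h) (by decide)⟩
  have hf : Function.Injective f := by
    intro σ τ h
    have h0 : (σ : Perm (Fin 7)) 0 = (τ : Perm (Fin 7)) 0 := congrArg (fun p => (p : Fin 7 × Fin 7 × Fin 7).1)
      (congrArg Subtype.val h)
    have h2 : (σ : Perm (Fin 7)) 2 = (τ : Perm (Fin 7)) 2 := congrArg
      (fun p => (p : Fin 7 × Fin 7 × Fin 7).2.1) (congrArg Subtype.val h)
    have h4 : (σ : Perm (Fin 7)) 4 = (τ : Perm (Fin 7)) 4 := congrArg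
      (fun p => (p : Fin 7 × Fin 7 × Fin 7).2.2) (congrArg Subtype.val h)
    have h1 : (σ : Perm (Fin 7)) 1 = (τ : Perm (Fin 7)) 1 := by
      have e : (1 : Fin 7) = z0 0 := by decide
      rw [e, happ, happ, h0]
    have h3 : (σ : Perm (Fin 7)) 3 = (τ : Perm (Fin 7)) 3 := by
      have e : (3 : Fin 7) = z0 2 := by decide
      rw [e, happ, happ, h2]
    have h5 : (σ : Perm (Fin 7)) 5 = (τ : Perm (Fin 7)) 5 := by
      have e : (5 : Fin 7) = w0 4 := by decide
      rw [e, happ', happ', h4]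
    apply Subtype.ext
    have key : ∀ i : Fin 7, i ≠ 6 → (σ : Perm (Fin 7)) i = (τ : Perm (Fin 7)) i := by
      intro i hi
      fin_cases i
      · exact h0
      · exact h1
      · exact h2
      · exact h3
      · exact h4
      · exact h5
      · exact absurd rfl hi
    ext i
    by_cases hi : i = 6
    · subst hi
      obtain ⟨j, hj⟩ := (τ : Perm (Fin 7)).surjective ((σ : Perm (Fin 7)) 6)
      by_cases hj6 : j = 6
      · rw [hj6] at hj
        rw [hj]
      · rw [← key j hj6] at hj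
        exact absurd ((σ : Perm (Fin 7)).injective hj) hj6
    · rw [key i hi]
  have h1 := Nat.card_le_card_of_injective f hf
  rw [Nat.card_eq_fintype_card (α := ↥F), Fintype.card_coe, hF] at h1
  exact h1

/-- the elements of `P0` -/
def g0 : DihedralGroup 4 → Perm (Fin 7)
  | .r i => (swap (0 : Fin 7) 2 * swap (1 : Fin 7) 2 * swap (1 : Fin 7) 3 * swap (4 : Fin 7) 5) ^ i.val
  | .sr i => (swap (0 : Fin 7) 1 * swap (4 : Fin 7) 5) * (swap (0 : Fin 7) 2 * swap (1 : Fin 7) 2 * swap (1 : Fin 7) 3 * swap (4 : Fin 7) 5) ^ i.val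

theorem g0_mul : ∀ a b, g0 (a * b) = g0 a * g0 b := by (set_option synthInstance.maxSize 9000 in open scoped Cfsg.Agent.Lib.FastPerm in decide +kernel)

theorem g0_inj : Function.Injective g0 := by decide +kernel

theorem g0_mem (a : DihedralGroup 4) : g0 a ∈ P0 := by
  rw [mem_P0, mem_W0]
  revert a
  (set_option synthInstance.maxSize 9000 in open scoped Cfsg.Agent.Lib.FastPerm in decide +kernel)

/-- `D₈ → P0` -/
def g0hom : DihedralGroup 4 →* ↥P0 where
  toFun a := ⟨g0 a, g0_mem a⟩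
  map_one' := Subtype.ext (by decide)
  map_mul' a b := Subtype.ext (g0_mul a b)

theorem g0hom_inj : Function.Injective g0hom := fun _ _ h => g0_inj (congrArg Subtype.val h)

theorem w0_mem : w0 ∈ W0 := by
  rw [mem_W0]
  decide

theorem w0_notin : w0 ∉ P0 := by
  rw [mem_P0]
  intro h
  have : sign w0 = -1 := by decide
  rw [this] at h
  exact absurd h.2 (by decide)

theorem card_both : Nat.card P0 = 8 ∧ Nat.card W0 = 16 := by
  have h1 : 8 ≤ Nat.card P0 := by
    have := Nat.card_le_card_of_injective g0hom g0hom_inj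
    rwa [Nat.card_eq_fintype_card, DihedralGroup.card] at this
  have h2 : P0 < W0 := by
    refine lt_of_le_of_ne inf_le_left fun h => w0_notin ?_
    rw [h]
    exact w0_mem
  have h3 := card_dvd_of_le h2.le
  have h4 : Nat.card P0 < Nat.card W0 := by
    refine lt_of_le_of_ne (Nat.le_of_dvd Nat.card_pos h3) fun h => h2.ne ?_
    exact eq_of_le_of_card_ge h2.le h.ge
  have h5 := card_W0_le
  obtain ⟨k, hk⟩ := h3
  have h6 : k ≠ 0 ∧ k ≠ 1 := by
    constructor
    · rintro rfl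
      rw [mul_zero] at hk
      exact absurd hk Nat.card_pos.ne'
    · rintro rfl
      omega
  have h7 : 2 ≤ k := by omega
  have h8 : 16 ≤ Nat.card W0 := by nlinarith only [h1, hk, h7]
  have h9 : Nat.card W0 = 16 := le_antisymm h5 h8
  refine ⟨?_, h9⟩
  nlinarith only [h1, h5, hk, h7]

theorem card_P0 : Nat.card P0 = 8 := card_both.1

theorem card_W0 : Nat.card W0 = 16 := card_both.2

theorem g0hom_bij : Function.Bijective g0hom := by
  refine (Nat.bijective_iff_injective_and_card g0hom).2 ⟨g0hom_inj, ?_⟩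
  rw [card_P0, Nat.card_eq_fintype_card, DihedralGroup.card]

noncomputable def P0equiv : DihedralGroup 4 ≃* ↥P0 := MulEquiv.ofBijective g0hom g0hom_bij

theorem exists_g0 {σ : Perm (Fin 7)} (h : σ ∈ P0) : ∃ a, σ = g0 a := by
  obtain ⟨a, ha⟩ := g0hom_bij.2 ⟨σ, h⟩
  exact ⟨a, (congrArg Subtype.val ha).symm⟩

/-- `W0 = P0 ∪ w0 P0` -/
theorem W0_cases {σ : Perm (Fin 7)} (h : σ ∈ W0) : σ ∈ P0 ∨ w0 * σ ∈ P0 := by
  rcases Int.units_eq_one_or (sign σ) with h1 | h1
  · exact Or.inl (mem_P0.2 ⟨h, h1⟩)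
  · right
    rw [mem_P0]
    refine ⟨W0.mul_mem w0_mem h, ?_⟩
    rw [Perm.sign_mul, h1]
    have : sign w0 = -1 := by decide
    rw [this]
    decide

theorem w0_central {σ : Perm (Fin 7)} (h : σ ∈ W0) : σ * w0 = w0 * σ := (mem_W0.1 h).2

theorem z0_central {σ : Perm (Fin 7)} (h : σ ∈ W0) : σ * z0 = z0 * σ := (mem_W0.1 h).1

theorem isPGroup_W0 : IsPGroup 2 ↥W0 := IsPGroup.of_card (n := 4) (by rw [card_W0]; norm_num)

/-- every 2-subgroup of `Sym(7)` is conjugate to a subgroup of `W0` -/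
theorem exists_conj_W0 (T : Subgroup (Perm (Fin 7))) (hT : IsPGroup 2 ↥T) :
    ∃ g : Perm (Fin 7), ∀ t ∈ T, g * t * g⁻¹ ∈ W0 := by
  have : Fact (Nat.Prime 2) := ⟨Nat.prime_two⟩
  have hcard : Nat.card (Perm (Fin 7)) = 5040 := by
    rw [Nat.card_eq_fintype_card, Fintype.card_perm, Fintype.card_fin]
    rfl
  have hsyl : Nat.card W0 = 2 ^ (Nat.card (Perm (Fin 7))).factorization 2 := by
    rw [card_W0, hcard]
    have : (5040 : ℕ).factorization 2 = 4 := by
      have h1 : (5040 : ℕ) = 2 ^ 4 * 315 := by norm_num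
      rw [h1, Nat.factorization_mul (by norm_num) (by norm_num), Nat.Prime.factorization_pow Nat.prime_two]
      have h2 : (315 : ℕ).factorization 2 = 0 := Nat.factorization_eq_zero_of_not_dvd (by norm_num)
      simp [h2]
    rw [this]
    norm_num
  let Q : Sylow 2 (Perm (Fin 7)) := Sylow.ofCard W0 hsyl
  obtain ⟨S, hTS⟩ := hT.exists_le_sylow
  obtain ⟨g, hg⟩ := MulAction.exists_smul_eq (Perm (Fin 7)) S Q
  refine ⟨g, fun t ht => ?_⟩
  have h1 : (g • S : Sylow 2 (Perm (Fin 7))) = Q := hg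
  have h2 : g * t * g⁻¹ ∈ ((g • S : Sylow 2 (Perm (Fin 7))) : Subgroup (Perm (Fin 7))) := by
    rw [Sylow.coe_subgroup_smul, mem_pointwise_smul_iff_inv_smul_mem]
    change (MulAut.conj g)⁻¹ (g * t * g⁻¹) ∈ _
    rw [← map_inv, MulAut.conj_apply, inv_inv]
    have : g⁻¹ * (g * t * g⁻¹) * g = t := by group
    rw [this]
    exact hTS ht
  rw [h1] at h2
  exact h2

/-- a transposition centralizing `W0` is `w0` -/
theorem swap_central : ∀ i j : Fin 7, i ≠ j → (∀ σ ∈ W0, swap i j * σ = σ * swap i j) → swap i j = w0 := by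
  intro i j hij h
  have h1 := h _ (mem_P0.1 (g0_mem (.r 1))).1
  have h2 := h _ (mem_P0.1 (g0_mem (.sr 0))).1
  clear h
  revert i j
  decide +kernel

/-- elements of `W0` fixing the points `≠ 4, 5` -/
theorem eq_of_fix {σ : Perm (Fin 7)} (h : ∀ i, i ≠ 4 → i ≠ 5 → σ i = i) : σ = 1 ∨ σ = w0 := by
  by_cases h4 : σ 4 = 4
  · left
    have h5 : σ 5 = 5 := by
      have h6 : σ 5 = 4 ∨ σ 5 = 5 := by
        by_contra hcon
        push Not at hcon
        have h7 := h (σ 5) hcon.1 hcon.2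
        exact hcon.2 (σ.injective h7)
      rcases h6 with h6 | h6
      · exact absurd (σ.injective (h6.trans h4.symm)) (by decide)
      · exact h6
    ext i
    by_cases hi4 : i = 4
    · rw [hi4, h4]; rfl
    · by_cases hi5 : i = 5
      · rw [hi5, h5]; rfl
      · rw [h i hi4 hi5]; rfl
  · right
    have h45 : σ 4 = 5 := by
      by_contra hcon
      exact h4 (σ.injective (h (σ 4) h4 hcon))
    have h54 : σ 5 = 4 := by
      by_contra hcon
      by_cases h55 : σ 5 = 5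
      · exact absurd (σ.injective (h55.trans h45.symm)) (by decide)
      · exact h55 (σ.injective (h (σ 5) hcon h55))
    ext i
    by_cases hi4 : i = 4
    · rw [hi4, h45]; rfl
    · by_cases hi5 : i = 5
      · rw [hi5, h54]; rfl
      · rw [h i hi4 hi5, w0, swap_apply_of_ne_of_ne hi4 hi5]

end Cfsg.Agent.UGT.A7
end

-- part: UGT/A7/LemD
section
/-!
# Lemma D: Sylow 2-subgroups `T` of `C(c)` of the form `P × R`
-/

set_option autoImplicit false
set_option linter.unusedSectionVars false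

namespace Cfsg.Agent.UGT.A7

open Subgroup Cfsg Cfsg.Agent.TwoFusion.SectionalRank
open Cfsg.Agent.UGT.TriBase

variable {G : Type*} [Group G] {T P R : Subgroup G} {z c : G}

/-! ### the action of `N(T)` on `{z, c}` -/

theorem split_comm (h : TwoP T P R) {p q p₁ r₁ : G} (hp : p ∈ P) (hq : q ∈ R) (hp₁ : p₁ ∈ P) (hr₁ : r₁ ∈ R)
    (hc : (p₁ * r₁) * (p * q) = (p * q) * (p₁ * r₁)) : p₁ * p = p * p₁ ∧ r₁ * q = q * r₁ := by
  have e1 : (p₁ * r₁) * (p * q) = (p₁ * p) * (r₁ * q) := by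
    calc (p₁ * r₁) * (p * q) = p₁ * (r₁ * p) * q := by group
      _ = p₁ * (p * r₁) * q := by rw [h.comm p hp r₁ hr₁]
      _ = _ := by group
  have e2 : (p * q) * (p₁ * r₁) = (p * p₁) * (q * r₁) := by
    calc (p * q) * (p₁ * r₁) = p * (q * p₁) * r₁ := by group
      _ = p * (p₁ * q) * r₁ := by rw [h.comm p₁ hp₁ q hq]
      _ = _ := by group
  rw [e1, e2] at hc
  have e3 : (p * p₁)⁻¹ * (p₁ * p) = (q * r₁) * (r₁ * q)⁻¹ := by
    rw [inv_mul_eq_iff_eq_mul, ← mul_assoc, eq_mul_inv_iff_mul_eq]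
    exact hc
  have h1 : (p * p₁)⁻¹ * (p₁ * p) ∈ P := P.mul_mem (P.inv_mem (P.mul_mem hp hp₁)) (P.mul_mem hp₁ hp)
  have h2 : (q * r₁) * (r₁ * q)⁻¹ ∈ R := R.mul_mem (R.mul_mem hq hr₁) (R.inv_mem (R.mul_mem hr₁ hq))
  have h3 := h.inf _ h1 (e3 ▸ h2)
  refine ⟨(inv_mul_eq_one.1 h3).symm, ?_⟩
  rw [e3, mul_inv_eq_one] at h3
  exact h3.symm

/-- `[p r, p' r'] = [p, p'] [r, r']` -/
theorem comm_eq (h : TwoP T P R) {p r p' r' : G} (hp : p ∈ P) (hr : r ∈ R) (hp' : p' ∈ P) (hr' : r' ∈ R) :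
    (p * r) * (p' * r') * (p * r)⁻¹ * (p' * r')⁻¹ = (p * p' * p⁻¹ * p'⁻¹) * (r * r' * r⁻¹ * r'⁻¹) := by
  have e1 : (p * r) * (p' * r') = (p * p') * (r * r') := by
    calc (p * r) * (p' * r') = p * (r * p') * r' := by group
      _ = p * (p' * r) * r' := by rw [h.comm p' hp' r hr]
      _ = _ := by group
  have e2 : (p * r)⁻¹ = p⁻¹ * r⁻¹ := by
    rw [h.comm p hp r hr, mul_inv_rev]
  have e3 : (p' * r')⁻¹ = p'⁻¹ * r'⁻¹ := by
    rw [h.comm p' hp' r' hr', mul_inv_rev]
  rw [e1, e2, e3]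
  have e4 := h.comm p⁻¹ (P.inv_mem hp) (r * r') (R.mul_mem hr hr')
  have e5 := h.comm p'⁻¹ (P.inv_mem hp') (r * r' * r⁻¹) (R.mul_mem (R.mul_mem hr hr') (R.inv_mem hr))
  calc p * p' * (r * r') * (p⁻¹ * r⁻¹) * (p'⁻¹ * r'⁻¹)
      = p * p' * ((r * r') * p⁻¹) * r⁻¹ * p'⁻¹ * r'⁻¹ := by group
    _ = p * p' * (p⁻¹ * (r * r')) * r⁻¹ * p'⁻¹ * r'⁻¹ := by rw [e4]
    _ = p * p' * p⁻¹ * ((r * r' * r⁻¹) * p'⁻¹) * r'⁻¹ := by group
    _ = p * p' * p⁻¹ * (p'⁻¹ * (r * r' * r⁻¹)) * r'⁻¹ := by rw [e5]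
    _ = _ := by group

/-- commutators in the centralizer of a noncentral element -/
theorem comm_cent (hP : EightS P z) (hR : EightS R c) (h : TwoP T P R) {w s t : G} (hw : w ∈ T)
    (hwn : ∃ t ∈ T, w * t ≠ t * w) (hs : s ∈ T) (ht : t ∈ T) (hsw : s * w = w * s) (htw : t * w = w * t) :
    s * t * s⁻¹ * t⁻¹ = 1 ∨ s * t * s⁻¹ * t⁻¹ = z ∨ s * t * s⁻¹ * t⁻¹ = c := by
  obtain ⟨p, hp, q, hq, rfl⟩ := h.sup w hw
  obtain ⟨p₁, hp₁, r₁, hr₁, rfl⟩ := h.sup s hs
  obtain ⟨p₂, hp₂, r₂, hr₂, rfl⟩ := h.sup t ht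
  obtain ⟨h1, h2⟩ := split_comm h hp hq hp₁ hr₁ hsw
  obtain ⟨h3, h4⟩ := split_comm h hp hq hp₂ hr₂ htw
  rw [comm_eq h hp₁ hr₁ hp₂ hr₂]
  by_cases hpc : ∃ v ∈ P, p * v ≠ v * p
  · obtain ⟨v, hv, hpv⟩ := hpc
    have h5 := hP.ab p hp v hv hpv p₁ hp₁ p₂ hp₂ h1 h3
    have h6 : p₁ * p₂ * p₁⁻¹ * p₂⁻¹ = 1 := by rw [h5]; group
    rw [h6, one_mul]
    rcases hR.com r₁ hr₁ r₂ hr₂ with h7 | h7
    · exact Or.inl h7
    · exact Or.inr (Or.inr h7)
  · push Not at hpc
    have hqc : ∃ v ∈ R, q * v ≠ v * q := by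
      by_contra hcon
      push Not at hcon
      obtain ⟨t, ht, hwt⟩ := hwn
      obtain ⟨p₃, hp₃, r₃, hr₃, rfl⟩ := h.sup t ht
      apply hwt
      calc p * q * (p₃ * r₃) = p * (q * p₃) * r₃ := by group
        _ = p * (p₃ * q) * r₃ := by rw [h.comm p₃ hp₃ q hq]
        _ = (p * p₃) * (q * r₃) := by group
        _ = (p₃ * p) * (r₃ * q) := by rw [hpc p₃ hp₃, hcon r₃ hr₃]
        _ = p₃ * (p * r₃) * q := by group
        _ = p₃ * (r₃ * p) * q := by rw [h.comm p hp r₃ hr₃]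
        _ = _ := by group
    obtain ⟨v, hv, hpv⟩ := hqc
    have h5 := hR.ab q hq v hv hpv r₁ hr₁ r₂ hr₂ h2 h4
    have h6 : r₁ * r₂ * r₁⁻¹ * r₂⁻¹ = 1 := by rw [h5]; group
    rw [h6, mul_one]
    rcases hP.com p₁ hp₁ p₂ hp₂ with h7 | h7
    · exact Or.inl h7
    · exact Or.inr (Or.inl h7)

theorem EightS.exists_comm (h : EightS P z) : ∃ p ∈ P, ∃ q ∈ P, p * q ≠ q * p ∧ p * q * p⁻¹ * q⁻¹ = z := by
  obtain ⟨p, hp, q, hq, hpq⟩ := h.nab
  refine ⟨p, hp, q, hq, hpq, ?_⟩
  rcases h.com p hp q hq with h1 | h1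
  · exfalso
    apply hpq
    calc p * q = (p * q * p⁻¹ * q⁻¹) * (q * p) := by group
      _ = q * p := by rw [h1, one_mul]
  · exact h1

/-- `N(T)` permutes `{z, c}` -/
theorem conj_c (hP : EightS P z) (hR : EightS R c) (h : TwoP T P R) {g : G}
    (hg : ∀ t ∈ T, g * t * g⁻¹ ∈ T) : g * c * g⁻¹ = c ∨ g * c * g⁻¹ = z := by
  obtain ⟨r, hr, s, hs, -, hrs⟩ := hR.exists_comm
  obtain ⟨v, hv, w, hw, hvw⟩ := hP.nab
  have e : ∀ a b : G, a * b = b * a → g * a * g⁻¹ * (g * b * g⁻¹) = g * b * g⁻¹ * (g * a * g⁻¹) := by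
    intro a b hab
    calc g * a * g⁻¹ * (g * b * g⁻¹) = g * (a * b) * g⁻¹ := by group
      _ = g * (b * a) * g⁻¹ := by rw [hab]
      _ = _ := by group
  have h1 := comm_cent hP hR h (hg v (h.PT hv)) ⟨g * w * g⁻¹, hg w (h.PT hw), fun h2 => hvw (by
      have h3 : g * (v * w) * g⁻¹ = g * (w * v) * g⁻¹ := by
        calc g * (v * w) * g⁻¹ = g * v * g⁻¹ * (g * w * g⁻¹) := by group
          _ = g * w * g⁻¹ * (g * v * g⁻¹) := h2
          _ = _ := by group
      exact mul_left_cancel (mul_right_cancel h3))⟩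
    (hg r (h.RT hr)) (hg s (h.RT hs)) (e r v (h.comm v hv r hr).symm) (e s v (h.comm v hv s hs).symm)
  have h2 : g * r * g⁻¹ * (g * s * g⁻¹) * (g * r * g⁻¹)⁻¹ * (g * s * g⁻¹)⁻¹ = g * c * g⁻¹ := by
    rw [← hrs]; group
  rw [h2] at h1
  rcases h1 with h1 | h1 | h1
  · exfalso
    apply hR.ne
    have h3 : g * c = g := by
      calc g * c = (g * c * g⁻¹) * g := by group
        _ = g := by rw [h1, one_mul]
    exact mul_eq_left.1 h3
  · exact Or.inr h1
  · exact Or.inl h1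

/-! ### Sylow subgroups -/

variable [Finite G]

/-- a Sylow 2-subgroup of `G` containing `T` -/
theorem exists_sylow_ge {T : Subgroup G} (hT : IsPGroup 2 ↥T) : ∃ S : Sylow 2 G, T ≤ S := hT.exists_le_sylow

/-- elements of `C(c)` normalizing `T` and generating with `T` a 2-group lie in `T` -/
theorem mem_of_fix {E T S : Subgroup G} (hT : IsSyl E T) (hS : IsPGroup 2 ↥S) (hTS : T ≤ S) {u : G}
    (hu : u ∈ S) (huE : u ∈ E) : u ∈ T := by
  have h1 : IsPGroup 2 ↥(S ⊓ E) := hS.to_le inf_le_left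
  have h2 := hT.max (S ⊓ E) h1 inf_le_right (le_inf hTS hT.le)
  rw [← h2]
  exact ⟨hu, huE⟩

/-- If `N(T)` fixes `c` then `T ∈ Syl₂(C(c))` is a Sylow subgroup of `G`. -/
theorem sylow_of_fix {T : Subgroup G} {c : G} (hT : IsSyl (centralizer ({c} : Set G)) T)
    (hfix : ∀ g : G, (∀ t ∈ T, g * t * g⁻¹ ∈ T) → g * c * g⁻¹ = c) (S : Sylow 2 G) (hTS : T ≤ S) :
    (S : Subgroup G) = T := by
  by_contra hne
  obtain ⟨y, hy, hyT, hn⟩ := GH.E.exists_mem_normalizer S.isPGroup' hTS (fun h => hne h.symm)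
  apply hyT
  refine mem_of_fix hT S.isPGroup' hTS hy ?_
  rw [mem_centralizer_singleton_iff]
  exact mul_inv_eq_iff_eq_mul.1 (hfix y hn)

/-- **`T = P × R ∈ Syl₂(C(c))` with `P`, `R` nonabelian of order 8, `c ∈ Z(R)`: sectional rank at most 4.** -/
theorem rank_of_eight (hP : EightS P z) (hR : EightS R c) (h : TwoP T P R)
    (hT : IsSyl (centralizer ({c} : Set G)) T) : SectionalPRankLE 2 4 G := by
  have : Fact (Nat.Prime 2) := ⟨Nat.prime_two⟩
  obtain ⟨S, hTS⟩ := exists_sylow_ge hT.two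
  apply sectionalPRankLE_of_sylow S
  have hzc := z_ne_c hP hR h
  have hcz : c * z = z * c := (hP.cen · · |>.symm) |> fun _ => (central_c hR h (h.PT hP.mem)).symm
  -- normalizing elements
  have hconj : ∀ u : G, (∀ t ∈ T, u * t * u⁻¹ ∈ T) →
      (u * c * u⁻¹ = c ∨ u * c * u⁻¹ = z) ∧ (u * z * u⁻¹ = z ∨ u * z * u⁻¹ = c) := fun u hu =>
    ⟨conj_c hP hR h hu, conj_c hR hP h.symm hu⟩
  have hinj : ∀ (u a b : G), u * a * u⁻¹ = u * b * u⁻¹ → a = b := fun u a b h1 =>
    mul_left_cancel (mul_right_cancel h1)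
  have hswap : ∀ u ∈ (S : Subgroup G), (∀ t ∈ T, u * t * u⁻¹ ∈ T) → u ∉ T →
      u * z * u⁻¹ = c ∧ u * c * u⁻¹ = z := by
    intro u hu hn huT
    obtain ⟨h1, h2⟩ := hconj u hn
    have h3 : u * c * u⁻¹ = z := by
      rcases h1 with h1 | h1
      · exfalso
        apply huT
        refine mem_of_fix hT S.isPGroup' hTS hu ?_
        rw [mem_centralizer_singleton_iff]
        exact mul_inv_eq_iff_eq_mul.1 h1
      · exact h1
    refine ⟨?_, h3⟩
    rcases h2 with h2 | h2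
    · exact absurd (hinj u c z (h3.trans h2.symm)) hzc.symm
    · exact h2
  obtain ⟨M, hM⟩ : ∃ M : Subgroup G, M = (S : Subgroup G) ⊓ normalizer (T : Set G) := ⟨_, rfl⟩
  have hMS : M ≤ S := hM ▸ inf_le_left
  have hMn : ∀ u ∈ M, ∀ t ∈ T, u * t * u⁻¹ ∈ T := by
    intro u hu t ht
    rw [hM] at hu
    exact (mem_normalizer_iff.1 hu.2 t).1 ht
  have hTM : T ≤ M := by
    rw [hM]
    exact le_inf hTS le_normalizer
  have hsw : ∀ u ∈ M, u ∉ T → u * z * u⁻¹ = c ∧ u * c * u⁻¹ = z := fun u hu huT =>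
    hswap u (hMS hu) (hMn u hu) huT
  have hmulT : ∀ u ∈ M, ∀ v ∈ M, u ∉ T → v ∉ T → u⁻¹ * v ∈ T := by
    intro u hu v hv huT hvT
    refine mem_of_fix hT S.isPGroup' hTS (hMS (M.mul_mem (M.inv_mem hu) hv)) ?_
    rw [mem_centralizer_singleton_iff]
    have h2 := (hsw v hv hvT).2
    have h3 : v * c = z * v := mul_inv_eq_iff_eq_mul.1 h2
    have h6 : u * c * u⁻¹ = z := (hsw u hu huT).2
    calc u⁻¹ * v * c = u⁻¹ * (v * c) := by group
      _ = u⁻¹ * (z * v) := by rw [h3]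
      _ = u⁻¹ * ((u * c * u⁻¹) * v) := by rw [h6]
      _ = c * (u⁻¹ * v) := by group
  have hidx0 : T.relIndex M ≠ 0 := index_ne_zero_of_finite (H := T.subgroupOf M)
  have hidx : T.relIndex M ≤ 2 := by
    by_cases hMT : ∃ u ∈ M, u ∉ T
    · obtain ⟨u, hu, huT⟩ := hMT
      have h1 : T.relIndex M = 2 := by
        rw [relIndex, index_eq_two_iff]
        refine ⟨⟨u⁻¹, M.inv_mem hu⟩, fun b => ?_⟩
        have huT' : u⁻¹ ∉ T := fun h2 => huT (by rw [← inv_inv u]; exact T.inv_mem h2)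
        rw [mem_subgroupOf, mem_subgroupOf]
        by_cases hb : (b : G) ∈ T
        · refine Or.inr ⟨hb, fun h2 => huT' ?_⟩
          have h3 := T.mul_mem (T.inv_mem hb) h2
          change (b : G)⁻¹ * ((b : G) * u⁻¹) ∈ T at h3
          rwa [inv_mul_cancel_left] at h3
        · refine Or.inl ⟨?_, hb⟩
          change (b : G) * u⁻¹ ∈ T
          have h3 := hmulT (b : G)⁻¹ (M.inv_mem b.2) u⁻¹ (M.inv_mem hu)
            (fun h2 => hb (by rw [← inv_inv (b : G)]; exact T.inv_mem h2)) huT'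
          rwa [inv_inv] at h3
      omega
    · push Not at hMT
      rw [relIndex_eq_one.2 hMT]
      omega
  -- `M = S`
  have hMS' : M = (S : Subgroup G) := by
    by_contra hne
    have hMT : ∃ u ∈ M, u ∉ T := by
      by_contra hcon
      push Not at hcon
      have h1 : T ≠ (S : Subgroup G) := fun h2 => hne (le_antisymm hMS (by rw [← h2]; exact hTM))
      obtain ⟨y, hy, hyT, hn⟩ := GH.E.exists_mem_normalizer S.isPGroup' hTS h1
      apply hyT
      apply hcon
      rw [hM]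
      exact ⟨hy, mem_normalizer_fintype hn⟩
    obtain ⟨u, hu, huT⟩ := hMT
    obtain ⟨s, hs, hsM, hsn⟩ := GH.E.exists_mem_normalizer S.isPGroup' hMS hne
    obtain ⟨huz, huc⟩ := hsw u hu huT
    -- `Z(T)` in `M`
    have hcz1 : c * z ≠ 1 := fun h5 => hzc (by
      have := eq_inv_of_mul_eq_one_right h5
      rw [this, inv_eq_of_mul_eq_one_right hR.sq])
    have hczT : ∀ t ∈ T, t * (c * z) = (c * z) * t := fun t ht => by
      rw [← mul_assoc, central_c hR h ht, mul_assoc, central_z hP h ht, mul_assoc]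
    have hA : ∀ m ∈ M, (∀ y ∈ M, m * y * m⁻¹ * y⁻¹ = 1 ∨ m * y * m⁻¹ * y⁻¹ = c * z) →
        m = 1 ∨ m = z ∨ m = c ∨ m = c * z := by
      intro m hm hmy
      by_cases hmT : m ∈ T
      · obtain ⟨p, hp, r, hr, rfl⟩ := h.sup m hmT
        have h1 : p = 1 ∨ p = z := by
          refine hP.cen' p hp fun y hy => ?_
          have h2 := comm_eq h hp hr hy R.one_mem
          rw [mul_one] at h2
          have h3 : r * 1 * r⁻¹ * (1 : G)⁻¹ = 1 := by group
          rw [h3, mul_one] at h2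
          have h4 := hmy y (hTM (h.PT hy))
          rw [h2] at h4
          have h5 : p * y * p⁻¹ * y⁻¹ = 1 := by
            rcases h4 with h4 | h4
            · exact h4
            · rcases hP.com p hp y hy with h6 | h6
              · exact h6
              · exfalso
                rw [h6] at h4
                exact hR.ne (mul_eq_right.1 h4.symm)
          calc p * y = (p * y * p⁻¹ * y⁻¹) * (y * p) := by group
            _ = y * p := by rw [h5, one_mul]
        have h1' : r = 1 ∨ r = c := by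
          refine hR.cen' r hr fun y hy => ?_
          have h2 := comm_eq h hp hr P.one_mem hy
          rw [one_mul] at h2
          have h3 : p * 1 * p⁻¹ * (1 : G)⁻¹ = 1 := by group
          rw [h3, one_mul] at h2
          have h4 := hmy y (hTM (h.RT hy))
          rw [h2] at h4
          have h5 : r * y * r⁻¹ * y⁻¹ = 1 := by
            rcases h4 with h4 | h4
            · exact h4
            · rcases hR.com r hr y hy with h6 | h6
              · exact h6
              · exfalso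
                rw [h6] at h4
                exact hP.ne (mul_eq_left.1 h4.symm)
          calc r * y = (r * y * r⁻¹ * y⁻¹) * (y * r) := by group
            _ = y * r := by rw [h5, one_mul]
        rcases h1 with rfl | rfl <;> rcases h1' with rfl | rfl
        · exact Or.inl (one_mul 1)
        · exact Or.inr (Or.inr (Or.inl (one_mul _)))
        · exact Or.inr (Or.inl (mul_one _))
        · exact Or.inr (Or.inr (Or.inr (hcz.symm)))
      · exfalso
        obtain ⟨hmz, hmc⟩ := hsw m hm hmT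
        obtain ⟨r, hr, t, ht, -, hrt⟩ := hR.exists_comm
        have key : ∀ r ∈ R, ∃ e, (∀ t ∈ T, t * e = e * t) ∧ m * r * m⁻¹ = e * r := by
          intro r hr
          refine ⟨m * r * m⁻¹ * r⁻¹, ?_, by group⟩
          intro t ht
          rcases hmy r (hTM (h.RT hr)) with h2 | h2
          · rw [h2, mul_one, one_mul]
          · rw [h2]
            exact hczT t ht
        obtain ⟨e, he, h1⟩ := key r hr
        obtain ⟨f, hf, h2⟩ := key t ht
        have hrT := h.RT hr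
        have htT := h.RT ht
        have heT : e ∈ T := by
          have h4 := T.mul_mem (hMn m hm r hrT) (T.inv_mem hrT)
          rw [h1, mul_inv_cancel_right] at h4
          exact h4
        have hfT : f ∈ T := by
          have h4 := T.mul_mem (hMn m hm t htT) (T.inv_mem htT)
          rw [h2, mul_inv_cancel_right] at h4
          exact h4
        have h3 : (e * r) * (f * t) * (e * r)⁻¹ * (f * t)⁻¹ = r * t * r⁻¹ * t⁻¹ := by
          have a1 : r * f = f * r := hf r hrT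
          have a2 : (e * r) * (f * t) = (e * f) * (r * t) := by
            calc (e * r) * (f * t) = e * (r * f) * t := by group
              _ = e * (f * r) * t := by rw [a1]
              _ = _ := by group
          have a3 : (f * t) * (e * r) = (e * f) * (t * r) := by
            calc (f * t) * (e * r) = f * (t * e) * r := by group
              _ = f * (e * t) * r := by rw [he t htT]
              _ = (f * e) * (t * r) := by group
              _ = (e * f) * (t * r) := by rw [he f hfT]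
          have a4 : (e * r) * (f * t) * (e * r)⁻¹ * (f * t)⁻¹ =
              ((e * r) * (f * t)) * ((f * t) * (e * r))⁻¹ := by group
          rw [a4, a2, a3]
          have a5 : (e * f) * (r * t) * ((e * f) * (t * r))⁻¹ =
              (e * f) * (r * t * r⁻¹ * t⁻¹) * (e * f)⁻¹ := by group
          rw [a5, hrt]
          have a6 : (e * f) * c = c * (e * f) := by
            rw [mul_assoc, ← hf c (h.RT hR.mem), ← mul_assoc, ← he c (h.RT hR.mem), mul_assoc]
          rw [a6, mul_inv_cancel_right]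
        rw [← h1, ← h2, hrt] at h3
        have h4 : m * r * m⁻¹ * (m * t * m⁻¹) * (m * r * m⁻¹)⁻¹ * (m * t * m⁻¹)⁻¹ =
            m * (r * t * r⁻¹ * t⁻¹) * m⁻¹ := by group
        rw [h4, hrt, hmc] at h3
        exact hzc h3
    have hsN : s ∈ normalizer (M : Set G) := mem_normalizer_fintype hsn
    have hpull : ∀ y ∈ M, ∃ y' ∈ M, y = s * y' * s⁻¹ := by
      intro y hy
      refine ⟨s⁻¹ * y * s, ?_, by group⟩
      have h1 := (mem_normalizer_iff''.1 hsN y).1 hy
      exact h1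
    have hczM : ∀ y ∈ M, y * (c * z) * y⁻¹ = c * z := by
      intro y hy
      by_cases hyT : y ∈ T
      · rw [hczT y hyT, mul_inv_cancel_right]
      · obtain ⟨h1, h2⟩ := hsw y hy hyT
        calc y * (c * z) * y⁻¹ = (y * c * y⁻¹) * (y * z * y⁻¹) := by group
          _ = z * c := by rw [h1, h2]
          _ = c * z := hcz.symm
    have hcA : ∀ y ∈ M, c * y * c⁻¹ * y⁻¹ = 1 ∨ c * y * c⁻¹ * y⁻¹ = c * z := by
      intro y hy
      by_cases hyT : y ∈ T
      · left
        rw [← central_c hR h hyT]; group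
      · right
        obtain ⟨h1, h2⟩ := hsw y hy hyT
        have h3 : c⁻¹ = c := inv_eq_of_mul_eq_one_right hR.sq
        calc c * y * c⁻¹ * y⁻¹ = c * (y * c⁻¹ * y⁻¹) := by group
          _ = c * (y * c * y⁻¹) := by rw [h3]
          _ = c * z := by rw [h2]
    have hczin : c * z ∈ M := hTM (T.mul_mem (h.RT hR.mem) (h.PT hP.mem))
    have hscz : s * (c * z) * s⁻¹ = c * z := by
      have h1 : ∀ y ∈ M, y * (s * (c * z) * s⁻¹) = (s * (c * z) * s⁻¹) * y := by
        intro y hy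
        obtain ⟨y', hy', rfl⟩ := hpull y hy
        have h2 := mul_inv_eq_iff_eq_mul.1 (hczM y' hy')
        calc s * y' * s⁻¹ * (s * (c * z) * s⁻¹) = s * (y' * (c * z)) * s⁻¹ := by group
          _ = s * ((c * z) * y') * s⁻¹ := by rw [h2]
          _ = _ := by group
      have h2 := hA _ (hsn _ hczin) (fun y hy => Or.inl (by
        rw [← h1 y hy]; group))
      rcases h2 with h2 | h2 | h2 | h2
      · exfalso
        apply hcz1
        have h3 : s * (c * z) = s := by
          calc s * (c * z) = (s * (c * z) * s⁻¹) * s := by group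
            _ = s := by rw [h2, one_mul]
        exact mul_eq_left.1 h3
      · exfalso
        have h3 := h1 u hu
        rw [h2] at h3
        exact hzc ((mul_inv_eq_iff_eq_mul.2 h3).symm.trans huz)
      · exfalso
        have h3 := h1 u hu
        rw [h2] at h3
        exact hzc (((mul_inv_eq_iff_eq_mul.2 h3).symm.trans huc).symm)
      · exact h2
    have hsc := hA (s * c * s⁻¹) (hsn _ (hTM (h.RT hR.mem))) (by
      intro y hy
      obtain ⟨y', hy', rfl⟩ := hpull y hy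
      have h1 : s * c * s⁻¹ * (s * y' * s⁻¹) * (s * c * s⁻¹)⁻¹ * (s * y' * s⁻¹)⁻¹ =
          s * (c * y' * c⁻¹ * y'⁻¹) * s⁻¹ := by group
      rw [h1]
      rcases hcA y' hy' with h2 | h2
      · left
        rw [h2]; group
      · right
        rw [h2, hscz])
    rcases hsc with h1 | h1 | h1 | h1
    · apply hR.ne
      have h3 : s * c = s := by
        calc s * c = (s * c * s⁻¹) * s := by group
          _ = s := by rw [h1, one_mul]
      exact mul_eq_left.1 h3
    · -- `s c s⁻¹ = z`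
      apply hsM
      have h2 : u⁻¹ * s ∈ T := by
        refine mem_of_fix hT S.isPGroup' hTS (S.1.mul_mem (S.1.inv_mem (hMS hu)) hs) ?_
        rw [mem_centralizer_singleton_iff]
        have h3 : s * c = z * s := mul_inv_eq_iff_eq_mul.1 h1
        calc u⁻¹ * s * c = u⁻¹ * (s * c) := by group
          _ = u⁻¹ * (z * s) := by rw [h3]
          _ = u⁻¹ * ((u * c * u⁻¹) * s) := by rw [huc]
          _ = c * (u⁻¹ * s) := by group
      have h3 := M.mul_mem hu (hTM h2)
      rwa [mul_inv_cancel_left] at h3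
    · apply hsM
      apply hTM
      refine mem_of_fix hT S.isPGroup' hTS hs ?_
      rw [mem_centralizer_singleton_iff]
      exact mul_inv_eq_iff_eq_mul.1 h1
    · have h2 := hinj s c (c * z) (h1.trans hscz.symm)
      exact hP.ne (mul_eq_left.1 h2.symm)
  rw [← hMS', sectionalPRankLE_iff]
  intro X Y hXY
  have h1 := card_le_swap hP hR h hidx hidx0 hMn hsw (hXY.map M.subtype) (map_subtype_le X)
  rw [card_map_of_injective M.subtype_injective, card_map_of_injective M.subtype_injective] at h1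
  exact h1

end Cfsg.Agent.UGT.A7
end

-- part: UGT/A7/MaxRank
section
/-!
# Lemma D, `R` of maximal class of order at least 16
-/

set_option autoImplicit false
set_option linter.unusedSectionVars false

namespace Cfsg.Agent.UGT.A7

open Subgroup Cfsg Cfsg.Agent.TwoFusion.SectionalRank
open Cfsg.Agent.UGT.TriBase

variable {G : Type*} [Group G]

/-- `R` is a 2-group of maximal class of order `2 ^ (m + 4)`: `x` generates the cyclic subgroup of index 2, `a` is an
involution outside, `a x a⁻¹ = x ^ r`. -/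
structure MaxC (R : Subgroup G) (a x : G) (r : ℤ) (m : ℕ) : Prop where
  aR : a ∈ R
  xR : x ∈ R
  aa : a * a = 1
  ord : orderOf x = 2 ^ (m + 3)
  act : a * x * a⁻¹ = x ^ r
  r4 : (2 : ℤ) ^ (m + 2) ∣ 1 + r
  cov : ∀ y ∈ R, (∃ k : ℤ, y = x ^ k) ∨ ∃ k : ℤ, y = a * x ^ k

theorem exists_maxC [Finite G] {R : Subgroup G} (hR : IsPGroup 2 ↥R) {a c : G} (ha : a ∈ R) (haa : a * a = 1)
    (ha1 : a ≠ 1) (hc : c ∈ R) (hcc : c * c = 1) (hc1 : c ≠ 1) (hca : c ≠ a) (hcac : c * a = a * c)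
    (hcen : ∀ r ∈ R, r * a = a * r → r = 1 ∨ r = a ∨ r = c ∨ r = a * c) (h8 : 8 < Nat.card R) :
    ∃ x r m, MaxC R a x r m := by
  have : Fact (Nat.Prime 2) := ⟨Nat.prime_two⟩
  obtain ⟨n, hn⟩ := IsPGroup.iff_card.mp hR
  obtain ⟨a', ha'⟩ : ∃ a' : ↥R, a' = ⟨a, ha⟩ := ⟨_, rfl⟩
  obtain ⟨c', hc'⟩ : ∃ c' : ↥R, c' = ⟨c, hc⟩ := ⟨_, rfl⟩
  obtain ⟨A, hA⟩ : ∃ A, A = centralizer ({a'} : Set ↥R) := ⟨_, rfl⟩
  have hAmem : ∀ y : ↥R, y ∈ A ↔ (y : G) * a = a * y := by
    intro y
    rw [hA, mem_centralizer_singleton_iff, ha']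
    exact ⟨fun h => congrArg Subtype.val h, fun h => Subtype.ext h⟩
  have hAset : (A : Set ↥R) = {1, a', c', a' * c'} := by
    ext y
    simp only [Set.mem_insert_iff, Set.mem_singleton_iff]
    constructor
    · intro hy
      rcases hcen y y.2 ((hAmem y).1 hy) with h | h | h | h
      · exact Or.inl (Subtype.ext h)
      · exact Or.inr (Or.inl (Subtype.ext (by rw [h, ha'])))
      · exact Or.inr (Or.inr (Or.inl (Subtype.ext (by rw [h, hc']))))
      · exact Or.inr (Or.inr (Or.inr (Subtype.ext (by rw [h, ha', hc']; rfl))))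
    · rintro (rfl | rfl | rfl | rfl)
      · exact A.one_mem
      · rw [SetLike.mem_coe, hAmem, ha']
      · rw [SetLike.mem_coe, hAmem, hc']; exact hcac
      · rw [SetLike.mem_coe, hAmem, ha', hc']
        change a * c * a = a * (a * c)
        rw [mul_assoc, hcac]
  have hA4 : Nat.card A = 4 := by
    have h1 : (A : Set ↥R).ncard = 4 := by
      rw [hAset]
      have h2 : a' ≠ 1 := fun h => ha1 (by
        have := congrArg Subtype.val h
        rw [ha'] at this; exact this)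
      have h3 : c' ≠ 1 := fun h => hc1 (by
        have := congrArg Subtype.val h
        rw [hc'] at this; exact this)
      have h4 : c' ≠ a' := fun h => hca (by
        have := congrArg Subtype.val h
        rw [hc', ha'] at this; exact this)
      have h5 : a' * c' ≠ 1 := fun h => h4 (by
        have h6 : a' * a' = 1 := by rw [ha']; exact Subtype.ext haa
        have h7 := eq_inv_of_mul_eq_one_right h
        rw [h7, inv_eq_of_mul_eq_one_right h6])
      have h6 : a' * c' ≠ a' := fun h => h3 (mul_eq_left.1 h)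
      have h7 : a' * c' ≠ c' := fun h => h2 (mul_eq_right.1 h)
      rw [Set.ncard_insert_of_notMem, Set.ncard_insert_of_notMem, Set.ncard_insert_of_notMem,
        Set.ncard_singleton]
      · simpa using h7.symm
      · simp only [Set.mem_insert_iff, Set.mem_singleton_iff, not_or]
        exact ⟨h4.symm, h6.symm⟩
      · simp only [Set.mem_insert_iff, Set.mem_singleton_iff, not_or]
        exact ⟨h2.symm, h3.symm, h5.symm⟩
    exact h1
  have hCA : centralizer (A : Set ↥R) = A := by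
    apply le_antisymm
    · intro g hg
      rw [hA, mem_centralizer_singleton_iff]
      refine (mem_centralizer_iff.mp hg a' ?_).symm
      rw [hAset]; simp only [_root_.Set.mem_insert_iff, _root_.Set.mem_singleton_iff, _root_.left_eq_mul, _root_.true_or, _root_.or_true]
    · have h4 : Nat.card A = 2 ^ 2 := by rw [hA4]; norm_num
      have hcom := IsPGroup.isMulCommutative_of_card_eq_prime_sq (p := 2) h4
      intro g hg
      rw [mem_centralizer_iff]
      intro y hy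
      exact congrArg Subtype.val (hcom.is_comm.comm (⟨y, hy⟩ : A) ⟨g, hg⟩)
  have hclass := Cfsg.Agent.S0112.result (p := 2) n hn A (by rw [hA4]; norm_num) hCA
  have hn4 : 4 ≤ n := by
    by_contra hlt
    rw [hn] at h8
    have h1 : n ≤ 3 := by omega
    have h2 : 2 ^ n ≤ 2 ^ 3 := Nat.pow_le_pow_right (by norm_num) h1
    omega
  obtain ⟨C, hC, hCidx⟩ := Cfsg.Agent.S0113.result n (by omega) hn hclass
  obtain ⟨m, rfl⟩ := Nat.exists_eq_add_of_le' hn4
  obtain ⟨x, hxC, hCx⟩ : ∃ x : ↥R, x ∈ C ∧ C = zpowers x := by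
    obtain ⟨x, hx⟩ := hC.exists_generator
    refine ⟨x, x.2, ?_⟩
    ext g
    constructor
    · intro hg
      obtain ⟨k, hk⟩ := mem_zpowers_iff.mp (hx ⟨g, hg⟩)
      rw [mem_zpowers_iff]
      exact ⟨k, by simpa using congrArg Subtype.val hk⟩
    · intro hg
      obtain ⟨k, hk⟩ := mem_zpowers_iff.mp hg
      rw [← hk]
      exact C.zpow_mem x.2 k
  have hCcard : Nat.card C = 2 ^ (m + 3) := by
    have h1 := card_mul_index C
    rw [hCidx, hn] at h1
    have h2 : (2 : ℕ) ^ (m + 4) = 2 ^ (m + 3) * 2 := by ring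
    rw [h2] at h1
    exact Nat.eq_of_mul_eq_mul_right (by norm_num) h1
  have hxord : orderOf x = 2 ^ (m + 3) := by rw [← hCcard, hCx, Nat.card_zpowers]
  have hCn : C.Normal := normal_of_index_eq_two hCidx
  have hpow8 : 8 ≤ 2 ^ (m + 3) := by
    calc 8 = 2 ^ 3 := by norm_num
      _ ≤ 2 ^ (m + 3) := Nat.pow_le_pow_right (by norm_num) (by omega)
  have haC : a' ∉ C := by
    intro h
    have h1 : C ≤ A := by
      intro y hy
      rw [hA, mem_centralizer_singleton_iff]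
      rw [hCx] at h hy
      obtain ⟨i, rfl⟩ := mem_zpowers_iff.1 h
      obtain ⟨j, rfl⟩ := mem_zpowers_iff.1 hy
      exact (Commute.refl x).zpow_zpow j i
    have h2 := card_le_of_le h1
    rw [hCcard, hA4] at h2
    omega
  have haa' : a' * a' = 1 := by rw [ha']; exact Subtype.ext haa
  obtain ⟨r, hr⟩ : ∃ r : ℤ, x ^ r = a' * x * a'⁻¹ := by
    have := hCn.conj_mem x hxC a'
    rw [hCx] at this
    exact mem_zpowers_iff.1 this
  have h1 : a' * x ^ r * a'⁻¹ = x := by
    rw [hr]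
    calc a' * (a' * x * a'⁻¹) * a'⁻¹ = (a' * a') * x * (a' * a')⁻¹ := by group
      _ = x := by rw [haa']; group
  have h2 : a' * x ^ (1 + r) * a'⁻¹ = x ^ (1 + r) := by
    have h3 : a' * x ^ (1 + r) * a'⁻¹ = (a' * x * a'⁻¹) * (a' * x ^ r * a'⁻¹) := by
      rw [zpow_add, zpow_one]; group
    rw [h3, h1, ← hr, ← zpow_add_one, add_comm]
  have h4 : x ^ (2 * (1 + r)) = 1 := by
    have h5 : x ^ (1 + r) ∈ A := by
      rw [hA, mem_centralizer_singleton_iff]
      exact (mul_inv_eq_iff_eq_mul.1 h2).symm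
    have h6 : ∀ y ∈ A, y * y = 1 := by
      intro y hy
      have hy' : y ∈ (A : Set ↥R) := hy
      rw [hAset] at hy'
      simp only [Set.mem_insert_iff, Set.mem_singleton_iff] at hy'
      have hcc' : c' * c' = 1 := by rw [hc']; exact Subtype.ext hcc
      have hac' : c' * a' = a' * c' := by rw [hc', ha']; exact Subtype.ext hcac
      rcases hy' with rfl | rfl | rfl | rfl
      · exact mul_one 1
      · exact haa'
      · exact hcc'
      · calc a' * c' * (a' * c') = a' * (c' * a') * c' := by group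
          _ = a' * (a' * c') * c' := by rw [hac']
          _ = (a' * a') * (c' * c') := by group
          _ = 1 := by rw [haa', hcc', one_mul]
    rw [mul_comm, zpow_mul, zpow_two]
    exact h6 _ h5
  have h5 : ((2 : ℤ) ^ (m + 3)) ∣ 2 * (1 + r) := by
    have := orderOf_dvd_iff_zpow_eq_one.mpr h4
    rw [hxord] at this
    exact_mod_cast this
  have h6 : (2 : ℤ) ^ (m + 2) ∣ 1 + r := by
    obtain ⟨e, he⟩ := h5
    refine ⟨e, ?_⟩
    have : (2 : ℤ) ^ (m + 3) = 2 * 2 ^ (m + 2) := by ring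
    rw [this] at he
    linarith only [he]
  refine ⟨x, r, m, ha, x.2, haa, by rw [Subgroup.orderOf_coe]; exact hxord, ?_, h6, ?_⟩
  · have := congrArg Subtype.val hr
    rw [ha'] at this
    simpa only [_root_.Subgroup.coe_mul, _root_.InvMemClass.coe_inv, _root_.SubgroupClass.coe_zpow] using this.symm
  · intro y hy
    by_cases hyC : (⟨y, hy⟩ : ↥R) ∈ C
    · left
      rw [hCx] at hyC
      obtain ⟨k, hk⟩ := mem_zpowers_iff.1 hyC
      refine ⟨k, ?_⟩
      have := congrArg Subtype.val hk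
      simpa using this.symm
    · right
      have h7 : a'⁻¹ * ⟨y, hy⟩ ∈ C := by
        rw [mul_mem_iff_of_index_two hCidx]
        simp only [inv_mem_iff]
        exact ⟨fun h => absurd h haC, fun h => absurd h hyC⟩
      rw [hCx] at h7
      obtain ⟨k, hk⟩ := mem_zpowers_iff.1 h7
      refine ⟨k, ?_⟩
      have h8 := congrArg Subtype.val (eq_inv_mul_iff_mul_eq.1 hk)
      rw [ha'] at h8
      simpa using h8.symm

section

variable {R : Subgroup G} {a x : G} {r : ℤ} {m : ℕ}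

theorem MaxC.two_dvd (M : MaxC R a x r m) : x ^ (2 * (1 + r)) = 1 := by
  rw [← orderOf_dvd_iff_zpow_eq_one, M.ord]
  obtain ⟨e, he⟩ := M.r4
  refine ⟨e, ?_⟩
  push_cast
  rw [he]; ring

/-- `y x y⁻¹ = x ^ r` for `y ∈ R` outside `⟨x⟩` -/
theorem MaxC.act_out (M : MaxC R a x r m) (k : ℤ) : (a * x ^ k) * x * (a * x ^ k)⁻¹ = x ^ r := by
  rw [← M.act]
  have : x ^ k * x * (x ^ k)⁻¹ = x := by
    rw [(Commute.refl x).zpow_left k |>.eq, mul_inv_cancel_right]
  calc (a * x ^ k) * x * (a * x ^ k)⁻¹ = a * (x ^ k * x * (x ^ k)⁻¹) * a⁻¹ := by group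
    _ = _ := by rw [this]

theorem conj_zpow_exp {u x : G} {k : ℤ} (h : u * x * u⁻¹ = x ^ k) (i : ℤ) :
    u * x ^ i * u⁻¹ = x ^ (k * i) := by
  rw [zpow_mul, ← h, conj_zpow]

theorem MaxC.pow_out (M : MaxC R a x r m) (k : ℤ) : (a * x ^ k) ^ 4 = 1 := by
  have hai : a⁻¹ = a := inv_eq_of_mul_eq_one_left M.aa
  have h1 : a * x ^ k * a = x ^ (r * k) := by
    have := conj_zpow_exp M.act k
    rwa [hai] at this
  have h2 : (a * x ^ k) ^ 2 = x ^ ((1 + r) * k) := by
    calc (a * x ^ k) ^ 2 = (a * x ^ k * a) * x ^ k := by rw [pow_two]; group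
      _ = x ^ (r * k) * x ^ k := by rw [h1]
      _ = x ^ ((1 + r) * k) := by rw [← zpow_add]; congr 1; ring
  calc (a * x ^ k) ^ 4 = ((a * x ^ k) ^ 2) ^ 2 := by rw [← pow_mul]
    _ = (x ^ ((1 + r) * k)) ^ 2 := by rw [h2]
    _ = (x ^ (2 * (1 + r))) ^ k := by
        rw [← zpow_natCast, ← zpow_mul, ← zpow_mul]; congr 1; push_cast; ring
    _ = 1 := by rw [M.two_dvd, one_zpow]

theorem MaxC.x4 (M : MaxC R a x r m) : x ^ 4 ≠ 1 := by
  intro h
  have h1 := orderOf_dvd_of_pow_eq_one h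
  rw [M.ord] at h1
  have h2 := Nat.le_of_dvd (by norm_num) h1
  have h3 : 8 ≤ 2 ^ (m + 3) := by
    calc 8 = 2 ^ 3 := by norm_num
      _ ≤ 2 ^ (m + 3) := Nat.pow_le_pow_right (by norm_num) (by omega)
  omega

theorem MaxC.r_mod (M : MaxC R a x r m) : (4 : ℤ) ∣ 1 + r := by
  refine dvd_trans ?_ M.r4
  exact ⟨2 ^ m, by ring⟩

theorem MaxC.dvd_of_zpow (M : MaxC R a x r m) {k : ℤ} (h : x ^ k = 1) : (8 : ℤ) ∣ k := by
  have h1 := orderOf_dvd_iff_zpow_eq_one.mpr h
  rw [M.ord] at h1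
  refine dvd_trans ?_ h1
  exact ⟨2 ^ m, by push_cast; ring⟩

/-- `T ≤ N(R)` normalizes `⟨x⟩` -/
theorem MaxC.norm (M : MaxC R a x r m) {t : G} (ht : ∀ y ∈ R, t * y * t⁻¹ ∈ R) :
    ∃ k : ℤ, t * x * t⁻¹ = x ^ k := by
  rcases M.cov _ (ht x M.xR) with h | ⟨k, hk⟩
  · exact h
  · exfalso
    apply M.x4
    have h1 : (t * x * t⁻¹) ^ 4 = 1 := by rw [hk, M.pow_out]
    rw [conj_pow] at h1
    have h2 : t * x ^ 4 = t := by
      calc t * x ^ 4 = (t * x ^ 4 * t⁻¹) * t := by group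
        _ = t := by rw [h1, one_mul]
    exact mul_eq_left.1 h2

/-- fourth powers lie in `⟨x⟩` -/
theorem MaxC.pow_four (M : MaxC R a x r m) {t : G} (ht : ∀ y ∈ R, t * y * t⁻¹ ∈ R) (h4 : t ^ 4 ∈ R) :
    ∃ k : ℤ, t ^ 4 = x ^ k := by
  rcases M.cov _ h4 with h | ⟨j, hj⟩
  · exact h
  · exfalso
    obtain ⟨k, hk⟩ := M.norm ht
    have e : ∀ n : ℕ, t ^ n * x * (t ^ n)⁻¹ = x ^ (k ^ n) := by
      intro n
      induction n with
      | zero => simp
      | succ n ih =>
        calc t ^ (n + 1) * x * (t ^ (n + 1))⁻¹ = t * (t ^ n * x * (t ^ n)⁻¹) * t⁻¹ := by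
              rw [pow_succ']; group
          _ = t * x ^ (k ^ n) * t⁻¹ := by rw [ih]
          _ = x ^ (k * k ^ n) := conj_zpow_exp hk _
          _ = x ^ (k ^ (n + 1)) := by rw [pow_succ']
    have h1 := e 4
    rw [hj, M.act_out] at h1
    have h2 : x ^ (k ^ 4 - r) = 1 := by rw [zpow_sub, ← h1, mul_inv_cancel]
    have h3 := M.dvd_of_zpow h2
    have h5 := M.r_mod
    have h6 : (4 : ℤ) ∣ k ^ 4 + 1 := by
      have h7 : (4 : ℤ) ∣ k ^ 4 - r := dvd_trans ⟨2, by norm_num⟩ h3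
      have h8 := dvd_add h7 h5
      have h9 : k ^ 4 - r + (1 + r) = k ^ 4 + 1 := by ring
      rwa [h9] at h8
    have h7 : k ^ 4 % 4 = 0 ∨ k ^ 4 % 4 = 1 := by
      have h8 : k % 4 = 0 ∨ k % 4 = 1 ∨ k % 4 = 2 ∨ k % 4 = 3 := by omega
      rcases h8 with h8 | h8 | h8 | h8 <;> simp only [pow_succ, Int.mul_emod, h8, _root_.pow_zero, _root_.one_mul, _root_.MulZeroClass.mul_zero, _root_.EuclideanDomain.zero_mod, _root_.zero_ne_one, _root_.or_false, _root_.mul_one, _root_.Int.reduceMod, _root_.one_ne_zero, _root_.or_true, _root_.Int.reduceMul, _root_.EuclideanDomain.mod_self, _root_.MulZeroClass.zero_mul]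
    omega

/-- the involution of `⟨x⟩` -/
theorem MaxC.inv_eq (M : MaxC R a x r m) {y : G} (hy : ∃ k : ℤ, y = x ^ k) (hyy : y * y = 1) (hy1 : y ≠ 1) :
    y = x ^ (2 ^ (m + 2) : ℤ) := by
  obtain ⟨k, rfl⟩ := hy
  rw [← zpow_add] at hyy
  have h1 := orderOf_dvd_iff_zpow_eq_one.mpr hyy
  rw [M.ord] at h1
  have h2 : ((2 : ℤ) ^ (m + 2)) ∣ k := by
    obtain ⟨c, hc⟩ := h1
    refine ⟨c, ?_⟩
    have : ((2 ^ (m + 3) : ℕ) : ℤ) = 2 * 2 ^ (m + 2) := by push_cast; ring
    rw [this] at hc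
    linarith
  obtain ⟨c, rfl⟩ := h2
  rcases Int.even_or_odd c with ⟨d, hd⟩ | ⟨d, hd⟩
  · exfalso
    apply hy1
    rw [← orderOf_dvd_iff_zpow_eq_one, M.ord, hd]
    push_cast
    exact ⟨d, by ring⟩
  · rw [zpow_eq_zpow_iff_modEq, M.ord, hd]
    push_cast
    exact (Int.modEq_iff_dvd.mpr ⟨-d, by ring⟩)

/-- `⟨x⟩` has index at most 2: `R` has sectional rank at most 2 -/
theorem MaxC.rank [Finite G] (M : MaxC R a x r m) : SectionalPRankLE 2 2 R := by
  obtain ⟨x', hx'⟩ : ∃ x' : ↥R, x' = ⟨x, M.xR⟩ := ⟨_, rfl⟩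
  have h1 : (zpowers x').index ≤ 2 ^ 1 := by
    rw [index_eq_card]
    have h2 : Function.Surjective (fun b : Bool => (QuotientGroup.mk (bif b then ⟨a, M.aR⟩ else 1) :
        ↥R ⧸ zpowers x')) := by
      intro q
      obtain ⟨⟨y, hy⟩, rfl⟩ := QuotientGroup.mk_surjective q
      rcases M.cov y hy with ⟨k, hk⟩ | ⟨k, hk⟩
      · refine ⟨false, ?_⟩
        change (QuotientGroup.mk (1 : ↥R) : ↥R ⧸ zpowers x') = _
        rw [QuotientGroup.eq, inv_one, one_mul, hx', mem_zpowers_iff]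
        exact ⟨k, Subtype.ext (by simp [hk])⟩
      · refine ⟨true, ?_⟩
        change (QuotientGroup.mk (⟨a, M.aR⟩ : ↥R) : ↥R ⧸ zpowers x') = _
        rw [QuotientGroup.eq, hx', mem_zpowers_iff]
        exact ⟨k, Subtype.ext (by simp only [hk, _root_.SubgroupClass.coe_zpow, _root_.Subgroup.coe_mul, _root_.InvMemClass.coe_inv, _root_.inv_mul_cancel_left])⟩
    have h3 := Nat.card_le_card_of_surjective _ h2
    have h4 : Nat.card Bool = 2 := by simp
    rw [h4] at h3
    simpa only [_root_.pow_one, _root_.ge_iff_le] using h3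
  have h2 := sectionalPRankLE_of_cyclic (p := 2) (k := 1) (by norm_num) (zpowers x') h1
  exact h2

end

/-- `(p r) ^ n ∈ p ^ n R` -/
theorem mul_pow_mem {R : Subgroup G} {p r : G} (hp : ∀ y ∈ R, p⁻¹ * y * p ∈ R) (hr : r ∈ R) (n : ℕ) :
    ∃ s ∈ R, (p * r) ^ n = p ^ n * s := by
  have h1 : ∀ n : ℕ, ∀ y ∈ R, (p ^ n)⁻¹ * y * p ^ n ∈ R := by
    intro n
    induction n with
    | zero => intro y hy; simpa using hy
    | succ n ih =>
      intro y hy
      have h2 := ih _ (hp y hy)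
      have h3 : (p ^ (n + 1))⁻¹ * y * p ^ (n + 1) = (p ^ n)⁻¹ * (p⁻¹ * y * p) * p ^ n := by
        rw [pow_succ']; group
      rw [h3]; exact h2
  induction n with
  | zero => exact ⟨1, R.one_mem, by simp⟩
  | succ n ih =>
    obtain ⟨s, hs, h2⟩ := ih
    refine ⟨(p⁻¹ * s * p) * r, R.mul_mem (hp s hs) hr, ?_⟩
    rw [pow_succ, h2, pow_succ]
    group

/-- the rank of `T = P R` -/
theorem rank_ext [Finite G] {T P R : Subgroup G} (hRT : R ≤ T) (hn : ∀ t ∈ T, ∀ y ∈ R, t * y * t⁻¹ ∈ R)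
    (hPT : P ≤ T) (hsup : ∀ t ∈ T, ∃ p ∈ P, ∃ y ∈ R, t = p * y) {i j : ℕ} (hR : SectionalPRankLE 2 i R)
    (hP : SectionalPRankLE 2 j P) : SectionalPRankLE 2 (i + j) T := by
  have hnor : (R.subgroupOf T).Normal := ⟨fun y hy t => hn t t.2 y hy⟩
  refine GH.Rank.of_normal (R.subgroupOf T) ?_ ?_
  · exact GH.Rank.of_equiv hR (subgroupOfEquivOfLe hRT).symm
  · refine GH.Rank.of_surjective hP
      ((QuotientGroup.mk' (R.subgroupOf T)).comp (inclusion hPT)) ?_
    intro q
    obtain ⟨⟨t, ht⟩, rfl⟩ := QuotientGroup.mk_surjective q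
    obtain ⟨p, hp, y, hy, rfl⟩ := hsup t ht
    refine ⟨⟨p, hp⟩, ?_⟩
    change (QuotientGroup.mk (⟨p, hPT hp⟩ : ↥T) : ↥T ⧸ R.subgroupOf T) = _
    rw [QuotientGroup.eq, mem_subgroupOf]
    change p⁻¹ * (p * y) ∈ R
    rw [inv_mul_cancel_left]
    exact hy

/-- **`T = P R ∈ Syl₂(C(c))`, `R` normal of maximal class of order at least 16: sectional rank at most 4.** -/
theorem rank_of_max [Finite G] {T P R : Subgroup G} {a c : G} (hT : IsSyl (centralizer ({c} : Set G)) T)
    (hRT : R ≤ T) (hn : ∀ t ∈ T, ∀ y ∈ R, t * y * t⁻¹ ∈ R) (hPT : P ≤ T)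
    (hsup : ∀ t ∈ T, ∃ p ∈ P, ∃ y ∈ R, t = p * y) (hP4 : ∀ p ∈ P, p ^ 4 ∈ R)
    (hP : SectionalPRankLE 2 2 P) (ha : a ∈ R) (haa : a * a = 1) (ha1 : a ≠ 1) (hc : c ∈ R)
    (hcc : c * c = 1) (hc1 : c ≠ 1) (hca : c ≠ a)
    (hcen : ∀ r ∈ R, r * a = a * r → r = 1 ∨ r = a ∨ r = c ∨ r = a * c) (h8 : 8 < Nat.card R) :
    SectionalPRankLE 2 4 G := by
  have : Fact (Nat.Prime 2) := ⟨Nat.prime_two⟩
  have hcT : ∀ t ∈ T, c * t = t * c := fun t ht => (mem_centralizer_singleton_iff.1 (hT.le ht)).symm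
  have hR2 : IsPGroup 2 ↥R := hT.two.to_le hRT
  obtain ⟨x, r, m, M⟩ := exists_maxC hR2 ha haa ha1 hc hcc hc1 hca (hcT a (hRT ha)) hcen h8
  have h4 : ∀ t ∈ T, t ^ 4 ∈ R := by
    intro t ht
    obtain ⟨p, hp, y, hy, rfl⟩ := hsup t ht
    obtain ⟨s, hs, h1⟩ := mul_pow_mem (R := R) (p := p) (r := y) (fun w hw => by
      have := hn p⁻¹ (T.inv_mem (hPT hp)) w hw
      rwa [inv_inv] at this) hy 4
    rw [h1]
    exact R.mul_mem (hP4 p hp) hs
  -- `c ∈ ⟨x⟩`
  have hcx : ∃ k : ℤ, c = x ^ k := by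
    rcases M.cov c hc with h | ⟨k, hk⟩
    · exact h
    · exfalso
      have h1 := M.act_out k
      rw [← hk, hcT x (hRT M.xR), mul_inv_cancel_right] at h1
      have h2 : x ^ (1 - r) = 1 := by rw [zpow_sub, zpow_one, ← h1, mul_inv_cancel]
      have h3 := M.dvd_of_zpow h2
      have h5 := M.r_mod
      omega
  have hc' := M.inv_eq hcx hcc hc1
  have hfix : ∀ g : G, (∀ t ∈ T, g * t * g⁻¹ ∈ T) → g * c * g⁻¹ = c := by
    intro g hg
    obtain ⟨y, hy⟩ : ∃ y, y = x ^ (2 ^ m : ℤ) := ⟨_, rfl⟩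
    have hyT : y ∈ T := hy ▸ hRT (R.zpow_mem M.xR _)
    have hyc : y ^ 4 = c := by
      rw [hc', hy, ← zpow_natCast, ← zpow_mul]
      congr 1
      push_cast
      ring
    have h1 : (g * y * g⁻¹) ^ 4 = g * c * g⁻¹ := by rw [conj_pow, hyc]
    have h2 := M.pow_four (t := g * y * g⁻¹) (hn _ (hg y hyT)) (h4 _ (hg y hyT))
    rw [h1] at h2
    rw [hc']
    rw [hc'] at h2
    refine M.inv_eq h2 ?_ ?_
    · rw [← hc']
      calc g * c * g⁻¹ * (g * c * g⁻¹) = g * (c * c) * g⁻¹ := by group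
        _ = 1 := by rw [hcc]; group
    · rw [← hc']
      intro h5
      apply hc1
      have h6 : g * c = g := by
        calc g * c = (g * c * g⁻¹) * g := by group
          _ = g := by rw [h5, one_mul]
      exact mul_eq_left.1 h6
  obtain ⟨S, hTS⟩ := exists_sylow_ge hT.two
  apply sectionalPRankLE_of_sylow S
  rw [sylow_of_fix hT hfix S hTS]
  exact rank_ext hRT hn hPT hsup M.rank hP

/-- **Lemma D3**: `T = P × R ∈ Syl₂(C(c))`, `P` nonabelian of order 8, `|C_R(a)| = 4`, `R` nonabelian. -/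
theorem rank_of_D3 [Finite G] {T P R : Subgroup G} {z a c : G} (hT : IsSyl (centralizer ({c} : Set G)) T)
    (hP : EightS P z) (h : TwoP T P R) (ha : a ∈ R) (haa : a * a = 1) (ha1 : a ≠ 1) (hc : c ∈ R)
    (hcc : c * c = 1) (hc1 : c ≠ 1) (hca : c ≠ a)
    (hcen : ∀ r ∈ R, r * a = a * r → r = 1 ∨ r = a ∨ r = c ∨ r = a * c) (hna : ∃ r ∈ R, r * a ≠ a * r) :
    SectionalPRankLE 2 4 G := by
  have : Fact (Nat.Prime 2) := ⟨Nat.prime_two⟩
  have hcT : ∀ t ∈ T, c * t = t * c := fun t ht => (mem_centralizer_singleton_iff.1 (hT.le ht)).symm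
  by_cases h8 : 8 < Nat.card R
  · refine rank_of_max hT h.RT ?_ h.PT h.sup ?_ hP.rank ha haa ha1 hc hcc hc1 hca hcen h8
    · intro t ht y hy
      obtain ⟨p, hp, r, hr, rfl⟩ := h.sup t ht
      have h1 : p * r * y * (p * r)⁻¹ = p * (r * y * r⁻¹) * p⁻¹ := by group
      rw [h1, h.comm p hp _ (R.mul_mem (R.mul_mem hr hy) (R.inv_mem hr)), mul_inv_cancel_right]
      exact R.mul_mem (R.mul_mem hr hy) (R.inv_mem hr)
    · intro p hp
      have h1 : p ^ 4 = (p * p) * (p * p) := by rw [pow_succ, pow_succ, pow_two]; group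
      rw [h1]
      rcases hP.pow p hp with h2 | h2
      · rw [h2, one_mul]; exact R.one_mem
      · rw [h2, hP.sq]; exact R.one_mem
  · obtain ⟨r, hr, hra⟩ := hna
    have hcard : Nat.card R = 8 := by
      obtain ⟨n, hn⟩ := IsPGroup.iff_card.mp (hT.two.to_le h.RT)
      have h1 : n ≤ 3 := by
        by_contra hlt
        apply h8
        rw [hn]
        calc 8 < 2 ^ 4 := by norm_num
          _ ≤ 2 ^ n := Nat.pow_le_pow_right (by norm_num) (by omega)
      have h2 : n ≠ 0 ∧ n ≠ 1 ∧ n ≠ 2 := by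
        have key : ∀ k, k ≤ 2 → n ≠ k := by
          intro k hk hnk
          apply hra
          have h3 : IsMulCommutative ↥R := by
            rw [hnk] at hn
            interval_cases k
            · have : Subsingleton ↥R := (Nat.card_eq_one_iff_unique.1 (by simpa only [_root_.Subgroup.card_eq_one, _root_.pow_zero] using hn)).1
              exact ⟨⟨fun u v => Subsingleton.elim _ _⟩⟩
            · have hcy : IsCyclic ↥R := isCyclic_of_prime_card (p := 2) (by simpa only [_root_.pow_one] using hn)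
              exact hcy.isMulCommutative
            · exact IsPGroup.isMulCommutative_of_card_eq_prime_sq hn
          exact congrArg Subtype.val (h3.is_comm.comm (⟨r, hr⟩ : ↥R) ⟨a, ha⟩)
        exact ⟨key 0 (by norm_num), key 1 (by norm_num), key 2 (by norm_num)⟩
      have h3 : n = 3 := by omega
      rw [hn, h3]; norm_num
    obtain ⟨c', hR⟩ := exists_eightS hcard ⟨r, hr, a, ha, hra⟩
    have h1 : c = c' := by
      rcases hR.cen' c hc (fun q hq => hcT q (h.RT hq)) with h2 | h2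
      · exact absurd h2 hc1
      · exact h2
    rw [← h1] at hR
    exact rank_of_eight hP hR h hT

end Cfsg.Agent.UGT.A7
end

-- part: UGT/A7/RankEnds
section
/-!
# Lemma D, the abelian cases
-/

set_option autoImplicit false
set_option linter.unusedSectionVars false

namespace Cfsg.Agent.UGT.A7

open Subgroup Cfsg Cfsg.Agent.TwoFusion.SectionalRank
open Cfsg.Agent.UGT.TriBase

variable {G : Type*} [Group G] [Finite G] {T P R : Subgroup G} {z c : G}

/-- `T ∈ Syl₂(C(c))` with a self-centralizing `E₈` containing `c`. -/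
theorem rank_of_E8 {E : Subgroup G} (hT : IsSyl (centralizer ({c} : Set G)) T) (hE : E ≤ T) (hcE : c ∈ E)
    (hE8 : Nat.card E = 8) (hE2 : ∀ e ∈ E, e * e = 1) (hEc : ∀ t ∈ T, (∀ e ∈ E, t * e = e * t) → t ∈ E) :
    SectionalPRankLE 2 4 G := by
  have : Fact (Nat.Prime 2) := ⟨Nat.prime_two⟩
  obtain ⟨S, hTS⟩ := exists_sylow_ge hT.two
  apply sectionalPRankLE_of_sylow S
  have hES : E ≤ (S : Subgroup G) := hE.trans hTS
  have hcomm : ∀ e ∈ E, ∀ f ∈ E, e * f = f * e := by
    intro e he f hf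
    have h1 := hE2 _ (E.mul_mem he hf)
    have h2 := hE2 e he
    have h3 := hE2 f hf
    have h4 : e⁻¹ = e := inv_eq_of_mul_eq_one_left h2
    have h5 : f⁻¹ = f := inv_eq_of_mul_eq_one_left h3
    have h6 : (e * f)⁻¹ = e * f := inv_eq_of_mul_eq_one_left h1
    rw [mul_inv_rev, h4, h5] at h6
    exact h6.symm
  refine S1232.result S.isPGroup' (E.subgroupOf S) ⟨⟨⟨?_⟩⟩, ?_⟩ ?_ ?_
  · rintro ⟨⟨e, he⟩, he'⟩ ⟨⟨f, hf⟩, hf'⟩
    apply Subtype.ext
    apply Subtype.ext
    exact hcomm e he' f hf'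
  · rintro ⟨e, he⟩ he'
    rw [pow_two]
    exact Subtype.ext (hE2 e he')
  · rw [Nat.card_congr (subgroupOfEquivOfLe hES).toEquiv, hE8]
  · apply le_antisymm
    · rintro ⟨s, hs⟩ hs'
      rw [mem_centralizer_iff] at hs'
      have h1 : ∀ e ∈ E, s * e = e * s := fun e he =>
        (congrArg Subtype.val (hs' ⟨e, hES he⟩ he)).symm
      refine hEc s ?_ h1
      refine mem_of_fix hT S.isPGroup' hTS hs ?_
      rw [mem_centralizer_singleton_iff]
      exact h1 c hcE
    · rintro ⟨e, he⟩ he'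
      rw [mem_centralizer_iff]
      rintro ⟨f, hf⟩ hf'
      exact Subtype.ext (hcomm f hf' e he')

/-- **Lemma D1**: `T = P × ⟨c⟩ ∈ Syl₂(C(c))`, `P` of order 8 with an involution `v ≠ z`. -/
theorem rank_of_D1 (hT : IsSyl (centralizer ({c} : Set G)) T) (hP : EightS P z) (h : TwoP T P R)
    (hR : ∀ r ∈ R, r = 1 ∨ r = c) (hc : c ∈ R) (hcc : c * c = 1) (hc1 : c ≠ 1) {v : G} (hv : v ∈ P)
    (hvv : v * v = 1) (hv1 : v ≠ 1) (hvz : v ≠ z) : SectionalPRankLE 2 4 G := by
  have hcT : ∀ t ∈ T, c * t = t * c := fun t ht => (mem_centralizer_singleton_iff.1 (hT.le ht)).symm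
  obtain ⟨w, hw, hvw⟩ : ∃ w ∈ P, v * w ≠ w * v := by
    by_contra hcon
    push Not at hcon
    rcases hP.cen' v hv hcon with h1 | h1
    · exact hv1 h1
    · exact hvz h1
  -- `C_P(v) = {1, v, z, v z}`
  obtain ⟨V, hV⟩ : ∃ V : Subgroup G, V = P ⊓ centralizer ({v} : Set G) := ⟨_, rfl⟩
  have hVP : V ≤ P := hV ▸ inf_le_left
  have hVset : (V : Set G) = {1, v, z, v * z} := by
    symm
    apply Set.eq_of_subset_of_ncard_le
    · intro t ht
      simp only [Set.mem_insert_iff, Set.mem_singleton_iff] at ht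
      rw [SetLike.mem_coe, hV, mem_inf, mem_centralizer_singleton_iff]
      rcases ht with rfl | rfl | rfl | rfl
      · exact ⟨P.one_mem, by rw [one_mul, mul_one]⟩
      · exact ⟨hv, rfl⟩
      · exact ⟨hP.mem, hP.cen v hv⟩
      · exact ⟨P.mul_mem hv hP.mem, by rw [mul_assoc, hP.cen v hv]⟩
    · have h1 : (V : Set G).ncard = Nat.card V := rfl
      rw [h1]
      have h2 := card_cases hP.card hVP
      have h3 : Nat.card V ≠ 8 := by
        intro h8
        have h4 : V = P := eq_of_le_of_card_ge hVP (by rw [hP.card, h8])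
        have h5 : w ∈ V := h4 ▸ hw
        rw [hV, mem_inf, mem_centralizer_singleton_iff] at h5
        exact hvw h5.2.symm
      have h4 : v * z ≠ 1 := fun h5 => hvz (by
        rw [eq_inv_of_mul_eq_one_left h5, inv_eq_of_mul_eq_one_right hP.sq])
      have h5 : v * z ≠ v := fun h6 => hP.ne (mul_eq_left.1 h6)
      have h6 : v * z ≠ z := fun h6 => hv1 (mul_eq_right.1 h6)
      rw [Set.ncard_insert_of_notMem, Set.ncard_insert_of_notMem, Set.ncard_insert_of_notMem,
        Set.ncard_singleton]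
      · omega
      · simpa using h6.symm
      · simp only [Set.mem_insert_iff, Set.mem_singleton_iff, not_or]
        exact ⟨hvz, h5.symm⟩
      · simp only [Set.mem_insert_iff, Set.mem_singleton_iff, not_or]
        exact ⟨hv1.symm, hP.ne.symm, h4.symm⟩
    · exact Set.toFinite _
  have hVin : ∀ t ∈ P, t * v = v * t → t ∈ V := fun t ht h1 => by
    rw [hV, mem_inf, mem_centralizer_singleton_iff]
    exact ⟨ht, h1⟩
  have hV2 : ∀ e ∈ V, e * e = 1 := by
    intro e he
    have he' : e ∈ (V : Set G) := he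
    rw [hVset] at he'
    simp only [Set.mem_insert_iff, Set.mem_singleton_iff] at he'
    rcases he' with rfl | rfl | rfl | rfl
    · exact mul_one 1
    · exact hvv
    · exact hP.sq
    · calc v * z * (v * z) = v * (z * v) * z := by group
        _ = v * (v * z) * z := by rw [hP.cen v hv]
        _ = (v * v) * (z * z) := by group
        _ = 1 := by rw [hvv, hP.sq, one_mul]
  have hV4 : Nat.card V = 4 := by
    have h1 : (V : Set G).ncard = Nat.card V := rfl
    have h2 := card_cases hP.card hVP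
    have h3 : Nat.card V ≠ 8 := by
      intro h8
      have h4 : V = P := eq_of_le_of_card_ge hVP (by rw [hP.card, h8])
      have h5 : w ∈ V := h4 ▸ hw
      rw [hV, mem_inf, mem_centralizer_singleton_iff] at h5
      exact hvw h5.2.symm
    have h4 : v * z ≠ 1 := fun h5 => hvz (by
      rw [eq_inv_of_mul_eq_one_left h5, inv_eq_of_mul_eq_one_right hP.sq])
    have h5 : v * z ≠ v := fun h6 => hP.ne (mul_eq_left.1 h6)
    have h6 : v * z ≠ z := fun h6 => hv1 (mul_eq_right.1 h6)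
    rw [hVset, Set.ncard_insert_of_notMem, Set.ncard_insert_of_notMem, Set.ncard_insert_of_notMem,
      Set.ncard_singleton] at h1
    · exact h1.symm
    · simpa using h6.symm
    · simp only [Set.mem_insert_iff, Set.mem_singleton_iff, not_or]
      exact ⟨hvz, h5.symm⟩
    · simp only [Set.mem_insert_iff, Set.mem_singleton_iff, not_or]
      exact ⟨hv1.symm, hP.ne.symm, h4.symm⟩
  -- `E = V × R`
  have hVcomm : ∀ e ∈ V, ∀ f ∈ V, e * f = f * e := by
    intro e he f hf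
    have h1 := hV2 _ (V.mul_mem he hf)
    have h4 : e⁻¹ = e := inv_eq_of_mul_eq_one_left (hV2 e he)
    have h5 : f⁻¹ = f := inv_eq_of_mul_eq_one_left (hV2 f hf)
    have h6 : (e * f)⁻¹ = e * f := inv_eq_of_mul_eq_one_left h1
    rw [mul_inv_rev, h4, h5] at h6
    exact h6.symm
  have hRcomm : ∀ e ∈ R, ∀ t ∈ T, e * t = t * e := by
    intro e he t ht
    rcases hR e he with rfl | rfl
    · rw [one_mul, mul_one]
    · exact hcT t ht
  obtain ⟨E, hE⟩ : ∃ E : Subgroup G, ∀ g, g ∈ E ↔ ∃ e ∈ V, ∃ r ∈ R, g = e * r := by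
    refine ⟨{ carrier := {g | ∃ e ∈ V, ∃ r ∈ R, g = e * r}
              mul_mem' := ?_
              one_mem' := ⟨1, V.one_mem, 1, R.one_mem, (mul_one 1).symm⟩
              inv_mem' := ?_ }, fun g => Iff.rfl⟩
    · rintro _ _ ⟨e, he, r, hr, rfl⟩ ⟨f, hf, s, hs, rfl⟩
      refine ⟨e * f, V.mul_mem he hf, r * s, R.mul_mem hr hs, ?_⟩
      have h1 := hRcomm r hr f (h.PT (hVP hf))
      calc e * r * (f * s) = e * (r * f) * s := by group
        _ = e * (f * r) * s := by rw [h1]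
        _ = _ := by group
    · rintro _ ⟨e, he, r, hr, rfl⟩
      refine ⟨e⁻¹, V.inv_mem he, r⁻¹, R.inv_mem hr, ?_⟩
      rw [mul_inv_rev]
      exact hRcomm r⁻¹ (R.inv_mem hr) e⁻¹ (h.PT (hVP (V.inv_mem he)))
  have hTwo : TwoP E V R :=
    { PT := fun e he => (hE e).2 ⟨e, he, 1, R.one_mem, (mul_one e).symm⟩
      RT := fun r hr => (hE r).2 ⟨1, V.one_mem, r, hr, (one_mul r).symm⟩
      sup := fun t ht => (hE t).1 ht
      comm := fun e he r hr => h.comm e (hVP he) r hr
      inf := fun e he heR => h.inf e (hVP he) heR }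
  have hR2 : Nat.card R = 2 := by
    have h1 : (R : Set G).ncard = Nat.card R := rfl
    have h2 : (R : Set G) = {1, c} := by
      ext r
      simp only [Set.mem_insert_iff, Set.mem_singleton_iff]
      constructor
      · exact hR r
      · rintro (rfl | rfl)
        · exact R.one_mem
        · exact hc
    rw [h2, Set.ncard_pair hc1.symm] at h1
    exact h1.symm
  refine rank_of_E8 (E := E) hT ?_ (hTwo.RT hc) ?_ ?_ ?_
  · intro e he
    obtain ⟨f, hf, r, hr, rfl⟩ := (hE e).1 he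
    exact T.mul_mem (h.PT (hVP hf)) (h.RT hr)
  · rw [hTwo.card, hV4, hR2]
  · intro e he
    obtain ⟨f, hf, r, hr, rfl⟩ := (hE e).1 he
    have h1 := hRcomm r hr f (h.PT (hVP hf))
    have h2 : r * r = 1 := by
      rcases hR r hr with rfl | rfl
      · exact mul_one 1
      · exact hcc
    calc f * r * (f * r) = f * (r * f) * r := by group
      _ = f * (f * r) * r := by rw [h1]
      _ = (f * f) * (r * r) := by group
      _ = 1 := by rw [hV2 f hf, h2, one_mul]
  · intro t ht hte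
    obtain ⟨p, hp, r, hr, rfl⟩ := h.sup t ht
    refine (hE _).2 ⟨p, ?_, r, hr, rfl⟩
    apply hVin p hp
    have h1 := hte v (hTwo.PT (hVin v hv rfl))
    have h2 := hRcomm r hr v (h.PT hv)
    have h3 : p * v * r = v * p * r := by
      calc p * v * r = p * (v * r) := by group
        _ = p * (r * v) := by rw [h2]
        _ = p * r * v := by group
        _ = v * (p * r) := h1
        _ = _ := by group
    exact mul_right_cancel h3

/-- **Lemma D2**: `T = P × R ∈ Syl₂(C(c))`, `R` cyclic of order 4. -/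
theorem rank_of_D2 (hT : IsSyl (centralizer ({c} : Set G)) T) (hP : EightS P z) (h : TwoP T P R)
    (hR4 : Nat.card R = 4) (hR : ∀ r ∈ R, r * r = 1 ∨ r * r = c) (hc1 : c ≠ 1) {w : G} (hw : w ∈ R)
    (hwc : w * w = c) : SectionalPRankLE 2 4 G := by
  have : Fact (Nat.Prime 2) := ⟨Nat.prime_two⟩
  have hRc : ∀ r ∈ R, ∀ s ∈ R, r * s = s * r := by
    have h1 : Nat.card R = 2 ^ 2 := by rw [hR4]; norm_num
    have h2 := IsPGroup.isMulCommutative_of_card_eq_prime_sq (p := 2) h1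
    intro r hr s hs
    exact congrArg Subtype.val (h2.is_comm.comm (⟨r, hr⟩ : ↥R) ⟨s, hs⟩)
  have hwT : ∀ t ∈ T, w * t = t * w := by
    intro t ht
    obtain ⟨p, hp, r, hr, rfl⟩ := h.sup t ht
    calc w * (p * r) = (w * p) * r := by group
      _ = (p * w) * r := by rw [h.comm p hp w hw]
      _ = p * (w * r) := by group
      _ = p * (r * w) := by rw [hRc w hw r hr]
      _ = _ := by group
  have hfix : ∀ g : G, (∀ t ∈ T, g * t * g⁻¹ ∈ T) → g * c * g⁻¹ = c := by
    intro g hg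
    have hgn : g ∈ normalizer (T : Set G) := mem_normalizer_fintype hg
    have h1 : ∀ t ∈ T, (g * w * g⁻¹) * t = t * (g * w * g⁻¹) := by
      intro t ht
      have h2 : g⁻¹ * t * g ∈ T := (mem_normalizer_iff''.1 hgn t).1 ht
      have h3 := hwT _ h2
      calc (g * w * g⁻¹) * t = g * (w * (g⁻¹ * t * g)) * g⁻¹ := by group
        _ = g * ((g⁻¹ * t * g) * w) * g⁻¹ := by rw [h3]
        _ = _ := by group
    obtain ⟨p, hp, r, hr, hpr⟩ := h.sup _ (hg w (h.RT hw))
    have h2 : p = 1 ∨ p = z := by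
      refine hP.cen' p hp fun q hq => ?_
      have h3 := h1 q (h.PT hq)
      rw [hpr] at h3
      have h4 : p * q * r = q * p * r := by
        calc p * q * r = p * (q * r) := by group
          _ = p * (r * q) := by rw [h.comm q hq r hr]
          _ = p * r * q := by group
          _ = q * (p * r) := h3
          _ = _ := by group
      exact mul_right_cancel h4
    have hpp : p * p = 1 := by
      rcases h2 with rfl | rfl
      · exact mul_one 1
      · exact hP.sq
    have h3 : g * c * g⁻¹ = r * r := by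
      calc g * c * g⁻¹ = (g * w * g⁻¹) * (g * w * g⁻¹) := by rw [← hwc]; group
        _ = (p * r) * (p * r) := by rw [hpr]
        _ = p * (r * p) * r := by group
        _ = p * (p * r) * r := by rw [h.comm p hp r hr]
        _ = (p * p) * (r * r) := by group
        _ = r * r := by rw [hpp, one_mul]
    rcases hR r hr with h4 | h4
    · exfalso
      apply hc1
      rw [h4] at h3
      have h6 : g * c = g := by
        calc g * c = (g * c * g⁻¹) * g := by group
          _ = g := by rw [h3, one_mul]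
      exact mul_eq_left.1 h6
    · rw [h3, h4]
  obtain ⟨S, hTS⟩ := exists_sylow_ge hT.two
  apply sectionalPRankLE_of_sylow S
  rw [sylow_of_fix hT hfix S hTS]
  exact h.rank (b := 2) hP.rank (sectionalPRankLE_of_card_le (by rw [hR4]; norm_num))

/-- the index of a maximal 2-subgroup is odd -/
theorem odd_relIndex_of_isSyl {E T : Subgroup G} (h : IsSyl E T) : Odd (T.relIndex E) := by
  have : Fact (Nat.Prime 2) := ⟨Nat.prime_two⟩
  obtain ⟨Q, hQ⟩ := h.exists_sylow
  have h1 : T.subgroupOf E = (Q : Subgroup ↥E) := by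
    rw [← hQ]
    exact comap_map_eq_self_of_injective E.subtype_injective _
  rw [relIndex, h1, ← Nat.not_even_iff_odd, even_iff_two_dvd]
  exact Q.not_dvd_index

/-- **`T = P × B`, `P` dihedral of order 8, `B` a four-group, `T ∈ Syl₂(C(b))` for `b ∈ B`, `b ≠ 1`.** -/
theorem rank_of_klein {B : Subgroup G} (h : TwoP T P B) (e : Nonempty (↥P ≃* DihedralGroup 4))
    (hB4 : Nat.card B = 4) (hB2 : ∀ b ∈ B, b * b = 1)
    (hT : ∀ b ∈ B, b ≠ 1 → IsSyl (centralizer ({b} : Set G)) T) : SectionalPRankLE 2 4 G := by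
  obtain ⟨b, hb, hb1⟩ : ∃ b ∈ B, b ≠ 1 := by
    by_contra hcon
    push Not at hcon
    have h1 : B = ⊥ := (eq_bot_iff_forall B).2 hcon
    rw [h1, card_bot] at hB4
    omega
  have hord : ∀ b ∈ B, b ≠ 1 → orderOf b = 2 := fun b hb hb1 =>
    orderOf_eq_prime (by rw [pow_two, hB2 b hb]) hb1
  have hTb := hT b hb hb1
  refine S1235.result b (hord b hb hb1) T P B hTb.two hTb.le (odd_relIndex_of_isSyl hTb) ?_
    (Or.inl ⟨4, by norm_num, e⟩) ?_ ?_
  · refine ⟨h.PT, h.RT, h.comm, ?_, ?_⟩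
    · rw [eq_bot_iff]
      intro p hp
      exact h.inf p hp.1 hp.2
    · apply le_antisymm (sup_le h.PT h.RT)
      intro t ht
      obtain ⟨p, hp, r, hr, rfl⟩ := h.sup t ht
      exact mul_mem (mem_sup_left hp) (mem_sup_right hr)
  · refine ⟨hB4, ?_⟩
    have hnt : Nontrivial ↥B := by
      rw [← Finite.one_lt_card_iff_nontrivial, hB4]; norm_num
    have h1 : Monoid.exponent ↥B ∣ 2 := by
      rw [Monoid.exponent_dvd_iff_forall_pow_eq_one]
      intro g
      rw [pow_two]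
      exact Subtype.ext (hB2 g g.2)
    rcases (Nat.dvd_prime Nat.prime_two).1 h1 with h2 | h2
    · exfalso
      have h3 := Monoid.exp_eq_one_iff.1 h2
      exact (not_subsingleton ↥B) h3
    · exact h2
  · intro b hb hb2
    have hb1 : b ≠ 1 := by
      rintro rfl
      rw [orderOf_one] at hb2
      omega
    exact ⟨(hT b hb hb1).le, odd_relIndex_of_isSyl (hT b hb hb1)⟩

end Cfsg.Agent.UGT.A7
end

private theorem dce_0fe53dfbd328 : _root_.True := by
  try have : _root_.True := by simp only [_root_.Cfsg.Agent.UGT.A7.w0.eq_1]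
  try have : _root_.True := by simp only [_root_.Cfsg.Agent.UGT.A7.W0.eq_1]
  try have : _root_.True := by simp only [_root_.Cfsg.Agent.UGT.A7.P0.eq_1]
  exact _root_.True.intro
end

-- part: OddHalf/NI/OmegaPlusRow
section
prune_inst 0xf0104300742200000018000020001e22b20000000008000120c000000dc98c00a00000203a30000010c600c420780068110800000210000000000000011c04810000000290480c00000000000004000000000000020000000000000000000000000000000
set_option linter.all false
open scoped Cfsg.Agent.FastGrp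

-- part: OddHalf/NI/FrameSU
section
/-!
# NODE NI, (T') for `N / Z(N) ≅ PSU_n(q)`: literal form, modulo closedness of `SU_n(q)`
-/

set_option autoImplicit false

namespace Cfsg.Agent.OddHalf.NI.FrameSU

open Subgroup Cfsg

universe u v

/-- **(T') for `N / Z(N) ≅ PSU_n(q)`**, `q > 3` odd, `n ≥ 3`, `SU_n(q)` without perfect central 2-extension. -/
theorem frame {N : Type u} [Group N] [Finite N] (hq : Cfsg.IsQuasisimple N) (h2 : IsPGroup 2 ↥(center N))
    {F : Type v} [Field F] [Fintype F] {q n : ℕ} (hF : Fintype.card F = q ^ 2) (hodd : Odd q) (h3 : 3 < q)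
    (hn : 3 ≤ n) (hcl : CoverOf.Closed2.{max u v, v} ↥(SU n F q)) (e : N ⧸ center N ≃* PSU n F q) {z : N}
    (hz : z ∈ center N) (h8 : Even8 z) : Nonempty (Frame N z) := by
  obtain ⟨φ, hs, hk⟩ := CoverOf.exists_cover hq.1.commutator_eq_top h2
    (Cfsg.Agent.LieClassical.HermPerfect.commutator_SU_eq_top hF hn (by omega)) hcl e
  exact SUBlocks.frame hF hodd h3 hn φ hs hk hz h8

end Cfsg.Agent.OddHalf.NI.FrameSU
end

-- part: OddHalf/NI/ExcTw
section
/-!
helper613: (T') for `²E₆(q)` and `³D₄(q)`, `q` odd: a quasisimple group `N` with `Z(N)` a 2-group and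
`N / Z(N) ≃ ²E₆(q)` or `³D₄(q)` has no central involution.
-/

set_option autoImplicit false
set_option linter.unusedSectionVars false
set_option maxHeartbeats 400000

namespace Cfsg.Agent.OddHalf.NI.ExcTw

open Cfsg.Agent.Nodes.BNOf Cfsg.Agent.Nodes.RGDTwGen Cfsg.Agent.Nodes.RGDChev Cfsg.Agent.Nodes.RGDFold
  Cfsg.Agent.Nodes.RGDFoldSL Cfsg.Agent.Nodes.RGDTwCoord Cfsg.Agent.OddHalf.NI.ModelTw
open Cfsg.Lie Cfsg.Agent.ChevalleyStructure Cfsg.Agent.ChevalleyStructure.Elts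
open Cfsg.Agent.ChevalleyStructure.TwE6Basic (sg exists_frob)
open Cfsg.Agent.ChevalleyStructure.GraphSymm
open Cfsg.Agent.ChevalleyStructure.D4Fixed (sig)
open Subgroup (center)

universe u v

/-! ### The kernel equations -/

theorem kerE6 {K : Type*} [Field K] (φ : K →+* K) {a b c d : K} (ha : φ a = a) (ha0 : a ≠ 0) (hd0 : d ≠ 0) (h0 : a ^ 2 = b) (h1 : b ^ 2 = a * (c * φ c)) (h2 : c ^ 2 = b * d)
    (h3 : d ^ 2 = c) : a ^ 3 = 1 ∧ b ^ 3 = 1 ∧ c ^ 3 = 1 ∧ d ^ 3 = 1 := by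
  have e1 : d ^ 3 = a ^ 2 := by
    apply mul_left_cancel₀ hd0
    rw [← h3, ← h0] at h2
    linear_combination h2
  have e2 : φ d ^ 3 = a ^ 2 := by rw [← map_pow, e1, map_pow, ha]
  have e3 : a ^ 3 = (d * φ d) ^ 2 := by
    apply mul_left_cancel₀ ha0
    have h4 : φ c = φ d ^ 2 := by rw [← map_pow, h3]
    rw [h4, ← h3, ← h0] at h1
    linear_combination h1
  have e4 : (d * φ d) ^ 3 = a ^ 4 := by rw [mul_pow, e1, e2]; ring
  have e5 : a = 1 := by
    have h5 : a ^ 9 = a ^ 8 := by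
      calc a ^ 9 = (a ^ 3) ^ 3 := by ring
        _ = ((d * φ d) ^ 3) ^ 2 := by rw [e3]; ring
        _ = a ^ 8 := by rw [e4]; ring
    apply mul_left_cancel₀ (pow_ne_zero 8 ha0)
    linear_combination h5
  subst e5
  rw [one_pow] at h0 e1
  subst h0
  refine ⟨one_pow 3, one_pow 3, ?_, e1⟩
  rw [← h3]
  calc (d ^ 2) ^ 3 = (d ^ 3) ^ 2 := by ring
    _ = 1 := by rw [e1, one_pow]

theorem kerD4 {K : Type*} [Field K] (φ : K →+* K) {a b : K} (ha : φ a = a) (ha0 : a ≠ 0)
    (h0 : a ^ 2 = b * (φ b * φ (φ b))) (h1 : b ^ 2 = a) : a = 1 ∧ b = 1 := by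
  have e2 : φ b ^ 2 = a := by rw [← map_pow, h1, ha]
  have e3 : φ (φ b) ^ 2 = a := by rw [← map_pow, e2, ha]
  have e5 : a = 1 := by
    have h5 : a ^ 4 = a ^ 3 := by
      calc a ^ 4 = (a ^ 2) ^ 2 := by ring
        _ = b ^ 2 * (φ b ^ 2 * φ (φ b) ^ 2) := by rw [h0]; ring
        _ = a ^ 3 := by rw [h1, e2, e3]; ring
    apply mul_left_cancel₀ (pow_ne_zero 3 ha0)
    linear_combination h5
  subst e5
  refine ⟨rfl, ?_⟩
  rcases mul_self_eq_one_iff.1 (show b * b = 1 by rw [← sq]; exact h1) with h | h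
  · exact h
  · subst h
    rw [map_neg, map_neg, map_one, map_one, one_pow] at h0
    linear_combination (-1 : K) * h0

/-! ### `²E₆(q)` -/

section E6

open Cfsg.Agent.Nodes.RGDTwE6

theorem cartan_tab : (chevE6.cartan 1 46 = 2 ∧ chevE6.cartan 3 46 = -1 ∧ chevE6.cartan 2 46 = 0 ∧
      chevE6.cartan 4 46 = 0 ∧ chevE6.cartan 0 46 = 0 ∧ chevE6.cartan 5 46 = 0) ∧
    (chevE6.cartan 1 39 = -1 ∧ chevE6.cartan 3 39 = 2 ∧ chevE6.cartan 2 39 = -1 ∧
      chevE6.cartan 4 39 = -1 ∧ chevE6.cartan 0 39 = 0 ∧ chevE6.cartan 5 39 = 0) ∧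
    (chevE6.cartan 1 42 = 0 ∧ chevE6.cartan 3 42 = -1 ∧ chevE6.cartan 2 42 = 2 ∧
      chevE6.cartan 4 42 = 0 ∧ chevE6.cartan 0 42 = -1 ∧ chevE6.cartan 5 42 = 0) ∧
    (chevE6.cartan 1 56 = 0 ∧ chevE6.cartan 3 56 = 0 ∧ chevE6.cartan 2 56 = -1 ∧
      chevE6.cartan 4 56 = 0 ∧ chevE6.cartan 0 56 = 2 ∧ chevE6.cartan 5 56 = 0) := by decide +kernel

theorem wt_prod {K : Type u} [Field K] (φ : K →+* K) (r : ℕ) (t : Fin 4 → K) :
    ∏ i, wt chevE6 φ (J i) r (t i) = t 0 ^ chevE6.cartan 1 r * t 1 ^ chevE6.cartan 3 r *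
      (t 2 ^ chevE6.cartan 2 r * φ (t 2) ^ chevE6.cartan 4 r) *
      (t 3 ^ chevE6.cartan 0 r * φ (t 3) ^ chevE6.cartan 5 r) := by
  rw [Fin.prod_univ_four]
  show (t 0 ^ chevE6.cartan 1 r * 1) * (t 1 ^ chevE6.cartan 3 r * 1) *
    (t 2 ^ chevE6.cartan 2 r * (φ (t 2) ^ chevE6.cartan 4 r * 1)) *
    (t 3 ^ chevE6.cartan 0 r * (φ (t 3) ^ chevE6.cartan 5 r * 1)) = _
  rw [mul_one, mul_one, mul_one, mul_one]

theorem ker_E6 {K : Type u} [Field K] [Fintype K] {q : ℕ} {φ : K →+* K} (hφ : ∀ x, φ x = x ^ q)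
    (hqq : ∀ t : K, (t ^ q) ^ q = t)
    {t : ∀ i, (Fx φ ((Nodes.RGDTwNode.E6.rest i).length + 1))ˣ}
    (ht : th (foldGrp hφ hqq) Nodes.RGDTwNode.E6.nodeOK (fun i s hs u => by
      rw [Nodes.RGDTwNode.E6.eps_one i s hs, Int.cast_one, one_mul]) t = 1) (i : Fin 4) : t i ^ 3 = 1 := by
  have h := fun (r : ℕ) (hr : r < chevE6.nroots) => th_scalar _ _ _ ht hr
  have h1 := h 46 (by decide +kernel)
  have h2 := h 39 (by decide +kernel)
  have h3 := h 42 (by decide +kernel)
  have h4 := h 56 (by decide +kernel)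
  obtain ⟨⟨a1, a2, a3, a4, a5, a6⟩, ⟨b1, b2, b3, b4, b5, b6⟩, ⟨c1, c2, c3, c4, c5, c6⟩, ⟨d1, d2, d3, d4, d5, d6⟩⟩ :=
    cartan_tab
  have hne : ∀ i, ((t i : Fx φ ((Nodes.RGDTwNode.E6.rest i).length + 1)) : K) ≠ 0 := fun i h =>
    (t i).ne_zero (Subtype.ext h)
  have hfix : φ ((t 0 : Fx φ ((Nodes.RGDTwNode.E6.rest 0).length + 1)) : K) =
      ((t 0 : Fx φ ((Nodes.RGDTwNode.E6.rest 0).length + 1)) : K) := mem_Fx.1 (t 0).1.2
  have w1 := wt_prod φ 46 fun i => ((t i : Fx φ ((Nodes.RGDTwNode.E6.rest i).length + 1)) : K)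
  have w2 := wt_prod φ 39 fun i => ((t i : Fx φ ((Nodes.RGDTwNode.E6.rest i).length + 1)) : K)
  have w3 := wt_prod φ 42 fun i => ((t i : Fx φ ((Nodes.RGDTwNode.E6.rest i).length + 1)) : K)
  have w4 := wt_prod φ 56 fun i => ((t i : Fx φ ((Nodes.RGDTwNode.E6.rest i).length + 1)) : K)
  rw [w1, a1, a2, a3, a4, a5, a6] at h1
  rw [w2, b1, b2, b3, b4, b5, b6] at h2
  rw [w3, c1, c2, c3, c4, c5, c6] at h3
  rw [w4, d1, d2, d3, d4, d5, d6] at h4
  have main : ∀ a b c d : K, a ≠ 0 → b ≠ 0 → c ≠ 0 → d ≠ 0 → φ a = a →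
      a ^ (2 : ℤ) * b ^ (-1 : ℤ) * (c ^ (0 : ℤ) * φ c ^ (0 : ℤ)) * (d ^ (0 : ℤ) * φ d ^ (0 : ℤ)) = 1 →
      a ^ (-1 : ℤ) * b ^ (2 : ℤ) * (c ^ (-1 : ℤ) * φ c ^ (-1 : ℤ)) * (d ^ (0 : ℤ) * φ d ^ (0 : ℤ)) = 1 →
      a ^ (0 : ℤ) * b ^ (-1 : ℤ) * (c ^ (2 : ℤ) * φ c ^ (0 : ℤ)) * (d ^ (-1 : ℤ) * φ d ^ (0 : ℤ)) = 1 →
      a ^ (0 : ℤ) * b ^ (0 : ℤ) * (c ^ (-1 : ℤ) * φ c ^ (0 : ℤ)) * (d ^ (2 : ℤ) * φ d ^ (0 : ℤ)) = 1 →
      a ^ 3 = 1 ∧ b ^ 3 = 1 ∧ c ^ 3 = 1 ∧ d ^ 3 = 1 := by
    intro a b c d ha hb hc hd hfa g1 g2 g3 g4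
    have hφc : φ c ≠ 0 := (map_ne_zero φ).2 hc
    simp only [zpow_neg, zpow_ofNat, pow_one, pow_zero, mul_one, one_mul] at g1 g2 g3 g4
    apply kerE6 φ hfa ha hd
    · calc a ^ 2 = a ^ 2 * b⁻¹ * b := by rw [mul_assoc, inv_mul_cancel₀ hb, mul_one]
        _ = b := by rw [g1, one_mul]
    · calc b ^ 2 = a⁻¹ * b ^ 2 * (c⁻¹ * (φ c)⁻¹) * (a * (c * φ c)) := by field_simp
        _ = a * (c * φ c) := by rw [g2, one_mul]
    · calc c ^ 2 = b⁻¹ * c ^ 2 * d⁻¹ * (b * d) := by field_simp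
        _ = b * d := by rw [g3, one_mul]
    · calc d ^ 2 = c⁻¹ * d ^ 2 * c := by field_simp
        _ = c := by rw [g4, one_mul]
  obtain ⟨k0, k1, k2, k3⟩ := main _ _ _ _ (hne 0) (hne 1) (hne 2) (hne 3) hfix h1 h2 h3 h4
  have hall : ∀ i, ((t i : Fx φ ((Nodes.RGDTwNode.E6.rest i).length + 1)) : K) ^ 3 = 1 := by
    intro i
    fin_cases i
    · exact k0
    · exact k1
    · exact k2
    · exact k3
  apply Units.ext
  apply Subtype.ext
  rw [Units.val_pow_eq_pow_val, SubmonoidClass.coe_pow]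
  exact hall i

/-- **(T') for `²E₆(q)`.** -/
theorem eq_one_E6 {K : Type u} [Field K] [Fintype K] {q : ℕ} (hq : IsPrimePow q) (hK : Fintype.card K = q ^ 2)
    (ho : Odd (Fintype.card K)) {E : Type v} [Group E] [Finite E] (hE : commutator E = ⊤)
    (h2 : IsPGroup 2 ↥(center E)) (e : E ⧸ center E ≃* ↥(twistedE6 K q)) {z : E} (hz : z ∈ center E) : z = 1 := by
  obtain ⟨φ, hφ, hqq⟩ := exists_frob hq hK
  exact eq_one_of_odd (foldGrp hφ hqq) Nodes.RGDTwNode.E6.nodeOK (fun i s hs u => by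
      rw [Nodes.RGDTwNode.E6.eps_one i s hs, Int.cast_one, one_mul]) hE h2 e isCartan foldData ho (k := 3) (by decide)
      (fun t ht i => ker_E6 hφ hqq ht i) hz

end E6

/-! ### `³D₄(q)` -/

section D4

open Cfsg.Agent.Nodes.RGDTwD4

theorem cartan_tab4 : (chevD4.cartan 1 14 = 2 ∧ chevD4.cartan 0 14 = -1 ∧ chevD4.cartan 2 14 = -1 ∧
      chevD4.cartan 3 14 = -1) ∧
    (chevD4.cartan 1 18 = -1 ∧ chevD4.cartan 0 18 = 2 ∧ chevD4.cartan 2 18 = 0 ∧
      chevD4.cartan 3 18 = 0) := by decide +kernel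

theorem wt_prod4 {K : Type u} [Field K] (φ : K →+* K) (r : ℕ) (t : Fin 2 → K) :
    ∏ i, wt chevD4 φ (J i) r (t i) = t 0 ^ chevD4.cartan 1 r *
      (t 1 ^ chevD4.cartan 0 r * (φ (t 1) ^ chevD4.cartan 2 r * φ (φ (t 1)) ^ chevD4.cartan 3 r)) := by
  rw [Fin.prod_univ_two]
  show (t 0 ^ chevD4.cartan 1 r * 1) *
    (t 1 ^ chevD4.cartan 0 r * (φ (t 1) ^ chevD4.cartan 2 r * (φ (φ (t 1)) ^ chevD4.cartan 3 r * 1))) = _
  rw [mul_one, mul_one]

theorem ker_D4 {K : Type u} [Field K] {q : ℕ} {φ : K →+* K} (hφ : ∀ x, φ x = x ^ q)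
    (hle : twistedD4 K q ≤ D4Fixed.fix φ)
    {t : ∀ i, (Fx φ ((Nodes.RGDTwNode.D4.rest i).length + 1))ˣ}
    (ht : th (foldGrp hφ hle) Nodes.RGDTwNode.D4.nodeOK (fun i s hs u => by
      rw [Nodes.RGDTwNode.D4.eps_one i s hs, Int.cast_one, one_mul]) t = 1) (i : Fin 2) : t i ^ 1 = 1 := by
  have h := fun (r : ℕ) (hr : r < chevD4.nroots) => th_scalar _ _ _ ht hr
  have h1 := h 14 (by decide +kernel)
  have h2 := h 18 (by decide +kernel)
  obtain ⟨⟨a1, a2, a3, a4⟩, ⟨b1, b2, b3, b4⟩⟩ := cartan_tab4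
  have hne : ∀ i, ((t i : Fx φ ((Nodes.RGDTwNode.D4.rest i).length + 1)) : K) ≠ 0 := fun i h =>
    (t i).ne_zero (Subtype.ext h)
  have hfix : φ ((t 0 : Fx φ ((Nodes.RGDTwNode.D4.rest 0).length + 1)) : K) =
      ((t 0 : Fx φ ((Nodes.RGDTwNode.D4.rest 0).length + 1)) : K) := mem_Fx.1 (t 0).1.2
  have w1 := wt_prod4 φ 14 fun i => ((t i : Fx φ ((Nodes.RGDTwNode.D4.rest i).length + 1)) : K)
  have w2 := wt_prod4 φ 18 fun i => ((t i : Fx φ ((Nodes.RGDTwNode.D4.rest i).length + 1)) : K)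
  rw [w1, a1, a2, a3, a4] at h1
  rw [w2, b1, b2, b3, b4] at h2
  have main : ∀ a b : K, a ≠ 0 → b ≠ 0 → φ a = a →
      a ^ (2 : ℤ) * (b ^ (-1 : ℤ) * (φ b ^ (-1 : ℤ) * φ (φ b) ^ (-1 : ℤ))) = 1 →
      a ^ (-1 : ℤ) * (b ^ (2 : ℤ) * (φ b ^ (0 : ℤ) * φ (φ b) ^ (0 : ℤ))) = 1 →
      a = 1 ∧ b = 1 := by
    intro a b ha hb hfa g1 g2
    have hφb : φ b ≠ 0 := (map_ne_zero φ).2 hb
    have hφφb : φ (φ b) ≠ 0 := (map_ne_zero φ).2 hφb
    simp only [zpow_neg, zpow_ofNat, pow_one, pow_zero, mul_one] at g1 g2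
    apply kerD4 φ hfa ha
    · calc a ^ 2 = a ^ 2 * (b⁻¹ * ((φ b)⁻¹ * (φ (φ b))⁻¹)) * (b * (φ b * φ (φ b))) := by field_simp
        _ = b * (φ b * φ (φ b)) := by rw [g1, one_mul]
    · calc b ^ 2 = a⁻¹ * b ^ 2 * a := by field_simp
        _ = a := by rw [g2, one_mul]
  obtain ⟨k0, k1⟩ := main _ _ (hne 0) (hne 1) hfix h1 h2
  have hall : ∀ i, ((t i : Fx φ ((Nodes.RGDTwNode.D4.rest i).length + 1)) : K) = 1 := by
    intro i
    fin_cases i
    · exact k0
    · exact k1
  rw [pow_one]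
  apply Units.ext
  apply Subtype.ext
  exact hall i

/-- **(T') for `³D₄(q)`.** -/
theorem eq_one_D4 {K : Type u} [Field K] [Fintype K] {q : ℕ} (hq : IsPrimePow q) (hK : Fintype.card K = q ^ 3)
    (ho : Odd (Fintype.card K)) {E : Type v} [Group E] [Finite E] (hE : commutator E = ⊤)
    (h2 : IsPGroup 2 ↥(center E)) (e : E ⧸ center E ≃* ↥(twistedD4 K q)) {z : E} (hz : z ∈ center E) : z = 1 := by
  obtain ⟨φ, hφ⟩ := D4Fixed.exists_frob hq hK
  exact eq_one_of_odd (foldGrp hφ (D4Fixed.twisted_le_fix hK hφ)) Nodes.RGDTwNode.D4.nodeOK (fun i s hs u => by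
      rw [Nodes.RGDTwNode.D4.eps_one i s hs, Int.cast_one, one_mul]) hE h2 e isCartan foldData ho (k := 1) odd_one
      (fun t ht i => ker_D4 hφ (D4Fixed.twisted_le_fix hK hφ) ht i) hz

end D4

/-! ### The literal forms -/

section Literal

variable {F : Type} [Field F] [Fintype F] {q : ℕ} (hpp : IsPrimePow q) (ho : Odd (Fintype.card F)) {N : Type v}
  [Group N] [Finite N] (hq : IsQuasisimple N) (h2 : IsPGroup 2 ↥(center N)) {z : N} (hz : z ∈ center N)
  (hz2 : orderOf z = 2)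

include hpp ho hq h2 hz hz2

theorem false_TwE6 (hK : Fintype.card F = q ^ 2) (e : N ⧸ center N ≃* ↥(twistedE6 F q)) : False := by
  have h1 := eq_one_E6 hpp hK ho hq.1.commutator_eq_top h2 e hz
  rw [h1, orderOf_one] at hz2
  norm_num at hz2

theorem false_TwD4 (hK : Fintype.card F = q ^ 3) (e : N ⧸ center N ≃* ↥(twistedD4 F q)) : False := by
  have h1 := eq_one_D4 hpp hK ho hq.1.commutator_eq_top h2 e hz
  rw [h1, orderOf_one] at hz2
  norm_num at hz2

end Literal

end Cfsg.Agent.OddHalf.NI.ExcTw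
end

-- part: OddHalf/NI/FrameFactOf
section
/-!
# Assembly of the type fact (T') of node NI (helper598)

* `Row X` : (T') for `N / Z(N) = X`.
* `row_psl`, `row_psp`, `row_psu`, `row_E6` ...; `Open` : the rows which are not landed yet.
* `frameFact_of : Open → FrameFact`.
-/

set_option autoImplicit false

namespace Cfsg.Agent.OddHalf.NI.FrameFactOf

open Subgroup Cfsg
open SUOdd (Clo)

universe u

/-- (T') for the groups `N` with `N / Z(N) = X`. -/
def Row (X : Type) [Group X] : Prop :=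
  ∀ (N : Type u) [Group N] [Finite N], IsQuasisimple N → IsPGroup 2 ↥(center N) → Nonempty (N ⧸ center N ≃* X) →
    ∀ z ∈ center N, Even8 z → Nonempty (Frame N z)

theorem ne_one_of {N : Type*} [Group N] {z : N} (h : Even8 z) : z ≠ 1 := by
  rintro rfl
  have := h.1
  rw [orderOf_one] at this
  omega

theorem closed_iff_clo (S : Type) [Group S] : CoverOf.Closed2.{u, 0} S ↔ Clo.{u} S :=
  ⟨fun h E _ _ f hE hf hc h2 => h E f hf hc h2 hE, fun h E _ _ f hf hc h2 hE => h E f hE hf hc h2⟩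

section Rows

variable {F : Type} [Field F] [Fintype F]

theorem row_psl (hodd : Odd (Fintype.card F)) (h3 : 3 < Fintype.card F) {n : ℕ} (hn : 3 ≤ n) :
    Row.{u} (Matrix.ProjectiveSpecialLinearGroup (Fin n) F) := by
  rintro N _ _ hq h2 ⟨e⟩ z hz h8
  exact ClosedSL.frame hq h2 hodd h3 hn e hz h8

theorem row_psp (hodd : Odd (Fintype.card F)) (h3 : 3 < Fintype.card F) {m : ℕ} (hm : 2 ≤ m) :
    Row.{u} (PSp m F) := by
  rintro N _ _ hq h2 ⟨e⟩ z hz h8
  classical
  obtain ⟨φ, hs, hk⟩ := CoverOf.exists_cover hq.1.commutator_eq_top h2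
    (Cfsg.Agent.S0269.result m (Or.inr (Or.inr (by omega)))) (SpClosed.closed2 hodd (by omega)) e
  exact FrameSp.frame hodd h3 hm φ hs hk hz (ne_one_of h8)

theorem row_psu {q : ℕ} (hF : Fintype.card F = q ^ 2) (hodd : Odd (Fintype.card F)) (hq3 : 3 < q) {n : ℕ}
    (hn : 3 ≤ n) (hcl : Clo.{u} (SU n F q)) : Row.{u} (PSU n F q) := by
  rintro N _ _ hq h2 ⟨e⟩ z hz h8
  exact FrameSU.frame hq h2 hF (SUOdd.odd_q hF hodd) hq3 hn ((closed_iff_clo _).2 hcl) e hz h8

theorem row_G2 (ho : Odd (Fintype.card F)) : Row.{u} ↥(Lie.chevG2.group F) := by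
  rintro N _ _ hq h2 ⟨e⟩ z hz h8
  exact (ExcEnd.false_G2 ho hq h2 hz h8.1 e).elim

theorem row_F4 (ho : Odd (Fintype.card F)) : Row.{u} ↥(Lie.chevF4.group F) := by
  rintro N _ _ hq h2 ⟨e⟩ z hz h8
  exact (ExcEnd.false_F4 ho hq h2 hz h8.1 e).elim

theorem row_E6 (ho : Odd (Fintype.card F)) : Row.{u} ↥(Lie.chevE6.group F) := by
  rintro N _ _ hq h2 ⟨e⟩ z hz h8
  exact (ExcEnd.false_E6 ho hq h2 hz h8.1 e).elim

theorem row_E8 (ho : Odd (Fintype.card F)) : Row.{u} ↥(Lie.chevE8.group F) := by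
  rintro N _ _ hq h2 ⟨e⟩ z hz h8
  exact (ExcEnd.false_E8 ho hq h2 hz h8.1 e).elim

theorem row_E7 (ho : Odd (Fintype.card F)) (h3 : 3 < Fintype.card F) : Row.{u} ↥(Lie.chevE7.group F) := by
  rintro N _ _ hq h2 ⟨e⟩ z hz h8
  exact ExcEnd.frame_E7 ho hq h2 hz h8.1 h3 e

theorem row_twE6 {q : ℕ} (ho : Odd (Fintype.card F)) (hp : IsPrimePow q) (hF : Fintype.card F = q ^ 2) :
    Row.{u} ↥(Lie.twistedE6 F q) := by
  rintro N _ _ hq h2 ⟨e⟩ z hz h8
  exact (ExcTw.false_TwE6 hp ho hq h2 hz h8.1 hF e).elim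

theorem row_twD4 {q : ℕ} (ho : Odd (Fintype.card F)) (hp : IsPrimePow q) (hF : Fintype.card F = q ^ 3) :
    Row.{u} ↥(Lie.twistedD4 F q) := by
  rintro N _ _ hq h2 ⟨e⟩ z hz h8
  exact (ExcTw.false_TwD4 hp ho hq h2 hz h8.1 hF e).elim

end Rows

/-- The rows of (T') which are not landed yet. -/
structure Open : Prop where
  /-- helper448, helper601 -/
  omOdd : ∀ (F : Type) [Field F] [Fintype F] (m : ℕ), Odd (Fintype.card F) → 3 < Fintype.card F → 3 ≤ m →
    Row.{u} (POmega F (quadFormOdd m F))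
  /-- helper448, helper601 -/
  omPlus : ∀ (F : Type) [Field F] [Fintype F] (m : ℕ), Odd (Fintype.card F) → 3 < Fintype.card F → 4 ≤ m →
    Row.{u} (POmega F (quadFormPlus m F))
  /-- helper448, helper601 -/
  omMinus : ∀ (F : Type) [Field F] [Fintype F] (m : ℕ) (a b : F), Odd (Fintype.card F) → 3 < Fintype.card F → 4 ≤ m →
    (∀ z₁ z₂ : F, z₁ ^ 2 + a * z₁ * z₂ + b * z₂ ^ 2 = 0 → z₁ = 0 ∧ z₂ = 0) →
    Row.{u} (POmega F (quadFormMinus (m - 1) F a b))

/-- **(T') from its open rows.** -/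
theorem frameFact_of (h : Open.{u}) : FrameFact.{u} := by
  rintro N _ _ hq h2 ⟨F, _, _, ho, h3, hX⟩ z hz h8
  rcases hX with ⟨n, hn, he⟩ | ⟨m, hm, he⟩ | ⟨n, q, hq3, hF, hn, he⟩ | ⟨m, hm, he⟩ | ⟨m, hm, he⟩ |
    ⟨m, a, b, hm, hab, he⟩ | he | he | he | he | he | ⟨q, hqp, hq3, hF, he⟩ | ⟨q, hqp, hq3, hF, he⟩
  · exact row_psl ho h3 hn N hq h2 he z hz h8
  · exact row_psp ho h3 hm N hq h2 he z hz h8
  · refine row_psu hF ho hq3 hn ?_ N hq h2 he z hz h8
    have hev : ∀ k, 1 ≤ k → Clo.{u} (SU (2 * k) F q) := by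
      intro k hk
      rcases Nat.eq_or_lt_of_le hk with rfl | hk
      · exact SUOdd.clo_two ho
      · exact fun E _ _ f hE hf hc h2 => SUClosed.closed_SU hF (SUOdd.odd_q hF ho) hk hE hf hc h2
    rcases Nat.even_or_odd n with hn2 | hn2
    · obtain ⟨m, rfl⟩ : ∃ m, n = 2 * m := ⟨n / 2, by have := Nat.even_iff.1 hn2; omega⟩
      exact hev m (by omega)
    · obtain ⟨k, rfl⟩ := hn2
      exact SUOdd.clo_succ hF ho hq3 (even_two_mul k) (by omega) (hev k (by omega))
  · exact h.omOdd F m ho h3 hm N hq h2 he z hz h8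
  · exact h.omPlus F m ho h3 hm N hq h2 he z hz h8
  · exact h.omMinus F m a b ho h3 hm hab N hq h2 he z hz h8
  · exact row_G2 ho N hq h2 he z hz h8
  · exact row_F4 ho N hq h2 he z hz h8
  · exact row_E6 ho N hq h2 he z hz h8
  · exact row_E7 ho h3 N hq h2 he z hz h8
  · exact row_E8 ho N hq h2 he z hz h8
  · exact row_twE6 ho hqp hF N hq h2 he z hz h8
  · exact row_twD4 ho hqp hF N hq h2 he z hz h8

end Cfsg.Agent.OddHalf.NI.FrameFactOf
end

-- part: OddHalf/NI/OmegaPlusRow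
section
/-!
# (T') for `PΩ⁺_{2m}(q)`, `m ≥ 4` (ODD node NI; helper601)

* `sheet` : the sheet of `Ω⁺_{2m}(q)`;
* `row` : the row `omPlus` of `FrameFactOf.Open`.
-/

set_option autoImplicit false

namespace Cfsg.Agent.OddHalf.NI.OmegaPlusRow

open CoxeterSystem Cfsg.Agent.ChevalleyStructure.CoxeterGeom Cfsg.Agent.Tits.Roots
open Cfsg.Agent.LieClassical Cfsg.Agent.LieClassical.OrthCore Cfsg.Agent.LieClassical.OrthTrans
open Cfsg.Agent.LieClassical.OrthSimple Cfsg.Agent.LieClassical.OrthFinite Cfsg.Agent.LieClassical.OrthForms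
open Cfsg.Agent.TitsThree.KSideO Cfsg.Agent.Nodes Cfsg.Agent.Nodes.RGDOrth

universe u

/-- **The sheet of `Ω⁺_{2(n+2)}(q)`.** -/
noncomputable def sheet (F : Type) [Field F] [Fintype F] {p : ℕ} [Fact p.Prime] [CharP F p] (hp2 : Odd p)
    {n : ℕ} (hn : 1 ≤ n) : OmegaSheet.Sheet ↥(E (plusForm (n + 2) F)) p F :=
  let cs : CoxeterSystem (TypeD.M n) (TypeD.M n).Group := (TypeD.M n).toCoxeterSystem
  have hf : Finite (TypeD.M n).Group := TypeD.finite_W cs
  let _ : Fintype (TypeD.M n).Group := Fintype.ofFinite _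
  have h2 : (2 : F) ≠ 0 := LongSL.Orth.two_ne hp2
  { I := Fin (n + 2)
    W := (TypeD.M n).Group
    Mx := TypeD.M n
    cs := cs
    A := TypeD.A n
    h := TypeD.isCartan n
    T := OmegaPlus.T (wplus (n + 2) F)
    n := OmegaPlus.nE (wplus (n + 2) F) h2
    X := OmegaPlus.X (wplus (n + 2) F)
    R := {x | IsRoot cs (TypeD.isCartan n) x}
    Z := OmegaPlus.X (wplus (n + 2) F)
    z := OmegaPlus.zz (wplus (n + 2) F)
    cls := OmegaPlus.cls (wplus (n + 2) F) h2 hp2 (wplus_adm _ F) cs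
    gen := OmegaPlus.G1_eq_top (wplus (n + 2) F) cs (wplus_adm _ F)
    tr := OmegaPlus.tr cs hn
    sl := OmegaPlus.sl_root (wplus (n + 2) F) cs
    lnk := OmegaPlus.lnk cs hn
    Fi := fun _ => F
    s := OmegaPlus.s (wplus (n + 2) F)
    coord := OmegaPlus.coord (wplus (n + 2) F)
    θ := OmegaPlus.th (wplus (n + 2) F)
    hθ := OmegaPlus.th_single (wplus (n + 2) F)
    k1 := fun _ ht => OmegaPlus.k1 (wplus (n + 2) F) ht }

theorem good_plus (F : Type) [Field F] [Fintype F] {m : ℕ} (hm : 3 ≤ m) : Good (plusForm m F) := by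
  apply good_of_finite (nondeg_plusForm m F)
  rw [Module.finrank_fintype_fun_eq_card, Fintype.card_sum, Fintype.card_fin]
  omega

/-- **The row `omPlus` of (T').** -/
theorem row (F : Type) [Field F] [Fintype F] (m : ℕ) (ho : Odd (Fintype.card F)) (hc : 3 < Fintype.card F)
    (hm : 4 ≤ m) : FrameFactOf.Row.{u} (Cfsg.POmega F (Cfsg.quadFormPlus m F)) := by
  rintro N _ _ hq hZ ⟨e⟩ z hz h8
  obtain ⟨p, hpc⟩ := CharP.exists F
  have hp : Fact p.Prime := ⟨CharP.char_is_prime F p⟩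
  have hpo : Odd p := by
    rcases hp.out.eq_two_or_odd' with h | h
    · subst h
      exfalso
      obtain ⟨k, -, hk⟩ := FiniteField.card F 2
      rw [hk, Nat.odd_pow_iff k.ne_zero] at ho
      exact absurd ho (by decide)
    · exact h
  have hp2 : p ≠ 2 := by rintro rfl; exact absurd hpo (by decide)
  have h2 : (2 : F) ≠ 0 := LongSL.Orth.two_ne hpo
  obtain ⟨n, rfl⟩ : ∃ n, m = n + 2 := ⟨m - 2, by omega⟩
  rw [← coe_plusForm] at e
  refine OmegaSheet.frame_POmega (good_plus F (by omega)) hp.out hp2 h2 ho hc (sheet F hpo (n := n) (by omega)) ?_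
    hq.1.commutator_eq_top hZ e hz h8
  intro h4 t ht
  refine OmegaPlus.k2 (wplus (n + 2) F) (good_plus F (by omega)) ?_ ht
  rw [Fintype.card_sum, Fintype.card_fin] at h4
  rw [Nat.even_iff]
  omega

end Cfsg.Agent.OddHalf.NI.OmegaPlusRow
end
end

-- part: UGT/Res/WMany/End
section
set_option linter.all false
open scoped Cfsg.Agent.FastGrp

/-!
# Several points over `W`: the contradiction

`Fam.false_of`: `G` simple, `W ≠ 1`, the members of `𝓗` have one class of involutions, `C(t) ≤ N(W)` for an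
involution `t` of a member, `x` of type PGL on a member, and every element of type PGL on a member (with a
four-group of `C(x)` acting trivially on this member) is of type PGL on another one.
-/

set_option autoImplicit false
set_option linter.unusedSectionVars false

open Cfsg Subgroup
open Cfsg.Agent.SignalizersComponents Cfsg.Agent.Lib
open Cfsg.Agent.SignalizersComponents.IntrinsicBasic
open Cfsg.Agent.Intrinsic.Basic Cfsg.Agent.Intrinsic.Cen Cfsg.Agent.Intrinsic.Diag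
open Cfsg.Agent.McLLyComp.Act
open Cfsg.Agent.UGT.Triple Cfsg.Agent.UGT.PumpGen Cfsg.Agent.UGT.TriBase
open Cfsg.Agent.UGT.Res.Base Cfsg.Agent.UGT.Res.Abel Cfsg.Agent.UGT.Res.CoreFree
open Cfsg.Agent.UGT.Res.WFun Cfsg.Agent.UGT.Res.WPair
open scoped commutatorElement

namespace Cfsg.Agent.UGT.Res.WMany

variable {G : Type*} [Group G]

/-- the elements of PGL type: `P Z u` if `u` is an involution of `M0 W Z` of PGL type on `Z / O(Z)` -/
structure PT (W : Subgroup G) (𝓗 : Set (Subgroup G)) (P : Subgroup G → G → Prop) : Prop where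
  mem : ∀ Z ∈ 𝓗, ∀ u, P Z u → u ∈ M0 W Z
  sq : ∀ Z ∈ 𝓗, ∀ u, P Z u → u * u = 1
  nK : ∀ Z ∈ 𝓗, ∀ u, P Z u → u ∉ K0 W Z
  tr : ∀ Z ∈ 𝓗, ∀ x r, P Z x → r ∈ M0 W Z → r * r = 1 → r * x ∈ K0 W Z → P Z r
  kd : ∀ Z ∈ 𝓗, ∀ u, P Z u → ∀ U : Subgroup G, U ≤ M0 W Z → (∀ e ∈ U, e * e = 1) → u ∈ U →
    Nat.card ↥U ≤ 4 * Nat.card ↥(U ⊓ K0 W Z : Subgroup G)
  other : ∀ Z ∈ 𝓗, ∀ f, P Z f → HasFour (K0 W Z ⊓ centralizer ({f} : Set G)) →
    ∃ Z' ∈ 𝓗, Z' ≠ Z ∧ P Z' f

/-- `C_M(v)` has 2-rank at least 4 for all involutions `v ∈ M` -/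
def HR (W : Subgroup G) : Prop :=
  ∀ v ∈ normalizer (W : Set G), v * v = 1 → ∃ U : Subgroup G, U ≤ normalizer (W : Set G) ∧
    (∀ u ∈ U, u * u = 1) ∧ 16 ≤ Nat.card ↥U ∧ ∀ u ∈ U, u * v = v * u

/-- Aschbacher's criterion (S1175) -/
def Crit (G : Type*) [Group G] : Prop :=
  ∀ (M : Subgroup G), M ≠ ⊤ → ∀ z : G, orderOf z = 2 → z ∈ M →
    (∃ S : Sylow 2 G, z ∈ S ∧ ∀ s ∈ S, Commute s z) → (∀ g : G, g * z * g⁻¹ ∈ M → g ∈ M) →
    (∀ g : G, Commute z (g * z * g⁻¹) → g * z * g⁻¹ ≠ z →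
      Subgroup.centralizer ({z * (g * z * g⁻¹)} : Set G) ≤ M) →
    ∃ H : Subgroup G, Cfsg.IsStronglyEmbedded H

variable [Finite G] {W : Subgroup G} {𝓗 : Set (Subgroup G)}

/-! ### two members -/

theorem Fam.four_of_K0 (F : Fam W 𝓗) {X : Subgroup G} (hX : X ∈ 𝓗) {c : G} (hc : c ∈ K0 W X)
    (hcc : c * c = 1) : HasFour (X ⊓ centralizer ({c} : Set G)) := by
  obtain ⟨R, hR, hUR, -, hP⟩ := exists_R (W := W) (X := X) (zpowers_le.mpr (K0_le hc))
    (isPGroup_of_el (el_zpowers hcc))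
  refine (hasFour_of_isSyl hP (F.four_K0 hX)).mono fun p hp => mem_inf.mpr ⟨hp.2, ?_⟩
  exact mem_centralizer_singleton_iff.mpr
    (comm_of_K0 hR (hUR (mem_zpowers c)) hc hp.1 hp.2).symm

theorem Fam.false_of_two (F : Fam W 𝓗) {P : Subgroup G → G → Prop} (Q : PT W 𝓗 P)
    {X Y : Subgroup G} (hX : X ∈ 𝓗) (hY : Y ∈ 𝓗)
    (hXY : X ≠ Y) (hall : ∀ Z ∈ 𝓗, Z = X ∨ Z = Y) (hKK : ∀ f ∈ KK W 𝓗, f * f = 1 → f = 1)
    {x : G} (hx : P X x) (hR : HasFour (K0 W X ⊓ centralizer ({x} : Set G))) : False := by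
  obtain ⟨Z', hZ', hne', hPG'⟩ := Q.other X hX x hx hR
  obtain rfl : Z' = Y := (hall Z' hZ').resolve_left hne'
  obtain ⟨R₀, hR₀, hR2, hR4⟩ := hR
  have hxK := Q.nK X hX x hx
  have hxx := Q.sq X hX x hx
  have hRx : ∀ r ∈ R₀, r * x = x * r := fun r hr => comm_c (hR₀ hr).2
  have hxR : x ∉ R₀ := fun h => hxK (hR₀ h).1
  have hU2 := sq_sup_zpowers hR2 hxx hRx
  have c8 : 8 ≤ Nat.card ↥(R₀ ⊔ zpowers x : Subgroup G) := by
    have := card_sup_zpowers hxR
    omega
  have hRY : R₀ ≤ M0 W Z' := by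
    intro r hr
    have h1 := K0_le (hR₀ hr).1
    refine ⟨h1.1, mem_normalizer_iff_cj.mpr ?_⟩
    rcases hall _ (F.conj r h1.1 Z' hY) with h2 | h2
    · exfalso
      apply hXY
      have h3 := mem_normalizer_iff_cj.mp h1.2
      exact (cj_injective r (h2.trans h3.symm)).symm
    · exact h2
  have hUY : R₀ ⊔ zpowers x ≤ M0 W Z' := sup_le hRY (zpowers_le.mpr (Q.mem Z' hY x hPG'))
  have h1 := Q.kd Z' hY x hPG' _ hUY hU2 (mem_sup_right (mem_zpowers x))
  have h2 : (R₀ ⊔ zpowers x) ⊓ K0 W Z' ≠ ⊥ := by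
    intro h
    rw [h, card_bot] at h1
    omega
  obtain ⟨⟨f', hf'⟩, hf1'⟩ := (ne_bot_iff_exists_ne_one).mp h2
  have hf1 : f' ≠ 1 := fun h => hf1' (Subtype.ext h)
  have hcz : ∀ e ∈ R₀, ∀ f ∈ zpowers x, e * f = f * e := by
    intro e he f hf
    rcases (mem_zpowers_of_sq hxx).mp hf with rfl | rfl
    · rw [mul_one, one_mul]
    · exact hRx e he
  obtain ⟨r, hr, w, hw, hrw⟩ := (mem_sup_of_comm hcz).mp hf'.1
  have hmem : ∀ r ∈ R₀, r ∈ K0 W Z' → r = 1 := by
    intro r hr hrY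
    refine hKK r ?_ (hR2 r hr)
    rw [mem_KK]
    refine ⟨(K0_le hrY).1, fun Z hZ => ?_⟩
    rcases hall Z hZ with rfl | rfl
    · exact (hR₀ hr).1
    · exact hrY
  have hwx : w = x := by
    rcases (mem_zpowers_of_sq hxx).mp hw with h | h
    · exfalso
      rw [h, mul_one] at hrw
      have h3 : f' ∈ K0 W Z' := hf'.2
      rw [← hrw] at h3 hf1
      exact hf1 (hmem r hr h3)
    · exact h
  rw [hwx] at hrw
  have hrxK : r * x ∈ K0 W Z' := by
    rw [hrw]
    exact hf'.2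
  have hrPG := Q.tr Z' hY x r hPG' (hRY hr) (hR2 r hr) hrxK
  have hXr := F.four_of_K0 hX (hR₀ hr).1 (hR2 r hr)
  obtain ⟨Z, hZ, hZne, hZPG⟩ := Q.other Z' hY r hrPG
    (hXr.mono (inf_le_inf_right _ (F.le_K0 hY hX hXY)))
  obtain rfl : Z = X := (hall Z hZ).resolve_right hZne
  exact Q.nK Z hX r hZPG (hR₀ hr).1

theorem Fam.rank (F : Fam W 𝓗) {P : Subgroup G → G → Prop} (Q : PT W 𝓗 P) {X : Subgroup G}
    (hX : X ∈ 𝓗) {x : G} (hx : P X x) (hR : HasFour (K0 W X ⊓ centralizer ({x} : Set G))) :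
    HR W := by
  obtain ⟨Y, hY, hYX, -⟩ := Q.other X hX x hx hR
  intro v hv hvv
  by_cases h3 : ∃ Z ∈ 𝓗, Z ≠ X ∧ Z ≠ Y
  · obtain ⟨Z, hZ, h4, h5⟩ := h3
    exact F.exists_rank hv hvv (Or.inl ⟨X, hX, Y, hY, Z, hZ, hYX.symm, h4.symm, h5.symm⟩)
  push Not at h3
  by_cases hf : ∃ f ∈ KK W 𝓗, f * f = 1 ∧ f ≠ 1
  · exact F.exists_rank hv hvv (Or.inr ⟨⟨X, hX, Y, hY, hYX.symm⟩, hf⟩)
  · push Not at hf
    refine (F.false_of_two Q hX hY hYX.symm (fun Z hZ => ?_) hf hx hR).elim
    by_cases h : Z = X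
    · exact Or.inl h
    · exact Or.inr (h3 Z hZ h)

/-! ### (A) and (P) -/

theorem Fam.mem_of_conj (T : TwoBal G) (F : Fam W 𝓗) {X : Subgroup G} (hX : X ∈ 𝓗) (hr : HR W)
    {t : G} (hC : centralizer ({t} : Set G) ≤ normalizer (W : Set G)) (htt : t * t = 1) {g : G}
    (hg : g * t * g⁻¹ ∈ normalizer (W : Set G)) : g ∈ normalizer (W : Set G) := by
  have h1 : g * t * g⁻¹ * (g * t * g⁻¹) = 1 := by
    have : g * t * g⁻¹ * (g * t * g⁻¹) = g * (t * t) * g⁻¹ := by group
    rw [this, htt]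
    group
  obtain ⟨U, hU, hU2, h16, hc⟩ := hr _ hg h1
  have h2 : cj g⁻¹ U ≤ normalizer (W : Set G) := by
    intro c hcU
    apply hC
    rw [mem_cj, inv_inv] at hcU
    have h3 := hc _ hcU
    rw [mem_centralizer_singleton_iff]
    have h4 : c * t = g⁻¹ * (g * c * g⁻¹ * (g * t * g⁻¹)) * g := by group
    rw [h4, h3]
    group
  exact inv_mem_iff.mp (F.mem_of_rank T hX hU hU2 h16 h2)

/-- **`C(t t') ≤ M`** for commuting involutions `t`, `t'` in different members -/
theorem Fam.cent_mul (T : TwoBal G) (F : Fam W 𝓗) (hr : HR W) {X Y : Subgroup G} (hX : X ∈ 𝓗)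
    (hY : Y ∈ 𝓗) (hXY : X ≠ Y) {t t' : G} (ht : t ∈ X) (ht' : t' ∈ Y) (htt : t * t = 1)
    (htt' : t' * t' = 1) (ht1 : t ≠ 1) (ht1' : t' ≠ 1) (hc : t * t' = t' * t)
    (hC : centralizer ({t} : Set G) ≤ normalizer (W : Set G)) :
    centralizer ({t * t'} : Set G) ≤ normalizer (W : Set G) := by
  have hXN := (F.sys X hX).nW
  have hYN := (F.sys Y hY).nW
  have hinter : ∀ c : G, c ∈ X → c ∈ Y → c * c = 1 → c = 1 := fun c h1 h2 h3 =>
    F.eq_one_of_mem hX h1 h3 (F.le_K0 hX hY hXY.symm h2)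
  obtain ⟨p, hp⟩ : ∃ p, p = t * t' := ⟨_, rfl⟩
  rw [← hp]
  have hpt : p * t = t' := by rw [hp, hc, mul_assoc, htt, mul_one]
  have htp : t * p = t' := by rw [hp, ← mul_assoc, htt, one_mul]
  have hpp : p * p = 1 := by
    rw [hp]
    calc t * t' * (t * t') = t * (t' * t) * t' := by group
      _ = t * (t * t') * t' := by rw [hc]
      _ = (t * t) * (t' * t') := by group
      _ = 1 := by rw [htt, htt', one_mul]
  have hp1 : p ≠ 1 := by
    intro h
    rw [h, mul_one] at htp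
    exact ht1 (hinter t ht (htp ▸ ht') htt)
  have hpN : p ∈ normalizer (W : Set G) := by
    rw [hp]
    exact mul_mem (hXN ht) (hYN ht')
  have hA : ∀ g : G, g * t * g⁻¹ ∈ normalizer (W : Set G) → g ∈ normalizer (W : Set G) :=
    fun g hg => F.mem_of_conj T hX hr hC htt hg
  -- the support of `p`
  have hsupp : ∀ c ∈ normalizer (W : Set G), c * p * c⁻¹ = p →
      (X = cj c X ∨ X = cj c Y) ∧ (Y = cj c X ∨ Y = cj c Y) := by
    intro c hcN hcp
    have h1 : p = (c * t * c⁻¹) * (c * t' * c⁻¹) := by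
      rw [← hcp, hp]
      group
    have hcX := F.conj c hcN X hX
    have hcY := F.conj c hcN Y hY
    have h2 : ∀ Z ∈ 𝓗, Z ≠ cj c X → Z ≠ cj c Y → p ∈ K0 W Z := by
      intro Z hZ h3 h4
      rw [h1]
      exact mul_mem (F.le_K0 hZ hcX h3.symm (conj_mem_cj ht))
        (F.le_K0 hZ hcY h4.symm (conj_mem_cj ht'))
    constructor
    · by_contra h
      push Not at h
      have h3 := h2 X hX h.1 h.2
      refine ht1 (F.eq_one_of_mem hX ht htt ?_)
      have h4 : t = p * t' := by rw [hp, mul_assoc, htt', mul_one]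
      rw [h4]
      exact mul_mem h3 (F.le_K0 hX hY hXY.symm ht')
    · by_contra h
      push Not at h
      have h3 := h2 Y hY h.1 h.2
      refine ht1' (F.eq_one_of_mem hY ht' htt' ?_)
      rw [← hpt]
      exact mul_mem h3 (F.le_K0 hY hX hXY ht)
  have hcen : ∀ {c : G}, c ∈ centralizer ({p} : Set G) → c * p * c⁻¹ = p := by
    intro c h
    rw [comm_c h, mul_inv_cancel_right]
  have htC : t ∈ centralizer ({p} : Set G) :=
    mem_centralizer_singleton_iff.mpr (by rw [htp, hpt])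
  have htpne : t ≠ p := by
    intro h
    rw [h, hpp] at htp
    exact ht1' htp.symm
  obtain ⟨O, hO, hOodd, hOn, hOz⟩ := Cfsg.Agent.Cit.TwoB.zstar_mod
    (C := centralizer ({p} : Set G)) (z := p) (t := t) (mem_centralizer_singleton_iff.mpr rfl)
    (fun c h => comm_c h) hpp hp1 htC htt ht1 htpne (by
      intro g hg hgt
      obtain ⟨b, hb⟩ : ∃ b, b = g * t * g⁻¹ := ⟨_, rfl⟩
      obtain ⟨b', hb'⟩ : ∃ b', b' = g * t' * g⁻¹ := ⟨_, rfl⟩
      rw [← hb] at hgt ⊢
      have hbb : b * b = 1 := by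
        rw [hb]
        have : g * t * g⁻¹ * (g * t * g⁻¹) = g * (t * t) * g⁻¹ := by group
        rw [this, htt]
        group
      have hbb' : b' * b' = 1 := by
        rw [hb']
        have : g * t' * g⁻¹ * (g * t' * g⁻¹) = g * (t' * t') * g⁻¹ := by group
        rw [this, htt']
        group
      have hbp : p = b * b' := by
        rw [← hcen hg, hp, hb, hb']
        group
      have hbc : b * b' = b' * b := by
        rw [hb, hb']
        have h1 : g * t * g⁻¹ * (g * t' * g⁻¹) = g * (t * t') * g⁻¹ := by group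
        have h2 : g * t' * g⁻¹ * (g * t * g⁻¹) = g * (t' * t) * g⁻¹ := by group
        rw [h1, h2, hc]
      have hbN : b ∈ normalizer (W : Set G) := by
        rcases hgt with h | h
        · exact hC (mem_centralizer_singleton_iff.mpr h)
        · apply hA
          have h1 : b * t * b⁻¹ = t' := by
            rw [h]
            have h2 : p * (t * b) * b⁻¹ = p * t := by group
            rw [h2, hpt]
          rw [h1]
          exact hYN ht'
      have hgN : g ∈ normalizer (W : Set G) := by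
        apply hA
        rw [← hb]
        exact hbN
      obtain ⟨hs1, hs2⟩ := hsupp g hgN (hcen hg)
      have hbX : b ∈ cj g X := by
        rw [hb]
        exact conj_mem_cj ht
      have hbY : b' ∈ cj g Y := by
        rw [hb']
        exact conj_mem_cj ht'
      rcases hs1 with h1 | h1
      · -- `X ^ g = X`, `Y ^ g = Y`
        have h2 : Y = cj g Y := by
          rcases hs2 with h3 | h3
          · exact absurd (h1.trans h3.symm) hXY
          · exact h3
        rw [← h1] at hbX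
        rw [← h2] at hbY
        rcases hgt with h | h
        · left
          have h3 : t * b = t' * b' := by
            calc t * b = t * (b * (b' * b')) := by rw [hbb', mul_one]
              _ = t * (b * b') * b' := by group
              _ = t * (t * t') * b' := by rw [← hbp, hp]
              _ = (t * t) * t' * b' := by group
              _ = t' * b' := by rw [htt, one_mul]
          have h4 : t * b = 1 := by
            refine hinter _ (mul_mem ht hbX) (by rw [h3]; exact mul_mem ht' hbY) ?_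
            calc t * b * (t * b) = t * (b * t) * b := by group
              _ = t * (t * b) * b := by rw [h]
              _ = (t * t) * (b * b) := by group
              _ = 1 := by rw [htt, hbb, one_mul]
          have h5 : b = t⁻¹ := (eq_inv_of_mul_eq_one_right h4)
          rw [h5, inv_eq_of_mul_eq_one_left htt]
        · exfalso
          have h3 : p = b * t * (t * b)⁻¹ := by
            rw [h]
            group
          have h4 : p ∈ X := by
            rw [h3]
            exact mul_mem (mul_mem hbX ht) (inv_mem (mul_mem ht hbX))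
          exact ht1' (hinter t' (htp ▸ mul_mem ht h4) ht' htt')
      · -- `Y ^ g = X`, `X ^ g = Y`
        have h2 : Y = cj g X := by
          rcases hs2 with h3 | h3
          · exact h3
          · exact absurd (h1.trans h3.symm) hXY
        rw [← h2] at hbX
        rw [← h1] at hbY
        rcases hgt with h | h
        · right
          rw [hpt]
          have h3 : t * b' = t' * b := by
            calc t * b' = t * (b' * (b * b)) := by rw [hbb, mul_one]
              _ = t * (b' * b) * b := by group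
              _ = t * (t * t') * b := by rw [← hbc, ← hbp, hp]
              _ = (t * t) * t' * b := by group
              _ = t' * b := by rw [htt, one_mul]
          have h6 : b * p = p * b := by
            rw [hbp]
            calc b * (b * b') = b * (b' * b) := by rw [hbc]
              _ = b * b' * b := by group
          have h7 : t' * b = b * t' := by
            rw [← htp]
            calc t * p * b = t * (p * b) := by group
              _ = t * (b * p) := by rw [h6]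
              _ = (t * b) * p := by group
              _ = (b * t) * p := by rw [h]
              _ = b * (t * p) := by group
          have h4 : t' * b = 1 := by
            refine hinter _ (by rw [← h3]; exact mul_mem ht hbY) (mul_mem ht' hbX) ?_
            calc t' * b * (t' * b) = t' * (b * t') * b := by group
              _ = t' * (t' * b) * b := by rw [h7]
              _ = (t' * t') * (b * b) := by group
              _ = 1 := by rw [htt', hbb, one_mul]
          have h5 : b = t'⁻¹ := (eq_inv_of_mul_eq_one_right h4)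
          rw [h5, inv_eq_of_mul_eq_one_left htt']
        · exfalso
          have h3 : p = ⁅b, t⁆ := by
            rw [commutatorElement_def, h]
            group
          have h4 : p ∈ W := by
            rw [h3]
            exact F.comm Y hY X hX hXY.symm (commutator_mem_commutator hbX ht)
          exact hp1 (eq_one_of_sq_odd (F.odd_W hX) hpp h4))
  -- `O ≤ M`
  obtain ⟨U, hU, hU2, h16, hUc⟩ := hr p hpN hpp
  have hON : O ≤ normalizer (W : Set G) := by
    refine F.le_of_odd T hX hU hU2 h16 hOodd fun u hu => ?_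
    have h1 : u ∈ centralizer ({p} : Set G) := mem_centralizer_singleton_iff.mpr (hUc u hu)
    rw [mem_normalizer_iff]
    refine fun o => ⟨fun h => hOn u h1 o h, fun h => ?_⟩
    have h2 := hOn _ (inv_mem h1) _ h
    have h3 : u⁻¹ * (u * o * u⁻¹) * u⁻¹⁻¹ = o := by group
    rwa [h3] at h2
  intro c hcC
  apply hA
  have h1 : c * t * c⁻¹ * t ∈ normalizer (W : Set G) := by
    rcases hOz c hcC with h | h
    · exact hON h
    · exact (mul_mem_cancel_left hpN).mp (hON h)
  exact (mul_mem_cancel_right (hXN ht)).mp h1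

/-! ### the end -/

theorem Fam.false_of [IsSimpleGroup G] (T : TwoBal G) (hcrit : Crit G) (F : Fam W 𝓗) (hW : W ≠ ⊥)
    (one : ∀ Z ∈ 𝓗, ∀ s ∈ Z, ∀ t ∈ Z, s * s = 1 → t * t = 1 → s ≠ 1 → t ≠ 1 →
      ∃ h ∈ Z, h * s * h⁻¹ = t) {P : Subgroup G → G → Prop} (Q : PT W 𝓗 P)
    {X₀ : Subgroup G} (hX₀ : X₀ ∈ 𝓗)
    {x : G} (hx : P X₀ x) (hR : HasFour (K0 W X₀ ⊓ centralizer ({x} : Set G)))
    {X : Subgroup G} (hX : X ∈ 𝓗) {t : G} (ht : t ∈ X) (htt : t * t = 1) (ht1 : t ≠ 1)
    (hC : centralizer ({t} : Set G) ≤ normalizer (W : Set G)) : False := by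
  have hr := F.rank Q hX₀ hx hR
  have hA : ∀ g : G, g * t * g⁻¹ ∈ normalizer (W : Set G) → g ∈ normalizer (W : Set G) :=
    fun g hg => F.mem_of_conj T hX hr hC htt hg
  have hXN := (F.sys X hX).nW
  have htN := hXN ht
  have hto : orderOf t = 2 := orderOf_eq_prime (by rw [pow_two, htt]) ht1
  have hM : normalizer (W : Set G) ≠ ⊤ := by
    intro h
    have h1 : W.Normal := normalizer_eq_top_iff.mp h
    rcases h1.eq_bot_or_eq_top with h2 | h2
    · exact hW h2
    · refine ht1 (eq_one_of_sq_odd (F.odd_W hX) htt ?_)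
      rw [h2]
      exact mem_top t
  -- (P)
  have hP : ∀ g : G, Commute t (g * t * g⁻¹) → g * t * g⁻¹ ≠ t →
      centralizer ({t * (g * t * g⁻¹)} : Set G) ≤ normalizer (W : Set G) := by
    intro g hg hgt
    have h1 : g * t * g⁻¹ ∈ normalizer (W : Set G) :=
      hC (mem_centralizer_singleton_iff.mpr hg.eq.symm)
    have hgN := hA g h1
    obtain ⟨b, hb⟩ : ∃ b, b = g * t * g⁻¹ := ⟨_, rfl⟩
    have hbX : b ∈ cj g X := by
      rw [hb]
      exact conj_mem_cj ht
    have hbb : b * b = 1 := by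
      rw [hb]
      have : g * t * g⁻¹ * (g * t * g⁻¹) = g * (t * t) * g⁻¹ := by group
      rw [this, htt]
      group
    have hb1 : b ≠ 1 := by
      intro h
      rw [hb] at h
      apply ht1
      have h2 : t = g⁻¹ * (g * t * g⁻¹) * g := by group
      rw [h2, h]
      group
    rw [← hb] at hg hgt ⊢
    by_cases hXg : X = cj g X
    · rw [← hXg] at hbX
      have h2 : t * b * (t * b) = 1 := by
        calc t * b * (t * b) = t * (b * t) * b := by group
          _ = t * (t * b) * b := by rw [hg.eq]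
          _ = (t * t) * (b * b) := by group
          _ = 1 := by rw [htt, hbb, one_mul]
      have h3 : t * b ≠ 1 := by
        intro h
        apply hgt
        rw [eq_inv_of_mul_eq_one_right h, inv_eq_of_mul_eq_one_left htt]
      obtain ⟨h, hh, hht⟩ := one X hX t ht (t * b) (mul_mem ht hbX) htt h2 ht1 h3
      intro c hc
      have h4 : h⁻¹ * c * h ∈ centralizer ({t} : Set G) := by
        rw [mem_centralizer_singleton_iff]
        have h5 : c * (t * b) = (t * b) * c := comm_c hc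
        rw [← hht] at h5
        calc h⁻¹ * c * h * t = h⁻¹ * (c * (h * t * h⁻¹)) * h := by group
          _ = h⁻¹ * (h * t * h⁻¹ * c) * h := by rw [h5]
          _ = t * (h⁻¹ * c * h) := by group
      have h5 := mul_mem (mul_mem (hXN hh) (hC h4)) (inv_mem (hXN hh))
      have h6 : h * (h⁻¹ * c * h) * h⁻¹ = c := by group
      rwa [h6] at h5
    · exact F.cent_mul T hr hX (F.conj g hgN X hX) hXg ht hbX htt hbb ht1 hb1 hg.eq hC
  -- points
  have hfix : ∀ (p g : G), p • (QuotientGroup.mk g : G ⧸ normalizer (W : Set G)) =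
      QuotientGroup.mk g ↔ g⁻¹ * p * g ∈ normalizer (W : Set G) := by
    intro p g
    have e : p • (QuotientGroup.mk g : G ⧸ normalizer (W : Set G)) = QuotientGroup.mk (p * g) := rfl
    rw [e, eq_comm, QuotientGroup.eq, mul_assoc]
  have huniq : ∀ p : G, centralizer ({p} : Set G) ≤ normalizer (W : Set G) → p * p = 1 →
      ∀ a : G ⧸ normalizer (W : Set G), p • a = a → a = QuotientGroup.mk 1 := by
    intro p hCp hpp a ha
    obtain ⟨g, rfl⟩ := QuotientGroup.mk_surjective a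
    rw [hfix] at ha
    have h1 := F.mem_of_conj T hX hr hCp hpp (g := g⁻¹) (by rw [inv_inv]; exact ha)
    rw [eq_comm, QuotientGroup.eq, inv_one, one_mul]
    exact inv_mem_iff.mp h1
  have hset : Cfsg.Agent.AschCrit.Pure.PSetup G (G ⧸ normalizer (W : Set G)) t :=
    { invol := hto
      nontriv := by
        obtain ⟨g, hg⟩ : ∃ g : G, g ∉ normalizer (W : Set G) := by
          by_contra h
          push Not at h
          exact hM (eq_top_iff.mpr fun g _ => h g)
        refine ⟨QuotientGroup.mk 1, QuotientGroup.mk g, fun h => hg ?_⟩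
        rw [QuotientGroup.eq, inv_one, one_mul] at h
        exact h
      trans := by
        intro a b
        obtain ⟨a', rfl⟩ := QuotientGroup.mk_surjective a
        obtain ⟨b', rfl⟩ := QuotientGroup.mk_surjective b
        refine ⟨b' * a'⁻¹, ?_⟩
        change (QuotientGroup.mk (b' * a'⁻¹ * a') : G ⧸ normalizer (W : Set G)) = _
        rw [inv_mul_cancel_right]
      exists_fix := ⟨QuotientGroup.mk 1, by
        rw [hfix, inv_one, one_mul, mul_one]
        exact htN⟩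
      fix_unique := by
        intro a b ha hb
        rw [huniq t hC htt a ha, huniq t hC htt b hb]
      pure := by
        intro g hg hgt a b ha hb
        have h1 := hP g hg hgt
        have h2 : t * (g * t * g⁻¹) * (t * (g * t * g⁻¹)) = 1 := by
          have hbb : (g * t * g⁻¹) * (g * t * g⁻¹) = 1 := by
            have : g * t * g⁻¹ * (g * t * g⁻¹) = g * (t * t) * g⁻¹ := by group
            rw [this, htt]
            group
          have e1 : t * (g * t * g⁻¹) * (t * (g * t * g⁻¹)) =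
            t * ((g * t * g⁻¹) * t) * (g * t * g⁻¹) := by group
          rw [e1, ← hg.eq]
          have e2 : t * (t * (g * t * g⁻¹)) * (g * t * g⁻¹) =
            (t * t) * ((g * t * g⁻¹) * (g * t * g⁻¹)) := by group
          rw [e2, htt, hbb, one_mul]
        rw [huniq _ h1 h2 a ha, huniq _ h1 h2 b hb] }
  obtain ⟨H, hH⟩ := hcrit _ hM t hto htN hset.setup.central hA hP
  -- `t t'`
  obtain ⟨Y, hY, hYX₀, -⟩ := Q.other X₀ hX₀ x hx hR
  obtain ⟨Y, hY, hYX⟩ : ∃ Y ∈ 𝓗, Y ≠ X := by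
    by_cases h : X = X₀
    · rw [h]
      exact ⟨Y, hY, hYX₀⟩
    · exact ⟨X₀, hX₀, Ne.symm h⟩
  obtain ⟨V, hV, hV2, hV4⟩ := F.four_of_K0 hY (F.le_K0 hY hX hYX.symm ht) htt
  obtain ⟨b, hbV, hb1, -⟩ := exists_ne (B := V) (by omega) 1
  have hbb := hV2 b hbV
  have hbY : b ∈ Y := (hV hbV).1
  have hbt : b * t = t * b := comm_c (hV hbV).2
  have hinter : ∀ c : G, c ∈ X → c ∈ Y → c * c = 1 → c = 1 := fun c h1 h2 h3 =>
    F.eq_one_of_mem hX h1 h3 (F.le_K0 hX hY hYX h2)
  have hpp : t * b * (t * b) = 1 := by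
    calc t * b * (t * b) = t * (b * t) * b := by group
      _ = t * (t * b) * b := by rw [hbt]
      _ = (t * t) * (b * b) := by group
      _ = 1 := by rw [htt, hbb, one_mul]
  have hp1 : t * b ≠ 1 := by
    intro h
    apply ht1
    refine hinter t ht ?_ htt
    rw [eq_inv_of_mul_eq_one_left h]
    exact inv_mem hbY
  obtain ⟨g, hg⟩ := isConj_iff.mp (Cfsg.Agent.TwoFusion.StronglyEmbeddedBasic.isConj_of_involutions
    hH t (t * b) hto (orderOf_eq_prime (by rw [pow_two, hpp]) hp1))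
  have hgN : g ∈ normalizer (W : Set G) := by
    apply hA
    rw [hg]
    exact mul_mem htN ((F.sys Y hY).nW hbY)
  have hZ := F.conj g hgN X hX
  have hpZ : t * b ∈ cj g X := by
    rw [← hg]
    exact conj_mem_cj ht
  have hb' : b = t * (t * b) := by rw [← mul_assoc, htt, one_mul]
  have ht' : t = (t * b) * b := by rw [mul_assoc, hbb, mul_one]
  by_cases h1 : cj g X = X
  · rw [h1] at hpZ
    exact hb1 (hinter b (hb' ▸ mul_mem ht hpZ) hbY hbb)
  · by_cases h2 : cj g X = Y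
    · rw [h2] at hpZ
      exact ht1 (hinter t ht (by rw [ht']; exact mul_mem hpZ hbY) htt)
    · refine ht1 (F.eq_one_of_mem hX ht htt ?_)
      rw [ht']
      exact mul_mem (F.le_K0 hX hZ h1 hpZ) (F.le_K0 hX hY hYX hbY)

end Cfsg.Agent.UGT.Res.WMany
end
end
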